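import Cfsg.Agent.Lib.UnitaryMax.Comp
import Cfsg.Agent.Lib.UnitaryMax.FrameEq
import Cfsg.Agent.Lib.UnitaryMax.Decomp

/-!
Tools for the geometric subgroups of the special unitary group in small dimension: Witt's theorem with
determinant one, and orthogonal anisotropic pairs.
-/

set_option autoImplicit false
set_option linter.unusedSectionVars false

namespace Cfsg.Agent.Lib.GeoTypesSU4

open Matrix Cfsg.Agent.Lib.Forms Cfsg.Agent.Lib.FormMax Cfsg.Agent.Lib.UnitaryMax

variable {F : Type*} [Field F] [Fintype F] {n q : ℕ}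

local notation "Vs" => (Fin n → F)
local notation "h" => Cfsg.hermForm n F q

variable (hF : Fintype.card F = q ^ 2)
include hF

/-- A family of pairwise orthogonal anisotropic vectors is independent. -/
theorem indep_of_orth {ι : Type*} [Finite ι] (v : ι → Vs) (horth : ∀ i j, i ≠ j → h (v i) (v j) = 0)
    (hne : ∀ i, h (v i) (v i) ≠ 0) : LinearIndependent F v := by
  classical
  cases nonempty_fintype ι
  refine Fintype.linearIndependent_iff.mpr fun c hc i => ?_
  have h1 := congrArg (h · (v i)) hc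
  simp only [herm_sum_left hF, herm_smul_left hF, h_zero_left hF] at h1
  rw [Finset.sum_eq_single i (fun j _ hj => by rw [horth j i hj, mul_zero]) (by simp)] at h1
  exact (mul_eq_zero.mp h1).resolve_right (hne i)

/-- Two families with the same Gram matrix differ by an element of determinant one, provided the second one
has an anisotropic orthogonal vector. -/
theorem exists_su_witt {m : ℕ} (v w : Fin m → Vs) (hv : LinearIndependent F v) (hw : LinearIndependent F w)
    (hgram : ∀ i j, h (v i) (v j) = h (w i) (w j)) {z : Vs} (hz : h z z ≠ 0) (hzw : ∀ i, h (w i) z = 0) :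
    ∃ g ∈ suGL n F q, ∀ i, (g : Matrix (Fin n) (Fin n) F) *ᵥ v i = w i := by
  obtain ⟨e, he, hev⟩ := (hermSesq_goodForm (n := n) hF).witt_family v w hv hw fun i j => by
    rw [hermSesq_apply, hermSesq_apply]; exact hgram j i
  set M := LinearMap.toMatrix' e.toLinearMap with hMdef
  have hM : ∀ x, M *ᵥ x = e x := fun x => by
    rw [hMdef, ← Matrix.toLin'_apply, Matrix.toLin'_toMatrix']; rfl
  have hdet : M.det ≠ 0 := by
    rw [hMdef, LinearMap.det_toMatrix']
    exact (LinearEquiv.isUnit_det' e).ne_zero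
  set G := Matrix.GeneralLinearGroup.mkOfDetNeZero M hdet with hG
  have hGU : G ∈ Cfsg.GU n F q := fun a b => by
    show h (M *ᵥ a) (M *ᵥ b) = h a b
    rw [hM, hM]
    simpa using he b a
  set d := M.det with hd
  have hd1 : d * d ^ q = 1 := det_conj_mul hF hGU
  have hd0 : d ≠ 0 := left_ne_zero_of_mul_eq_one hd1
  obtain ⟨r, hr, hrd, hrv⟩ := qr_matrix hF z ((d⁻¹ - 1) / h z z) (by
    rw [div_pow, q_sub hF, one_pow, herm_conj hF, inv_pow]
    field_simp
    linear_combination -hd1)
  refine ⟨r * G, mem_GU_det_one (mul_mem hr hGU) ?_, fun i => ?_⟩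
  · rw [Units.val_mul, det_mul, hrd, div_mul_cancel₀ _ hz, add_sub_cancel]
    show d⁻¹ * M.det = 1
    rw [← hd, inv_mul_cancel₀ hd0]
  · rw [Units.val_mul, ← mulVec_mulVec]
    show (r : Matrix (Fin n) (Fin n) F) *ᵥ (M *ᵥ v i) = w i
    rw [hM, hev, hrv, hzw, mul_zero, zero_smul, add_zero]

/-- Orthogonal anisotropic pairs with the same norms are moved to one another. -/
theorem exists_su_pair {a b a' b' z : Vs} (hab : h a b = 0) (hab' : h a' b' = 0) (ha : h a a ≠ 0) (hb : h b b ≠ 0)
    (e1 : h a' a' = h a a) (e2 : h b' b' = h b b) (hz : h z z ≠ 0) (hza : h a' z = 0) (hzb : h b' z = 0) :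
    ∃ g ∈ suGL n F q, (g : Matrix (Fin n) (Fin n) F) *ᵥ a = a' ∧ (g : Matrix (Fin n) (Fin n) F) *ᵥ b = b' := by
  obtain ⟨g, hg, hgv⟩ := exists_su_witt hF ![a, b] ![a', b']
    (indep_of_orth hF _ (by
        rw [Fin.forall_fin_two]
        exact ⟨Fin.forall_fin_two.mpr ⟨fun e => absurd rfl e, fun _ => hab⟩,
          Fin.forall_fin_two.mpr ⟨fun _ => h_symm hF hab, fun e => absurd rfl e⟩⟩)
      (Fin.forall_fin_two.mpr ⟨ha, hb⟩))
    (indep_of_orth hF _ (by
        rw [Fin.forall_fin_two]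
        exact ⟨Fin.forall_fin_two.mpr ⟨fun e => absurd rfl e, fun _ => hab'⟩,
          Fin.forall_fin_two.mpr ⟨fun _ => h_symm hF hab', fun e => absurd rfl e⟩⟩)
      (Fin.forall_fin_two.mpr ⟨e1.trans_ne ha, e2.trans_ne hb⟩))
    (Fin.forall_fin_two.mpr ⟨Fin.forall_fin_two.mpr ⟨e1.symm, hab.trans hab'.symm⟩,
      Fin.forall_fin_two.mpr ⟨(h_symm hF hab).trans (h_symm hF hab').symm, e2.symm⟩⟩)
    hz (Fin.forall_fin_two.mpr ⟨hza, hzb⟩)
  exact ⟨g, hg, hgv 0, hgv 1⟩

/-- The whole space is nondegenerate. -/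
theorem nondeg_top : Nondeg q (⊤ : Submodule F Vs) := fun _ _ hx => by
  obtain ⟨y, hy⟩ := exists_h_ne hF hx
  exact ⟨y, Submodule.mem_top, hy⟩

end Cfsg.Agent.Lib.GeoTypesSU4
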