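import Cfsg.Agent.Lib.UnitaryMax.FrameEq
import Mathlib.NumberTheory.LegendreSymbol.QuadraticChar.Basic

/-!
Arithmetic in a field with `q ^ 2` elements for the frame stabiliser in dimension four.
-/

set_option autoImplicit false
set_option linter.unusedSectionVars false

namespace Cfsg.Agent.Lib.GeoTypesSU4

open Cfsg.Agent.Lib Cfsg.Agent.Lib.Forms Cfsg.Agent.Lib.UnitaryMax

section Char

variable {K : Type*} [Field K] [Fintype K] [DecidableEq K] (hK : ringChar K ≠ 2)
include hK

/-- The correlation of the quadratic character with a translate. -/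
theorem sum_quadraticChar_mul_sub {a b : K} (hab : a ≠ b) :
    ∑ w : K, quadraticChar K (w - a) * quadraticChar K (w - b) = -1 := by
  rw [← Equiv.sum_comp (Equiv.addRight a) (fun w => quadraticChar K (w - a) * quadraticChar K (w - b))]
  simp only [Equiv.coe_addRight, add_sub_cancel_right]
  set c := b - a with hc
  have hc0 : c ≠ 0 := sub_ne_zero.mpr hab.symm
  rw [Finset.sum_congr rfl fun u _ => by rw [show u + a - b = u - c by rw [hc]; ring],
    ← Finset.sum_erase_add _ _ (Finset.mem_univ (0 : K)), quadraticChar_zero, zero_mul, add_zero]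
  have key : ∑ u ∈ Finset.univ.erase (0 : K), quadraticChar K u * quadraticChar K (u - c)
      = ∑ v ∈ Finset.univ.erase (1 : K), quadraticChar K v := by
    refine Finset.sum_bij' (fun u _ => 1 - c / u) (fun v _ => c / (1 - v)) ?_ ?_ ?_ ?_ ?_
    · intro u hu
      rw [Finset.mem_erase] at hu ⊢
      exact ⟨fun e => div_ne_zero hc0 hu.1 (by linear_combination -e), Finset.mem_univ _⟩
    · intro v hv
      rw [Finset.mem_erase] at hv ⊢
      exact ⟨div_ne_zero hc0 (sub_ne_zero.mpr hv.1.symm), Finset.mem_univ _⟩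
    · intro u hu
      rw [Finset.mem_erase] at hu
      simp [hc0]
    · intro v hv
      rw [Finset.mem_erase] at hv
      have : (1 : K) - v ≠ 0 := sub_ne_zero.mpr hv.1.symm
      field_simp
      ring
    · intro u hu
      rw [Finset.mem_erase] at hu
      rw [← map_mul, show u * (u - c) = u ^ 2 * (1 - c / u) by have := hu.1; field_simp, map_mul,
        quadraticChar_sq_one' hu.1, one_mul]
  rw [key]
  have h := quadraticChar_sum_zero hK
  rw [← Finset.sum_erase_add _ _ (Finset.mem_univ (1 : K)), map_one] at h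
  linear_combination h

/-- A square `w` making both products `w (w - a)` and `w (w - b)` non-squares or zero. -/
theorem exists_pattern {a b : K} (hneg : quadraticChar K (-1) = -1) (ha : quadraticChar K a = 1)
    (hb : quadraticChar K b = -1) :
    ∃ w : K, quadraticChar K w = 1 ∧ quadraticChar K (w * (w - a)) ≠ 1 ∧
      quadraticChar K (w * (w - b)) ≠ 1 := by
  set χ := quadraticChar K with hχ
  have ha0 : a ≠ 0 := fun e => by rw [e, quadraticChar_zero] at ha; exact zero_ne_one ha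
  have hb0 : b ≠ 0 := fun e => by rw [e, quadraticChar_zero] at hb; simp at hb
  have hab : a ≠ b := fun e => by rw [e, hb] at ha; simp at ha
  have hbd : ∀ x, -1 ≤ χ x ∧ χ x ≤ 1 := fun x => by
    rcases eq_or_ne x 0 with rfl | hx
    · rw [hχ, quadraticChar_zero]; simp
    · rcases quadraticChar_dichotomy hx with e | e <;> rw [hχ, e] <;> simp
  have hshift : ∀ c : K, ∑ w : K, χ (w - c) = 0 := fun c => by
    rw [← quadraticChar_sum_zero hK]
    exact Equiv.sum_comp (Equiv.subRight c) (fun x => quadraticChar K x)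
  have h1 : ∑ w : K, χ w * χ (w - a) = -1 := by
    have e := sum_quadraticChar_mul_sub hK (a := (0 : K)) (b := a) ha0.symm
    rw [hχ]
    simp only [sub_zero] at e
    exact e
  have h2 : ∑ w : K, χ w * χ (w - b) = -1 := by
    have e := sum_quadraticChar_mul_sub hK (a := (0 : K)) (b := b) hb0.symm
    rw [hχ]
    simp only [sub_zero] at e
    exact e
  have h3 := sum_quadraticChar_mul_sub hK hab
  have hE : -(Fintype.card K : ℤ) ≤ ∑ w : K, χ w * χ (w - a) * χ (w - b) := by
    calc -(Fintype.card K : ℤ) = ∑ _w : K, (-1 : ℤ) := by simp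
      _ ≤ _ := Finset.sum_le_sum fun w _ => by
        obtain ⟨p1, p2⟩ := hbd w
        obtain ⟨p3, p4⟩ := hbd (w - a)
        obtain ⟨p5, p6⟩ := hbd (w - b)
        interval_cases hw1 : χ w <;> interval_cases hw2 : χ (w - a) <;> omega
  have hsum : ∑ w : K, (1 + χ w) * ((1 - χ (w - a)) * (1 - χ (w - b))) =
      (Fintype.card K : ℤ) + 1 + ∑ w : K, χ w * χ (w - a) * χ (w - b) := by
    have e : ∀ w : K, (1 + χ w) * ((1 - χ (w - a)) * (1 - χ (w - b))) =
        1 + χ w - χ (w - a) - χ (w - b) - χ w * χ (w - a) - χ w * χ (w - b)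
          + χ (w - a) * χ (w - b) + χ w * χ (w - a) * χ (w - b) := fun w => by ring
    simp only [e, Finset.sum_add_distrib, Finset.sum_sub_distrib, hshift]
    rw [h1, h2, h3, quadraticChar_sum_zero hK]
    simp
  obtain ⟨w, -, hw⟩ := Finset.exists_ne_zero_of_sum_ne_zero (s := Finset.univ)
    (f := fun w : K => (1 + χ w) * ((1 - χ (w - a)) * (1 - χ (w - b)))) (by omega)
  obtain ⟨hw1, hw2⟩ := mul_ne_zero_iff.mp hw
  obtain ⟨hwa, hwb⟩ := mul_ne_zero_iff.mp hw2
  have hw0 : w ≠ 0 := fun e => hwb (by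
    rw [e, zero_sub, hχ, ← neg_one_mul b, map_mul, hneg, hb]; norm_num)
  have hw1' : χ w = 1 := by
    rcases quadraticChar_dichotomy hw0 with e | e
    · exact e
    · rw [hχ, e] at hw1; simp at hw1
  refine ⟨w, hw1', ?_, ?_⟩
  · rw [map_mul, hw1', one_mul]; exact fun e => hwa (by rw [e, sub_self])
  · rw [map_mul, hw1', one_mul]; exact fun e => hwb (by rw [e, sub_self])

end Char

variable {F : Type*} [Field F] [Fintype F] {q : ℕ} (hF : Fintype.card F = q ^ 2)
include hF

theorem fixed_norm (z : F) : (z * z ^ q) ^ q = z * z ^ q := by rw [mul_pow, pow_q_pow_q hF, mul_comm]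

theorem two_pow_q : (2 : F) ^ q = 2 := by rw [← qPowHom_apply hF, map_ofNat]

/-- Every fixed element has a square root in the big field. -/
theorem exists_sqrt {v : F} (hv : v ^ q = v) : ∃ r : F, r * r = v ∧ (r ^ q = r ∨ r ^ q = -r) := by
  obtain ⟨r, hr⟩ : IsSquare v := by
    by_cases h2 : ringChar F = 2
    · exact FiniteField.isSquare_of_char_two h2 v
    rcases eq_or_ne v 0 with rfl | hv0
    · exact IsSquare.zero
    rw [FiniteField.isSquare_iff h2 hv0, hF]
    have hq := two_le_of_card_sq hF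
    have hodd : q % 2 = 1 := by
      rcases Nat.mod_two_eq_zero_or_one q with e | e
      · exfalso
        refine h2 (FiniteField.even_card_iff_char_two.mpr ?_)
        rw [hF, Nat.pow_mod, e]
      · exact e
    have h1 : v ^ (q - 1) = 1 := by
      refine mul_left_cancel₀ hv0 ?_
      rw [← pow_succ', Nat.sub_add_cancel (by omega), hv, mul_one]
    have h3 : q ^ 2 / 2 = (q - 1) * ((q + 1) / 2) := by
      obtain ⟨m, rfl⟩ : ∃ m, q = 2 * m + 1 := ⟨q / 2, by omega⟩
      rw [show (2 * m + 1 + 1) / 2 = m + 1 by omega,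
        show (2 * m + 1) ^ 2 = 2 * (2 * m * (m + 1)) + 1 by ring,
        show 2 * m + 1 - 1 = 2 * m by omega]
      omega
    rw [h3, pow_mul, h1, one_pow]
  refine ⟨r, hr.symm, ?_⟩
  exact mul_self_eq_mul_self_iff.mp (by rw [← mul_pow, ← hr, hv])

/-- The values `N (x + φ x ^ q)` as norms of sums of two phases. -/
theorem exists_pair_solution {x s w φ : F} (hx : x ≠ 0) (hw0 : w ≠ 0) (hs : s * s ^ q = w)
    (hφ : φ * φ ^ q = 1) (hw : w = (x * x ^ q) * (2 + (φ + φ ^ q))) :
    ∃ α β : F, α * α ^ q = 1 ∧ β * β ^ q = 1 ∧ α * x + β * x ^ q = s ∧ α * β * w = s * s := by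
  have hxq : x ^ q ≠ 0 := pow_ne_zero _ hx
  have hN : (x * (1 + φ)) * (x * (1 + φ)) ^ q = w := by
    rw [mul_pow, q_add hF, one_pow, hw]; linear_combination (x * x ^ q) * hφ
  have hne : x * (1 + φ) ≠ 0 := fun e => hw0 (by rw [← hN, e, zero_mul])
  obtain ⟨lam, hlam⟩ : ∃ lam, lam = s / (x * (1 + φ)) := ⟨_, rfl⟩
  have hlam1 : lam * lam ^ q = 1 := by
    rw [hlam, div_pow, div_mul_div_comm, hs, hN, div_self hw0]
  have hls : lam * (x * (1 + φ)) = s := by rw [hlam, div_mul_cancel₀ _ hne]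
  refine ⟨lam, lam * φ * (x / x ^ q), hlam1, ?_, ?_, ?_⟩
  · rw [mul_pow, mul_pow, div_pow, pow_q_pow_q hF]
    field_simp
    linear_combination (φ * φ ^ q) * hlam1 + hφ
  · rw [mul_assoc (lam * φ), div_mul_cancel₀ _ hxq]; linear_combination hls
  · rw [← hls, hw, show lam * (lam * φ * (x / x ^ q)) * (x * x ^ q * (2 + (φ + φ ^ q))) =
        lam * lam * φ * x * x * (2 + (φ + φ ^ q)) * (x ^ q / x ^ q) by ring, div_self hxq]
    linear_combination (lam * lam * x * x) * hφ

/-- Phases annihilating two conjugate pairs, with product one. -/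
theorem exists_orth_phases {x y : F} (hx : x ≠ 0) (hy : y ≠ 0) :
    ∃ α β γ δ : F, α * α ^ q = 1 ∧ β * β ^ q = 1 ∧ γ * γ ^ q = 1 ∧ δ * δ ^ q = 1 ∧
      α * x + β * x ^ q + (γ * y + δ * y ^ q) = 0 ∧ α * β * γ * δ = 1 := by
  classical
  have hxq : x ^ q ≠ 0 := pow_ne_zero _ hx
  have hyq : y ^ q ≠ 0 := pow_ne_zero _ hy
  obtain ⟨a, ha⟩ : ∃ a, a = x * x ^ q := ⟨_, rfl⟩
  obtain ⟨b, hb⟩ : ∃ b, b = y * y ^ q := ⟨_, rfl⟩
  have haq : a ^ q = a := ha ▸ fixed_norm hF x
  have hbq : b ^ q = b := hb ▸ fixed_norm hF y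
  have ha0 : a ≠ 0 := ha ▸ mul_ne_zero hx hxq
  have hb0 : b ≠ 0 := hb ▸ mul_ne_zero hy hyq
  by_cases hsq : ∃ c : F, c ^ q = c ∧ c * c = a * b
  · obtain ⟨c, hcq, hc⟩ := hsq
    have hc0 : c ≠ 0 := fun e => mul_ne_zero ha0 hb0 (by rw [← hc, e, zero_mul])
    obtain ⟨α, hα⟩ : ∃ α, α = (x * y) ^ q / c := ⟨_, rfl⟩
    have hα1 : α * α ^ q = 1 := by
      rw [hα, div_pow, hcq, pow_q_pow_q hF, mul_pow, div_mul_div_comm, hc, ha, hb]
      field_simp
    refine ⟨α, -(α * x) / x ^ q, 1, -y / y ^ q, hα1, ?_, by simp, ?_, ?_, ?_⟩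
    · rw [div_pow, q_neg hF, mul_pow, pow_q_pow_q hF, div_mul_div_comm]
      field_simp
      linear_combination hα1
    · rw [div_pow, q_neg hF, pow_q_pow_q hF, div_mul_div_comm]
      field_simp
    · rw [div_mul_cancel₀ _ hxq, div_mul_cancel₀ _ hyq]; ring
    · have h1 : α * α * (x * y) = x ^ q * y ^ q := by
        rw [hα, mul_pow]; field_simp; rw [sq, hc, ha, hb]; ring
      field_simp
      linear_combination h1
  -- the product of the norms is not a square
  have h2 : (2 : F) ≠ 0 := by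
    intro h2
    obtain ⟨r, hr, hrq⟩ := exists_sqrt hF (v := a * b) (by rw [mul_pow, haq, hbq])
    refine hsq ⟨r, hrq.elim id (fun e => ?_), hr⟩
    rw [e]; linear_combination (-r) * h2
  suffices hgoal : ∃ w s φ ψ : F, w ≠ 0 ∧ s * s ^ q = w ∧ φ * φ ^ q = 1 ∧ ψ * ψ ^ q = 1 ∧
      w = a * (2 + (φ + φ ^ q)) ∧ w = b * (2 + (ψ + ψ ^ q)) ∧ (s * s) * (s * s) = w * w by
    obtain ⟨w, s, φ, ψ, hw0, hs, hφ, hψ, hwa, hwb, hss⟩ := hgoal
    obtain ⟨α, β, hα, hβ, he1, hp1⟩ := exists_pair_solution hF hx hw0 hs hφ (ha ▸ hwa)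
    obtain ⟨γ, δ, hγ, hδ, he2, hp2⟩ := exists_pair_solution hF hy hw0 (s := -s)
      (by rw [q_neg hF, neg_mul_neg, hs]) hψ (hb ▸ hwb)
    refine ⟨α, β, γ, δ, hα, hβ, hγ, hδ, by rw [he1, he2, add_neg_cancel], ?_⟩
    refine mul_right_cancel₀ (mul_ne_zero hw0 hw0) ?_
    linear_combination (γ * δ * w) * hp1 + (s * s) * hp2 + hss
  let K : Subfield F := (qPowHom hF).eqLocusField (RingHom.id F)
  have hKmem : ∀ z : F, z ∈ K ↔ z ^ q = z := fun z => by
    show qPowHom hF z = z ↔ _
    rw [qPowHom_apply]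
  haveI : Fintype K := Fintype.ofFinite K
  have h2K : (2 : K) ≠ 0 := fun e => h2 (by rw [← map_ofNat K.subtype 2, e, map_zero])
  have hK2 : ringChar K ≠ 2 := fun e => h2K (by
    have h : (2 : K) = 0 := by
      have := ringChar.Nat.cast_ringChar (R := K)
      rw [e] at this; exact_mod_cast this
    exact h)
  -- non-squares of the small field have skew roots
  have hskew : ∀ v : K, quadraticChar K v ≠ 1 → ∃ r : F, r * r = (v : F) ∧ r ^ q = -r := by
    intro v hv
    obtain ⟨r, hr, hrq⟩ := exists_sqrt hF ((hKmem _).mp v.2)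
    refine ⟨r, hr, hrq.elim (fun e => ?_) id⟩
    rcases eq_or_ne v 0 with rfl | hv0
    · rw [ZeroMemClass.coe_zero, mul_self_eq_zero] at hr
      rw [hr, q_zero hF, neg_zero]
    · exact absurd ((quadraticChar_one_iff_isSquare hv0).mpr ⟨⟨r, (hKmem r).mpr e⟩, Subtype.ext hr.symm⟩) hv
  have hphase : ∀ {c w r : F}, c ^ q = c → c ≠ 0 → w ^ q = w → r * r = w * (w - 4 * c) → r ^ q = -r →
      ∃ φ : F, φ * φ ^ q = 1 ∧ w = c * (2 + (φ + φ ^ q)) := by
    intro c w r hc hc0 hw hr hrq
    refine ⟨(w - 2 * c + r) / (2 * c), ?_, ?_⟩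
    · rw [div_pow, q_add hF, q_sub hF, mul_pow, two_pow_q hF, hc, hw, hrq]
      field_simp
      linear_combination -hr
    · rw [div_pow, q_add hF, q_sub hF, mul_pow, two_pow_q hF, hc, hw, hrq]
      field_simp
      ring
  by_cases hneg : ∃ i : F, i ^ q = i ∧ i * i = -1
  · -- any common value works
    obtain ⟨i, hiq, hi⟩ := hneg
    set X : F → Finset F := fun c => (traceSet q F).image fun t => c * (2 + t) with hX
    have hXc : ∀ c : F, c ≠ 0 → (X c).card = (traceSet q F).card := fun c hc =>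
      Finset.card_image_of_injective _ fun t t' e => add_left_cancel (mul_left_cancel₀ hc e)
    have hXs : ∀ c : F, c ^ q = c → X c ⊆ fixedField q F := fun c hc z hz => by
      obtain ⟨t, ht, rfl⟩ := Finset.mem_image.mp hz
      rw [mem_fixedField, mul_pow, q_add hF, two_pow_q hF, hc, mem_fixedField.mp (traceSet_subset hF ht)]
    obtain ⟨w, hwa, hwb, hw0⟩ : ∃ w, w ∈ X a ∧ w ∈ X b ∧ w ≠ 0 := by
      have hT := card_traceSet hF
      have h1 := Finset.card_le_card (Finset.union_subset (hXs a haq) (hXs b hbq))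
      have h3 := Finset.card_union_add_card_inter (X a) (X b)
      rw [hXc a ha0, hXc b hb0] at h3
      rw [card_fixedField hF] at h1
      obtain ⟨w, hw, hw0⟩ := Finset.exists_mem_ne (by omega : 1 < (X a ∩ X b).card) 0
      exact ⟨w, (Finset.mem_inter.mp hw).1, (Finset.mem_inter.mp hw).2, hw0⟩
    have hwq : w ^ q = w := mem_fixedField.mp (hXs a haq hwa)
    obtain ⟨_, ht, hwa⟩ := Finset.mem_image.mp hwa
    obtain ⟨φ, hφ, rfl⟩ := Finset.mem_image.mp ht
    obtain ⟨_, ht', hwb⟩ := Finset.mem_image.mp hwb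
    obtain ⟨ψ, hψ, rfl⟩ := Finset.mem_image.mp ht'
    obtain ⟨r, hr, hrq⟩ := exists_sqrt hF hwq
    rcases hrq with e | e
    · exact ⟨w, r, φ, ψ, hw0, by rw [e, hr], mem_normOne.mp hφ, mem_normOne.mp hψ, hwa.symm, hwb.symm,
        by rw [hr]⟩
    · refine ⟨w, i * r, φ, ψ, hw0, ?_, mem_normOne.mp hφ, mem_normOne.mp hψ, hwa.symm, hwb.symm, ?_⟩
      · rw [mul_pow, hiq, e]; linear_combination hr - (r * r) * hi
      · linear_combination (r * r * r * r) * (i * i - 1) * hi + (r * r + w) * hr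
  · -- a square common value
    have hχ : quadraticChar K (-1) = -1 := quadraticChar_neg_one_iff_not_isSquare.mpr fun ⟨j, hj⟩ =>
      hneg ⟨j, (hKmem _).mp j.2, by simpa using (congrArg Subtype.val hj).symm⟩
    obtain ⟨aK, haK⟩ : ∃ k : K, (k : F) = a := ⟨⟨a, (hKmem a).mpr haq⟩, rfl⟩
    obtain ⟨bK, hbK⟩ : ∃ k : K, (k : F) = b := ⟨⟨b, (hKmem b).mpr hbq⟩, rfl⟩
    have haK0 : aK ≠ 0 := fun e => ha0 (by rw [← haK, e]; rfl)
    have hbK0 : bK ≠ 0 := fun e => hb0 (by rw [← hbK, e]; rfl)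
    have habK : quadraticChar K (aK * bK) = -1 := quadraticChar_neg_one_iff_not_isSquare.mpr fun ⟨j, hj⟩ =>
      hsq ⟨j, (hKmem _).mp j.2, by rw [← haK, ← hbK]; simpa using (congrArg Subtype.val hj).symm⟩
    rw [map_mul] at habK
    have h4 : quadraticChar K 4 = 1 := by
      rw [show (4 : K) = 2 ^ 2 by norm_num]
      exact quadraticChar_sq_one' h2K
    obtain ⟨w, hw, hwa, hwb⟩ : ∃ w : K, quadraticChar K w = 1 ∧ quadraticChar K (w * (w - 4 * aK)) ≠ 1 ∧
        quadraticChar K (w * (w - 4 * bK)) ≠ 1 := by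
      rcases quadraticChar_dichotomy haK0 with e | e
      · rw [e, one_mul] at habK
        exact exists_pattern hK2 hχ (by rw [map_mul, h4, e, one_mul]) (by rw [map_mul, h4, habK, one_mul])
      · rw [e] at habK
        obtain ⟨w, h1, h2', h3⟩ := exists_pattern hK2 hχ (a := 4 * bK) (b := 4 * aK)
          (by rw [map_mul, h4, one_mul]; linear_combination -habK) (by rw [map_mul, h4, e, one_mul])
        exact ⟨w, h1, h3, h2'⟩
    have hw0 : w ≠ 0 := fun e => by rw [e, quadraticChar_zero] at hw; exact zero_ne_one hw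
    obtain ⟨j, hj⟩ := (quadraticChar_one_iff_isSquare hw0).mp hw
    obtain ⟨r₁, hr₁, hr₁q⟩ := hskew _ hwa
    obtain ⟨r₂, hr₂, hr₂q⟩ := hskew _ hwb
    push_cast [haK] at hr₁
    push_cast [hbK] at hr₂
    obtain ⟨φ, hφ, hwφ⟩ := hphase haq ha0 ((hKmem _).mp w.2) hr₁ hr₁q
    obtain ⟨ψ, hψ, hwψ⟩ := hphase hbq hb0 ((hKmem _).mp w.2) hr₂ hr₂q
    have hjw : (j : F) * j = (w : F) := (congrArg Subtype.val hj).symm
    exact ⟨(w : F), (j : F), φ, ψ, fun e => hw0 (Subtype.ext e), by rw [(hKmem _).mp j.2, hjw], hφ, hψ,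
      hwφ, hwψ, by rw [hjw]⟩

/-- A point off the fixed field on the trace-one line whose translate has the norm of a sum of two circles. -/
theorem exists_line_point {A B C : F} (hA : A ^ q = A) (hB : B ^ q = B) (hC : C ^ q = C) (hB0 : B ≠ 0)
    (hC0 : C ≠ 0) :
    ∃ z φ : F, z + z ^ q = 1 ∧ z ^ q ≠ z ∧ φ * φ ^ q = 1 ∧
      (z - A) * (z - A) ^ q = (B + C * φ) * (B + C * φ) ^ q := by
  classical
  obtain ⟨τ, hτ⟩ := exists_trace_one hF
  obtain ⟨δ, hδ, hδ0⟩ := exists_skew_ne hF
  have hδq : δ ^ q = -δ := eq_neg_of_add_eq_zero_right hδ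
  set L := (fixedField q F).image fun t => τ + t * δ with hL
  have hLc : L.card = q := by
    rw [hL, Finset.card_image_of_injective _ fun t t' e => mul_right_cancel₀ hδ0 (add_left_cancel e),
      card_fixedField hF]
  have hLt : ∀ z ∈ L, z + z ^ q = 1 := fun z hz => by
    obtain ⟨t, ht, rfl⟩ := Finset.mem_image.mp hz
    rw [q_add hF, mul_pow, mem_fixedField.mp ht, hδq]; linear_combination hτ
  set S := L.filter fun z => z ^ q ≠ z with hS
  have hSc : q ≤ S.card + 1 := by
    have h1 : (L.filter fun z => ¬ z ^ q ≠ z).card ≤ 1 := Finset.card_le_one.mpr fun z hz z' hz' => by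
      simp only [Finset.mem_filter, not_not] at hz hz'
      have e := hLt z hz.1
      have e' := hLt z' hz'.1
      rw [hz.2] at e
      rw [hz'.2] at e'
      have h2 : (2 : F) ≠ 0 := fun h => zero_ne_one (α := F) (by linear_combination e - z * h)
      exact mul_left_cancel₀ h2 (by linear_combination e - e')
    have h2 := Finset.card_filter_add_card_filter_not (s := L) (fun z => z ^ q ≠ z)
    rw [← hS, hLc] at h2
    omega
  set W := S.image fun z => (z - A) * (z - A) ^ q with hW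
  have hWc : S.card ≤ 2 * W.card :=
    Finset.card_le_mul_card_image_of_maps_to (fun z hz => Finset.mem_image_of_mem _ hz) 2 fun K _ =>
      le_trans (Finset.card_le_card fun z hz => by
        simp only [Finset.mem_filter, Finset.mem_univ, true_and] at hz ⊢
        have h1 := hLt z (Finset.mem_filter.mp hz.1).1
        have h2 := hz.2
        rw [q_sub hF, hA] at h2
        linear_combination h2 - (z - A) * h1) (card_quadratic_le (F := F) (a := -1) (b := 1)
          (c := A * A - A - K) (neg_ne_zero.mpr one_ne_zero))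
  set E := (traceSet q F).image fun t => B * B + C * C + B * C * t with hE
  have hEc : E.card = (traceSet q F).card :=
    Finset.card_image_of_injective _ fun t t' e => mul_left_cancel₀ (mul_ne_zero hB0 hC0) (add_left_cancel e)
  obtain ⟨v, hvW, hvE⟩ : ∃ v, v ∈ W ∧ v ∈ E := by
    by_contra hno
    push Not at hno
    have h1 := Finset.card_le_card (show W ∪ E ⊆ fixedField q F from Finset.union_subset
      (fun z hz => by obtain ⟨t, -, rfl⟩ := Finset.mem_image.mp hz; exact mem_fixedField.mpr (fixed_norm hF _))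
      (fun z hz => by
        obtain ⟨t, ht, rfl⟩ := Finset.mem_image.mp hz
        rw [mem_fixedField, q_add hF, q_add hF, mul_pow, mul_pow, mul_pow, mul_pow, hB, hC,
          mem_fixedField.mp (traceSet_subset hF ht)]))
    rw [Finset.card_union_of_disjoint (Finset.disjoint_left.mpr hno), card_fixedField hF, hEc] at h1
    have := card_traceSet hF
    omega
  obtain ⟨z, hz, rfl⟩ := Finset.mem_image.mp hvW
  obtain ⟨t, ht, hte⟩ := Finset.mem_image.mp hvE
  obtain ⟨φ, hφ, rfl⟩ := Finset.mem_image.mp ht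
  rw [mem_normOne] at hφ
  obtain ⟨hzL, hzq⟩ := Finset.mem_filter.mp hz
  refine ⟨z, φ, hLt z hzL, hzq, hφ, ?_⟩
  rw [← hte, q_add hF, mul_pow, hB, hC]
  linear_combination -(C * C) * hφ

/-- Norm-one elements avoiding the roots of unity of small order. -/
theorem exists_omega_four (hq : 4 ≤ q) : ∃ ω : F, ω * ω ^ q = 1 ∧ ω ^ 4 ≠ 1 := by
  classical
  by_contra hno
  push Not at hno
  have h1 := Finset.card_le_card (show normOne q F ⊆ (Polynomial.nthRoots 4 (1 : F)).toFinset from fun x hx => by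
    rw [Multiset.mem_toFinset, Polynomial.mem_nthRoots (by norm_num)]
    exact hno x (mem_normOne.mp hx))
  have h2 := (Multiset.toFinset_card_le _).trans (Polynomial.card_nthRoots 4 (1 : F))
  rw [card_normOne hF] at h1
  omega

/-- Norm-one elements of order not dividing eight. -/
theorem exists_omega_eight (hq : 4 ≤ q) (hq7 : q ≠ 7) : ∃ ω : F, ω * ω ^ q = 1 ∧ ω ^ 8 ≠ 1 := by
  classical
  by_contra hno
  push Not at hno
  have key : ∀ d : ℕ, 0 < d → d < q + 1 → (∀ x : F, x * x ^ q = 1 → x ^ d = 1) → False := by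
    intro d hd0 hd hx
    have h1 := Finset.card_le_card (show normOne q F ⊆ (Polynomial.nthRoots d (1 : F)).toFinset from fun x hx' => by
      rw [Multiset.mem_toFinset, Polynomial.mem_nthRoots hd0]
      exact hx x (mem_normOne.mp hx'))
    have h2 := (Multiset.toFinset_card_le _).trans (Polynomial.card_nthRoots d (1 : F))
    rw [card_normOne hF] at h1
    omega
  refine key (Nat.gcd 8 (q + 1)) (Nat.gcd_pos_of_pos_left _ (by norm_num)) ?_ fun x hx =>
    pow_gcd_eq_one.mpr ⟨hno x hx, by rw [pow_succ', hx]⟩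
  rcases Nat.lt_or_ge q 8 with h8 | h8
  · interval_cases q <;> simp_all
  · exact lt_of_le_of_lt (Nat.gcd_le_left _ (by norm_num)) (by omega)

end Cfsg.Agent.Lib.GeoTypesSU4
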