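import Cfsg.Agent.Lib.GeoTypesSU4.FrameArith
import Cfsg.Agent.Lib.UnitaryMax.Frame

/-!
Overgroups of the monomial subgroup of `SU_4(q)`, `q ≠ 3`.
-/

set_option autoImplicit false
set_option linter.unusedSectionVars false

namespace Cfsg.Agent.Lib.GeoTypesSU4

open Matrix Cfsg.Agent.Lib Cfsg.Agent.Lib.Forms Cfsg.Agent.Lib.FormMax Cfsg.Agent.Lib.UnitaryMax

variable {F : Type*} [Field F] [Fintype F] {q : ℕ}

local notation "Vs" => (Fin 4 → F)
local notation "h" => Cfsg.hermForm 4 F q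
local notation:1024 "↟" g:1024 => (Units.val g : Matrix (Fin 4) (Fin 4) F)
local notation:1024 "ε" l:1024 => (Pi.single l (1 : F) : Fin 4 → F)

omit [Field F] [Fintype F] in
theorem four_cover : ∀ a b c d : Fin 4, a ≠ b → a ≠ c → a ≠ d → b ≠ c → b ≠ d → c ≠ d →
    ∀ i, i = a ∨ i = b ∨ i = c ∨ i = d := by decide

omit [Field F] [Fintype F] in
theorem four_rest : ∀ a b : Fin 4, a ≠ b → ∃ c d, a ≠ c ∧ a ≠ d ∧ b ≠ c ∧ b ≠ d ∧ c ≠ d := by decide

theorem sum_four' {M : Type*} [AddCommMonoid M] {a b c d : Fin 4} (hab : a ≠ b) (hac : a ≠ c) (had : a ≠ d)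
    (hbc : b ≠ c) (hbd : b ≠ d) (hcd : c ≠ d) (f : Fin 4 → M) : ∑ i, f i = f a + f b + f c + f d := by
  have hu : (Finset.univ : Finset (Fin 4)) = {a, b, c, d} := by
    ext i
    have := four_cover a b c d hab hac had hbc hbd hcd i
    simp only [Finset.mem_univ, Finset.mem_insert, Finset.mem_singleton, true_iff]
    exact this
  rw [hu, Finset.sum_insert (by simp [hab, hac, had]), Finset.sum_insert (by simp [hbc, hbd]),
    Finset.sum_insert (by simp [hcd]), Finset.sum_singleton, add_assoc, add_assoc]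

theorem herm_four {a b c d : Fin 4} (hab : a ≠ b) (hac : a ≠ c) (had : a ≠ d) (hbc : b ≠ c) (hbd : b ≠ d)
    (hcd : c ≠ d) (x y : Vs) :
    h x y = x a * y a ^ q + x b * y b ^ q + x c * y c ^ q + x d * y d ^ q :=
  sum_four' hab hac had hbc hbd hcd fun i => x i * y i ^ q

variable (hF : Fintype.card F = q ^ 2) {H : Subgroup (GL (Fin 4) F)}
include hF

theorem herm_col {g : GL (Fin 4) F} (hg : g ∈ suGL 4 F q) (j : Fin 4) : h (↟g *ᵥ ε j) (↟g *ᵥ ε j) = 1 := by
  rw [apply_K hg, herm_single_left, Pi.single_eq_same, one_pow, one_mul]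

theorem herm_col_ne {g : GL (Fin 4) F} (hg : g ∈ suGL 4 F q) {j k : Fin 4} (hjk : j ≠ k) :
    h (↟g *ᵥ ε j) (↟g *ᵥ ε k) = 0 := by
  rw [apply_K hg, herm_single_left, Pi.single_eq_of_ne hjk, q_zero hF, mul_zero]

theorem herm_right_single (x : Vs) (l : Fin 4) : h x (ε l) = x l := by
  rw [herm_single_right (q_ne_zero hF), one_pow, mul_one]

theorem norm_ne_zero {z : F} (hz : z ≠ 0) : z * z ^ q ≠ 0 := mul_ne_zero hz (pow_ne_zero _ hz)

/-- A torus element in update form. -/
theorem exists_torus' (hM : ContainsMono q H) {k o : Fin 4} (hko : k ≠ o) {ω : F} (hω : ω * ω ^ q = 1) :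
    ∃ g ∈ H, g ∈ suGL 4 F q ∧
      ∀ x : Vs, ↟g *ᵥ x = x + ((ω - 1) * x k) • ε k + ((ω ^ q - 1) * x o) • ε o := by
  obtain ⟨g, hg, hgK, -, hk, ho, hrest⟩ := exists_torus hF hM hko hω
  refine ⟨g, hg, hgK, fun x => funext fun m => ?_⟩
  rcases eq_or_ne m k with rfl | hmk
  · simp [hk, Pi.single_eq_of_ne hko]; ring
  rcases eq_or_ne m o with rfl | hmo
  · simp [ho, Pi.single_eq_of_ne hko.symm]; ring
  · simp [hrest x m hmk hmo, hmk, hmo]

/-- An element with two nonzero entries in a column is not monomial. -/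
theorem not_mono_of_col {g : GL (Fin 4) F} {l a b : Fin 4} (hab : a ≠ b) (ha : (↟g *ᵥ ε l) a ≠ 0)
    (hb : (↟g *ᵥ ε l) b ≠ 0) : ¬ IsMono g := fun hm => by
  obtain ⟨o, c, hc⟩ := hm l
  rw [hc] at ha hb
  rcases eq_or_ne a o with rfl | hao
  · exact hb (by simp [Pi.single_eq_of_ne hab.symm])
  · exact ha (by simp [Pi.single_eq_of_ne hao])

/-- Three fixed lines make an element monomial. -/
theorem mono_of_three {g : GL (Fin 4) F} (hg : g ∈ suGL 4 F q) {a b c d : Fin 4} (hab : a ≠ b) (hac : a ≠ c)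
    (had : a ≠ d) (hbc : b ≠ c) (hbd : b ≠ d) (hcd : c ≠ d) {α γ δ : F} (ha : ↟g *ᵥ ε a = α • ε a)
    (hc : ↟g *ᵥ ε c = γ • ε c) (hd : ↟g *ᵥ ε d = δ • ε d) : IsMono g := by
  have hz : ∀ e (κ : F), b ≠ e → ↟g *ᵥ ε e = κ • ε e → (↟g *ᵥ ε b) e = 0 := fun e κ hbe he => by
    have hκ : κ ≠ 0 := fun e0 => by
      have := herm_col hF hg e
      rw [he, e0, zero_smul, h_zero_left hF] at this
      exact zero_ne_one this
    have := herm_col_ne hF hg hbe
    rw [he, herm_smul_right hF, herm_right_single hF] at this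
    exact (mul_eq_zero.mp this).resolve_left (pow_ne_zero _ hκ)
  intro l
  rcases four_cover a b c d hab hac had hbc hbd hcd l with rfl | rfl | rfl | rfl
  · exact ⟨_, _, ha⟩
  · refine ⟨l, (↟g *ᵥ ε l) l, funext fun i => ?_⟩
    rcases four_cover a l c d hab hac had hbc hbd hcd i with rfl | rfl | rfl | rfl
    · rw [hz i α hab.symm ha]; simp [hab]
    · simp
    · rw [hz i γ hbc hc]; simp [hbc.symm]
    · rw [hz i δ hbd hd]; simp [hbd.symm]
  · exact ⟨_, _, hc⟩
  · exact ⟨_, _, hd⟩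

/-- The homology with centre a column of an element of `H`, up to a scalar. -/
theorem exists_homology (hH : H ≤ suGL 4 F q) (hM : ContainsMono q H) {g : GL (Fin 4) F} (hg : g ∈ H)
    (j : Fin 4) {ω : F} (hω : ω * ω ^ q = 1) :
    ∃ z ∈ H, ∀ x, ↟z *ᵥ x = ω • (x + (((ω ^ q) ^ 4 - 1) * h x (↟g *ᵥ ε j)) • (↟g *ᵥ ε j)) := by
  have hc : (ω ^ q) ^ 3 * ((ω ^ q) ^ 3) ^ q = 1 := by
    rw [← pow_mul (ω ^ q) 3 q, mul_comm 3 q, pow_mul, pow_q_pow_q hF, ← mul_pow, mul_comm, hω, one_pow]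
  obtain ⟨E, hE, -, -, hEv⟩ := exists_diagElt hM (fun l => if l = j then (ω ^ q) ^ 3 else ω)
    (fun l => by split_ifs <;> assumption) (by
      rw [Fin.prod_univ_four]
      fin_cases j <;> simp <;> linear_combination ((ω * ω ^ q) ^ 2 + ω * ω ^ q + 1) * hω)
  refine ⟨g * E * g⁻¹, H.mul_mem (H.mul_mem hg hE) (H.inv_mem hg), fun x => ?_⟩
  have hE' : ∀ y : Vs, ↟E *ᵥ y = ω • (y + (((ω ^ q) ^ 4 - 1) * y j) • ε j) := fun y => funext fun l => by
    rw [hEv]
    rcases eq_or_ne l j with rfl | hl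
    · simp; linear_combination -((ω ^ q) ^ 3 * y l) * hω
    · simp [hl]
  have hj : (↟(g⁻¹) *ᵥ x) j = h x (↟g *ᵥ ε j) := by
    conv_rhs => rw [← mulVec_inv_mulVec g x, apply_K (hH hg), herm_right_single hF]
  rw [Units.val_mul, Units.val_mul, ← mulVec_mulVec, ← mulVec_mulVec, hE', mulVec_smul, mulVec_add, mulVec_smul,
    mulVec_inv_mulVec, hj]

/-- An axis supported on two coordinates forces everything. -/
theorem eq_of_axis_two (hq : 4 ≤ q) (hH : H ≤ suGL 4 F q) (hM : ContainsMono q H) {v : Vs} {a b c d : Fin 4}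
    (hab : a ≠ b) (hac : a ≠ c) (had : a ≠ d) (hbc : b ≠ c) (hbd : b ≠ d) (hcd : c ≠ d)
    (hv : Axis q H c v) (hva : v a ≠ 0) (hvb : v b ≠ 0) (hvd : v d = 0) : H = suGL 4 F q := by
  classical
  obtain ⟨hv1, hvc, hR⟩ := hv
  let Fixes : GL (Fin 4) F → Prop := fun g =>
    (∃ γ : F, ↟g *ᵥ ε c = γ • ε c) ∧ ∃ γ : F, ↟g *ᵥ ε d = γ • ε d
  let key : Vs → F × F := fun w => (w a * w a ^ q, w b * w a ^ q)
  let O : Finset (F × F) := Finset.univ.filter fun k => ∃ g ∈ H, Fixes g ∧ key (↟g *ᵥ ε a) = k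
  let U : Finset (F × F) := Finset.univ.filter fun k => ∃ w : Vs, h w w = 1 ∧ w c = 0 ∧ w d = 0 ∧ key w = k
  have hsupp : ∀ g ∈ suGL 4 F q, Fixes g →
      h (↟g *ᵥ ε a) (↟g *ᵥ ε a) = 1 ∧ (↟g *ᵥ ε a) c = 0 ∧ (↟g *ᵥ ε a) d = 0 := by
    rintro g hg ⟨⟨γ, hγ⟩, ⟨γ', hγ'⟩⟩
    refine ⟨herm_col hF hg a, ?_, ?_⟩
    · have h1 := herm_col_ne hF hg hac
      rw [hγ, herm_smul_right hF, herm_right_single hF] at h1
      refine (mul_eq_zero.mp h1).resolve_left (pow_ne_zero _ fun e => ?_)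
      have h2 := herm_col hF hg c
      rw [hγ, e, zero_smul, h_zero_left hF] at h2
      exact zero_ne_one h2
    · have h1 := herm_col_ne hF hg had
      rw [hγ', herm_smul_right hF, herm_right_single hF] at h1
      refine (mul_eq_zero.mp h1).resolve_left (pow_ne_zero _ fun e => ?_)
      have h2 := herm_col hF hg d
      rw [hγ', e, zero_smul, h_zero_left hF] at h2
      exact zero_ne_one h2
  have hnorm : ∀ w : Vs, h w w = 1 → w c = 0 → w d = 0 → w a * w a ^ q + w b * w b ^ q = 1 := by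
    intro w hw hwc hwd
    rw [herm_four hab hac had hbc hbd hcd, hwc, hwd] at hw
    simpa using hw
  -- equal keys give proportional vectors
  have hline : ∀ w w' : Vs, h w w = 1 → w c = 0 → w d = 0 → h w' w' = 1 → w' c = 0 → w' d = 0 →
      key w = key w' → ∃ lam : F, lam * lam ^ q = 1 ∧ w' = lam • w := by
    intro w w' hw hwc hwd hw' hw'c hw'd e
    simp only [key, Prod.mk.injEq] at e
    obtain ⟨e1, e2⟩ := e
    have hext : ∀ lam : F, w' a = lam * w a → w' b = lam * w b → w' = lam • w := fun lam h1 h2 =>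
      funext fun i => by
        rcases four_cover a b c d hab hac had hbc hbd hcd i with rfl | rfl | rfl | rfl <;> simp [*]
    have n1 := hnorm w hw hwc hwd
    have n2 := hnorm w' hw' hw'c hw'd
    by_cases h0 : w a = 0
    · have h0' : w' a = 0 := by
        by_contra hne
        exact norm_ne_zero hF hne (by rw [← e1, h0, zero_mul])
      rw [h0, zero_mul, zero_add] at n1
      rw [h0', zero_mul, zero_add] at n2
      have hb0 : w b ≠ 0 := left_ne_zero_of_mul_eq_one n1
      refine ⟨w' b / w b, ?_, hext _ (by rw [h0, h0', mul_zero]) (by rw [div_mul_cancel₀ _ hb0])⟩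
      rw [div_pow, div_mul_div_comm, n1, n2, div_one]
    · have h0' : w' a ≠ 0 := fun e0 => norm_ne_zero hF h0 (by rw [e1, e0, zero_mul])
      have hl : w' a / w a * (w' a / w a) ^ q = 1 := by
        rw [div_pow, div_mul_div_comm, ← e1, div_self (norm_ne_zero hF h0)]
      refine ⟨w' a / w a, hl, hext _ (by rw [div_mul_cancel₀ _ h0]) ?_⟩
      refine mul_right_cancel₀ (pow_ne_zero q h0') ?_
      rw [← e2]
      field_simp
      linear_combination w b * e1
  have hkey : ∀ (w : Vs) (lam : F), lam * lam ^ q = 1 → key (lam • w) = key w := fun w lam hl => by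
    simp only [key, Pi.smul_apply, smul_eq_mul, mul_pow]
    exact Prod.ext (by linear_combination (w a * w a ^ q) * hl) (by linear_combination (w b * w a ^ q) * hl)
  -- the size of the set of points
  have hUc : U.card ≤ 2 + (q - 2) * (q + 1) := by
    obtain ⟨x0, hx0⟩ : ∃ x0 : F → F, ∀ t, t ^ q = t → x0 t * x0 t ^ q = t * (1 - t) := by
      refine ⟨fun t => if ht : t ^ q = t then (exists_norm_eq (qPowHom_ne_id hF) (qPowHom_qPowHom hF)
        (c := t * (1 - t)) (by rw [qPowHom_apply, mul_pow, q_sub hF, one_pow, ht])).choose else 0, fun t ht => ?_⟩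
      simp only [dif_pos ht]
      have := (exists_norm_eq (qPowHom_ne_id hF) (qPowHom_qPowHom hF) (c := t * (1 - t))
        (by rw [qPowHom_apply, mul_pow, q_sub hF, one_pow, ht])).choose_spec
      simpa [qPowHom_apply] using this
    have hsub : U ⊆ {((1 : F), (0 : F)), ((0 : F), (0 : F))} ∪
        ((((fixedField q F).erase 0).erase 1) ×ˢ normOne q F).image fun p => (p.1, p.2 * x0 p.1) := by
      intro k hk
      simp only [U, Finset.mem_filter, Finset.mem_univ, true_and] at hk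
      obtain ⟨w, hw, hwc, hwd, rfl⟩ := hk
      have n1 := hnorm w hw hwc hwd
      rcases eq_or_ne (w a) 0 with h0 | h0
      · refine Finset.mem_union_left _ ?_
        simp [key, h0, q_zero hF]
      rcases eq_or_ne (w b) 0 with h1 | h1
      · rw [h1, zero_mul, add_zero] at n1
        refine Finset.mem_union_left _ ?_
        simp [key, h1, n1]
      refine Finset.mem_union_right _ ?_
      have htq : (w a * w a ^ q) ^ q = w a * w a ^ q := fixed_norm hF _
      have hx := hx0 _ htq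
      have hxne : x0 (w a * w a ^ q) ≠ 0 := fun e => by
        rw [e, zero_mul, show (1 : F) - w a * w a ^ q = w b * w b ^ q by linear_combination -n1] at hx
        exact mul_ne_zero (norm_ne_zero hF h0) (norm_ne_zero hF h1) hx.symm
      refine Finset.mem_image.mpr ⟨(w a * w a ^ q, w b * w a ^ q / x0 (w a * w a ^ q)),
        Finset.mem_product.mpr ⟨Finset.mem_erase.mpr ⟨fun e => norm_ne_zero hF h1 (by linear_combination n1 - e),
          Finset.mem_erase.mpr ⟨norm_ne_zero hF h0, mem_fixedField.mpr htq⟩⟩, mem_normOne.mpr ?_⟩,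
        Prod.ext rfl (by simp [key, div_mul_cancel₀ _ hxne])⟩
      rw [div_pow, div_mul_div_comm, hx, div_eq_one_iff_eq (by rw [← hx]; exact norm_ne_zero hF hxne),
        mul_pow, pow_q_pow_q hF]
      linear_combination (w a * w a ^ q) * n1
    refine (Finset.card_le_card hsub).trans ((Finset.card_union_le _ _).trans (Nat.add_le_add Finset.card_le_two ?_))
    refine Finset.card_image_le.trans ?_
    rw [Finset.card_product, card_normOne hF, Finset.card_erase_of_mem (Finset.mem_erase.mpr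
      ⟨one_ne_zero, mem_fixedField.mpr (one_pow q)⟩), Finset.card_erase_of_mem (mem_fixedField.mpr (q_zero hF)),
      card_fixedField hF]
    rfl
  -- the orbit
  have hn1 := hnorm v hv1 hvc hvd
  obtain ⟨t, ht⟩ : ∃ t, t = v a * v a ^ q := ⟨_, rfl⟩
  have htq : t ^ q = t := ht ▸ fixed_norm hF _
  obtain ⟨s, hsdef⟩ : ∃ s, s = t * (1 - t) := ⟨_, rfl⟩
  have hs0 : s ≠ 0 := hsdef ▸ mul_ne_zero (ht ▸ norm_ne_zero hF hva) (by
    rw [ht, show (1 : F) - v a * v a ^ q = v b * v b ^ q by linear_combination -hn1]; exact norm_ne_zero hF hvb)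
  set T0 := ((traceSet q F).erase 2).erase (2 - 1 / s) with hT0
  have hT0c : q ≤ 2 * T0.card + 2 := by
    have h1 := card_traceSet hF
    have h2 := Finset.pred_card_le_card_erase (s := traceSet q F) (a := (2 : F))
    have h3 := Finset.pred_card_le_card_erase (s := (traceSet q F).erase 2) (a := 2 - 1 / s)
    rw [← hT0] at h3
    omega
  obtain ⟨ζf, hζf⟩ : ∃ ζf : F → F, ∀ τ ∈ traceSet q F, ζf τ * ζf τ ^ q = 1 ∧ ζf τ + ζf τ ^ q = τ := by
    refine ⟨fun τ => if hτ : τ ∈ traceSet q F then (Finset.mem_image.mp hτ).choose else 0, fun τ hτ => ?_⟩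
    simp only [dif_pos hτ]
    obtain ⟨e1, e2⟩ := (Finset.mem_image.mp hτ).choose_spec
    exact ⟨mem_normOne.mp e1, e2⟩
  let kf : F × F → F × F := fun p => (1 - s * (2 - p.1),
    p.2 * ((ζf p.1 - 1) * v a ^ q * v b * (1 + (ζf p.1 - 1) * t) ^ q))
  have hkf : ∀ p ∈ T0 ×ˢ normOne q F, kf p ∈ O ∧ (kf p).1 ≠ 0 ∧ (kf p).1 ≠ 1 ∧
      (ζf p.1 - 1) * v a ^ q * v b * (1 + (ζf p.1 - 1) * t) ^ q ≠ 0 := by
    rintro ⟨τ, φ⟩ hp
    obtain ⟨hp1, hφ⟩ := Finset.mem_product.mp hp
    rw [mem_normOne] at hφ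
    simp only [hT0, Finset.mem_erase] at hp1
    obtain ⟨hτs, hτ2, hτT⟩ := hp1
    obtain ⟨hζ, hζτ⟩ := hζf τ hτT
    obtain ⟨R, hRH, hRx⟩ := hR (ζf τ) hζ
    obtain ⟨P, hP, -, hPx⟩ := exists_torus' hF hM hbc hφ
    have e1 : ↟R *ᵥ ε a = ε a + ((ζf τ - 1) * v a ^ q) • v := by
      rw [hRx, herm_single_left, one_mul, Pi.single_eq_of_ne hac.symm, mul_zero, zero_smul, add_zero]
    have hN : (1 + (ζf τ - 1) * t) * (1 + (ζf τ - 1) * t) ^ q = 1 - s * (2 - τ) := by
      rw [q_add hF, one_pow, mul_pow, q_sub hF, one_pow, htq, hsdef]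
      linear_combination (t ^ 2) * hζ + (t - t ^ 2) * hζτ
    have hne0 : (1 : F) - s * (2 - τ) ≠ 0 := fun e => hτs (by field_simp; linear_combination e)
    have hne1 : (1 : F) - s * (2 - τ) ≠ 1 := fun e =>
      mul_ne_zero hs0 (sub_ne_zero.mpr (Ne.symm hτ2)) (by linear_combination -e)
    refine ⟨?_, hne0, hne1, mul_ne_zero (mul_ne_zero (mul_ne_zero (fun e => hτ2 ?_) (pow_ne_zero _ hva)) hvb)
      (pow_ne_zero _ fun e => hne0 (by rw [← hN, e, zero_mul]))⟩
    · simp only [O, Finset.mem_filter, Finset.mem_univ, true_and]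
      have hRc : ↟R *ᵥ ε c = (ζf τ ^ q) • ε c := by
        rw [hRx, herm_single_left, hvc, q_zero hF, mul_zero, mul_zero, zero_smul, add_zero, Pi.single_eq_same]
        module
      have hRd : ↟R *ᵥ ε d = ε d := by
        rw [hRx, herm_single_left, hvd, q_zero hF, mul_zero, mul_zero, zero_smul, add_zero,
          Pi.single_eq_of_ne hcd, mul_zero, zero_smul, add_zero]
      have hPc : ↟P *ᵥ ε c = (φ ^ q) • ε c := by
        rw [hPx, Pi.single_eq_of_ne hbc, Pi.single_eq_same, mul_zero, zero_smul, add_zero]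
        module
      have hPd : ↟P *ᵥ ε d = ε d := by
        rw [hPx, Pi.single_eq_of_ne hbd, Pi.single_eq_of_ne hcd]
        simp
      refine ⟨P * R, H.mul_mem hP hRH, ⟨⟨ζf τ ^ q * φ ^ q, ?_⟩, ⟨1, ?_⟩⟩, ?_⟩
      · rw [Units.val_mul, ← mulVec_mulVec, hRc, mulVec_smul, hPc, smul_smul]
      · rw [Units.val_mul, ← mulVec_mulVec, hRd, hPd, one_smul]
      · rw [Units.val_mul, ← mulVec_mulVec, e1, hPx]
        have ha1 : (1 : F) + (ζf τ - 1) * v a ^ q * v a = 1 + (ζf τ - 1) * t := by rw [ht]; ring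
        refine Prod.ext ?_ ?_
        · simp [key, kf, hab, hac, hvc]
          rw [ha1, hN]
        · simp [key, kf, hab, hac, hab.symm, hvc, hbc]
          rw [ha1]
          ring
    · rw [← hζτ, sub_eq_zero.mp e, one_pow]; norm_num
  have hOc : 2 + (q - 2) * (q + 1) < 2 * O.card := by
    have hsub : {((1 : F), (0 : F)), ((0 : F), (0 : F))} ∪ (T0 ×ˢ normOne q F).image kf ⊆ O := by
      refine Finset.union_subset ?_ (Finset.image_subset_iff.mpr fun p hp => (hkf p hp).1)
      intro k hk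
      simp only [Finset.mem_insert, Finset.mem_singleton] at hk
      simp only [O, Finset.mem_filter, Finset.mem_univ, true_and]
      rcases hk with rfl | rfl
      · refine ⟨1, H.one_mem, ⟨⟨1, by rw [Units.val_one, one_mulVec, one_smul]⟩,
          ⟨1, by rw [Units.val_one, one_mulVec, one_smul]⟩⟩, ?_⟩
        simp only [key, Units.val_one, one_mulVec]
        simp [hab.symm]
      · obtain ⟨P, hP, -, -, hPx, γ, -, hPa⟩ := exists_phased hF hM (Equiv.swap a b) a (fun _ => (1 : F))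
          (fun _ _ => by simp)
        refine ⟨P, hP, ⟨⟨1, funext fun m => ?_⟩, ⟨1, funext fun m => ?_⟩⟩, ?_⟩
        · rcases eq_or_ne m a with rfl | hma
          · simp [hPa, hac, hbc]
          · rcases eq_or_ne m b with rfl | hmb
            · simp [hPx _ _ hma, hac, hbc]
            · simp [hPx _ _ hma, Equiv.swap_apply_of_ne_of_ne hma hmb]
        · rcases eq_or_ne m a with rfl | hma
          · simp [hPa, had, hbd]
          · rcases eq_or_ne m b with rfl | hmb
            · simp [hPx _ _ hma, had, hbd]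
            · simp [hPx _ _ hma, Equiv.swap_apply_of_ne_of_ne hma hmb]
        · simp only [key, hPa, hPx _ _ hab.symm, Equiv.swap_apply_left, Equiv.swap_apply_right]
          simp [hab.symm, q_zero hF]
    have hinj : Set.InjOn kf ↑(T0 ×ˢ normOne q F) := by
      rintro ⟨τ, φ⟩ hp ⟨τ', φ'⟩ hp' e
      simp only [kf, Prod.mk.injEq] at e
      obtain ⟨e1, e2⟩ := e
      have hτ : τ = τ' := mul_left_cancel₀ hs0 (by linear_combination e1)
      subst hτ
      exact Prod.ext rfl (mul_right_cancel₀ (hkf _ (Finset.mem_coe.mp hp)).2.2.2 e2)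
    have hdisj : Disjoint ({((1 : F), (0 : F)), ((0 : F), (0 : F))} : Finset (F × F))
        ((T0 ×ˢ normOne q F).image kf) := by
      rw [Finset.disjoint_left]
      intro k hk hk'
      obtain ⟨p, hp, rfl⟩ := Finset.mem_image.mp hk'
      obtain ⟨-, h0, h1, -⟩ := hkf p hp
      simp only [Finset.mem_insert, Finset.mem_singleton] at hk
      rcases hk with e | e
      · exact h1 (congrArg Prod.fst e)
      · exact h0 (congrArg Prod.fst e)
    have h1 := Finset.card_le_card hsub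
    rw [Finset.card_union_of_disjoint hdisj, Finset.card_image_of_injOn hinj, Finset.card_product,
      card_normOne hF, Finset.card_pair (by simp)] at h1
    have : (q - 2) * (q + 1) ≤ (2 * T0.card) * (q + 1) := Nat.mul_le_mul_right _ (by omega)
    rw [mul_assoc] at this
    omega
  -- every element fixing the two vectors lies in `H`
  have hmem : ∀ G ∈ suGL 4 F q, ↟G *ᵥ ε c = ε c → ↟G *ᵥ ε d = ε d → G ∈ H := by
    intro G hG hGc hGd
    by_contra hGH
    have hch : ∀ k : O, ∃ g ∈ H, Fixes g ∧ key (↟g *ᵥ ε a) = k.1 := fun k => by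
      have := k.2
      simp only [O, Finset.mem_filter, Finset.mem_univ, true_and] at this
      exact this
    choose gk hgk hgkF hgkk using hch
    have hF' : ∀ k : O, h (↟(G * gk k) *ᵥ ε a) (↟(G * gk k) *ᵥ ε a) = 1 ∧
        (↟(G * gk k) *ᵥ ε a) c = 0 ∧ (↟(G * gk k) *ᵥ ε a) d = 0 := fun k => by
      refine hsupp _ (mul_mem hG (hH (hgk k))) ⟨?_, ?_⟩
      · obtain ⟨γ, hγ⟩ := (hgkF k).1
        exact ⟨γ, by rw [Units.val_mul, ← mulVec_mulVec, hγ, mulVec_smul, hGc]⟩
      · obtain ⟨γ, hγ⟩ := (hgkF k).2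
        exact ⟨γ, by rw [Units.val_mul, ← mulVec_mulVec, hγ, mulVec_smul, hGd]⟩
    let O' : Finset (F × F) := Finset.univ.image fun k : O => key (↟(G * gk k) *ᵥ ε a)
    have hO' : O'.card = O.card := by
      rw [Finset.card_image_of_injective, Finset.card_univ, Fintype.card_coe]
      intro k k' e
      obtain ⟨p1, p2, p3⟩ := hF' k
      obtain ⟨p1', p2', p3'⟩ := hF' k'
      obtain ⟨lam, hl, hle⟩ := hline _ _ p1 p2 p3 p1' p2' p3' e
      simp only [Units.val_mul, ← mulVec_mulVec, ← mulVec_smul] at hle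
      have h1 := congrArg (↟(G⁻¹) *ᵥ ·) hle
      simp only [inv_mulVec_mulVec] at h1
      exact Subtype.ext (by rw [← hgkk k, ← hgkk k', h1, mulVec_smul, hkey _ _ hl])
    have hdis : Disjoint O O' := by
      rw [Finset.disjoint_left]
      intro k hk hk'
      obtain ⟨k₁, -, hk₁⟩ := Finset.mem_image.mp hk'
      simp only [O, Finset.mem_filter, Finset.mem_univ, true_and] at hk
      obtain ⟨g₂, hg₂, hg₂F, hg₂k⟩ := hk
      obtain ⟨p1, p2, p3⟩ := hF' k₁
      obtain ⟨r1, r2, r3⟩ := hsupp _ (hH hg₂) hg₂F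
      obtain ⟨lam, hl, hle⟩ := hline _ _ r1 r2 r3 p1 p2 p3 (hg₂k.trans hk₁.symm)
      have hz : g₂⁻¹ * (G * gk k₁) ∈ H := by
        refine hM _ (mul_mem (inv_mem (hH hg₂)) (mul_mem hG (hH (hgk k₁)))) ?_
        have hfix : ∀ e : Fin 4, ↟G *ᵥ ε e = ε e → (∃ γ : F, ↟(gk k₁) *ᵥ ε e = γ • ε e) →
            (∃ γ : F, ↟g₂ *ᵥ ε e = γ • ε e) → ∃ γ : F, ↟(g₂⁻¹ * (G * gk k₁)) *ᵥ ε e = γ • ε e := by
          rintro e hGe ⟨γ, hγ⟩ ⟨γ', hγ'⟩
          have hγ'0 : γ' ≠ 0 := fun e0 => by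
            have := herm_col hF (hH hg₂) e
            rw [hγ', e0, zero_smul, h_zero_left hF] at this
            exact zero_ne_one this
          have h1 := congrArg (↟(g₂⁻¹) *ᵥ ·) hγ'
          simp only [inv_mulVec_mulVec, mulVec_smul] at h1
          refine ⟨γ / γ', ?_⟩
          rw [Units.val_mul, Units.val_mul, ← mulVec_mulVec, ← mulVec_mulVec, hγ, mulVec_smul, hGe, mulVec_smul]
          conv_rhs => rw [h1, smul_smul, div_mul_cancel₀ _ hγ'0]
        obtain ⟨γ, hγ⟩ := hfix c hGc (hgkF k₁).1 hg₂F.1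
        obtain ⟨δ, hδ⟩ := hfix d hGd (hgkF k₁).2 hg₂F.2
        refine mono_of_three hF (mul_mem (inv_mem (hH hg₂)) (mul_mem hG (hH (hgk k₁)))) hab hac had hbc hbd hcd
          (α := lam) ?_ hγ hδ
        rw [Units.val_mul, ← mulVec_mulVec, hle, mulVec_smul, inv_mulVec_mulVec]
      refine hGH ?_
      have e : G = g₂ * (g₂⁻¹ * (G * gk k₁)) * (gk k₁)⁻¹ := by group
      rw [e]
      exact H.mul_mem (H.mul_mem hg₂ hz) (H.inv_mem (hgk k₁))
    have hUO : O ∪ O' ⊆ U := by
      intro k hk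
      simp only [U, Finset.mem_filter, Finset.mem_univ, true_and]
      rcases Finset.mem_union.mp hk with hk | hk
      · simp only [O, Finset.mem_filter, Finset.mem_univ, true_and] at hk
        obtain ⟨g, hg, hgF, hgk'⟩ := hk
        obtain ⟨r1, r2, r3⟩ := hsupp _ (hH hg) hgF
        exact ⟨_, r1, r2, r3, hgk'⟩
      · obtain ⟨k₁, -, hk₁⟩ := Finset.mem_image.mp hk
        obtain ⟨p1, p2, p3⟩ := hF' k₁
        exact ⟨_, p1, p2, p3, hk₁⟩
    have h1 := Finset.card_le_card hUO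
    rw [Finset.card_union_of_disjoint hdis, hO'] at h1
    omega
  -- a root vector
  obtain ⟨μ, hμ⟩ := exists_norm_eq (qPowHom_ne_id hF) (qPowHom_qPowHom hF) (c := (-1 : F))
    (by rw [qPowHom_apply, q_neg hF, one_pow])
  rw [qPowHom_apply] at hμ
  set x : Vs := ε a + μ • ε b with hx
  have hxx : h x x = 0 := by
    rw [herm_four hab hac had hbc hbd hcd]
    simp [hx, hab, hab.symm, hac, hac.symm, had, had.symm, hbc.symm, hbd.symm, q_zero hF]
    linear_combination hμ
  have hxroot : x ∈ root q H := ⟨hxx, fun κ hκ => hmem _ (T_mem hF x hxx hκ)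
    (by rw [T_mulVec, herm_single_left, show x c = 0 by simp [hx, hac.symm, hbc.symm], q_zero hF]; simp)
    (by rw [T_mulVec, herm_single_left, show x d = 0 by simp [hx, had.symm, hbd.symm], q_zero hF]; simp)⟩
  exact eq_suGL_of_root hF le_rfl (fun e => absurd e (by omega)) hH hM hxroot (k := a) (o := c)
    (by simp [hx, hab]) (by simp [hx, hac.symm, hbc.symm]) fun e => absurd e (by omega)

/-- An axis supported on three coordinates forces everything. -/
theorem eq_of_axis_three (hq : 4 ≤ q) (hH : H ≤ suGL 4 F q) (hM : ContainsMono q H) {v : Vs} {i j k m : Fin 4}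
    (hij : i ≠ j) (hik : i ≠ k) (him : i ≠ m) (hjk : j ≠ k) (hjm : j ≠ m) (hkm : k ≠ m)
    (hv : Axis q H m v) (hvi : v i ≠ 0) (hvj : v j ≠ 0) (hvk : v k ≠ 0) : H = suGL 4 F q := by
  classical
  -- two different norms
  have key : ∀ (v : Vs) (i j k : Fin 4), i ≠ j → i ≠ k → i ≠ m → j ≠ k → j ≠ m → k ≠ m → Axis q H m v →
      v i ≠ 0 → v j ≠ 0 → v k ≠ 0 → v j * v j ^ q ≠ v k * v k ^ q → H = suGL 4 F q := by
    intro v i j k hij hik him hjk hjm hkm hv hvi hvj hvk hBC
    obtain ⟨hv1, hvm, hR⟩ := id hv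
    obtain ⟨A, hA⟩ : ∃ A, A = v i * v i ^ q := ⟨_, rfl⟩
    obtain ⟨B, hB⟩ : ∃ B, B = v j * v j ^ q := ⟨_, rfl⟩
    obtain ⟨C, hC⟩ : ∃ C, C = v k * v k ^ q := ⟨_, rfl⟩
    rw [← hB, ← hC] at hBC
    have hAq : A ^ q = A := hA ▸ fixed_norm hF _
    have hBq : B ^ q = B := hB ▸ fixed_norm hF _
    have hCq : C ^ q = C := hC ▸ fixed_norm hF _
    obtain ⟨z, φ, hz, hzq, hφ, hnorm⟩ := exists_line_point hF hAq hBq hCq (hB ▸ norm_ne_zero hF hvj)
      (hC ▸ norm_ne_zero hF hvk)
    obtain ⟨w, hw⟩ : ∃ w, w = z - A := ⟨_, rfl⟩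
    rw [← hw] at hnorm
    have hwq : w ^ q ≠ w := fun e => hzq (by rw [hw, q_sub hF, hAq] at e; linear_combination e)
    have hw0 : w ≠ 0 := fun e => hwq (by rw [e, q_zero hF])
    have hden : B + C * φ ≠ 0 := fun e => norm_ne_zero hF hw0 (by rw [hnorm, e, zero_mul])
    have hwq0 : w ^ q ≠ 0 := pow_ne_zero _ hw0
    obtain ⟨β₀, hβ₀⟩ : ∃ β₀, β₀ = w / (B + C * φ) := ⟨_, rfl⟩
    have hβ₀1 : β₀ * β₀ ^ q = 1 := by
      rw [hβ₀, div_pow, div_mul_div_comm, hnorm, div_self (norm_ne_zero hF hden)]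
    have hsum₀ : B * β₀ + C * (β₀ * φ) = w := by rw [hβ₀]; field_simp
    -- a solution with no trivial phase
    obtain ⟨β, γ, hβ1, hγ1, hsum, hβne, hγne⟩ : ∃ β γ : F, β * β ^ q = 1 ∧ γ * γ ^ q = 1 ∧
        B * β + C * γ = w ∧ β ≠ 1 ∧ γ ≠ 1 := by
      have hγ₀1 : β₀ * φ * (β₀ * φ) ^ q = 1 := by
        rw [mul_pow]; linear_combination (φ * φ ^ q) * hβ₀1 + hφ
      obtain ⟨γ₀, hγ₀⟩ : ∃ γ₀, γ₀ = β₀ * φ := ⟨_, rfl⟩
      rw [← hγ₀] at hγ₀1 hsum₀
      by_cases hgood : β₀ ≠ 1 ∧ γ₀ ≠ 1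
      · exact ⟨β₀, γ₀, hβ₀1, hγ₀1, hsum₀, hgood.1, hgood.2⟩
      have hsumq : B * β₀ ^ q + C * γ₀ ^ q = w ^ q := by
        rw [← hsum₀, q_add hF, mul_pow, mul_pow, hBq, hCq]
      have hnormone : ∀ x : F, x * x ^ q = 1 → x ^ q * (w / w ^ q) * (x ^ q * (w / w ^ q)) ^ q = 1 := fun x hx => by
        rw [mul_pow, div_pow, pow_q_pow_q hF, pow_q_pow_q hF]
        field_simp
        linear_combination hx
      have hne : ∀ x y X Y : F, X ≠ Y → X ^ q = X → Y ^ q = Y → x * x ^ q = 1 → y = 1 → X * x + Y * y = w →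
          X * x ^ q + Y * y ^ q = w ^ q → x ^ q * (w / w ^ q) ≠ 1 ∧ y ^ q * (w / w ^ q) ≠ 1 := by
        intro x y X Y hXY hXq hYq hx hy hs hsq
        subst hy
        refine ⟨fun e => ?_, fun e => ?_⟩
        · have e' : x ^ q * w = w ^ q := by field_simp at e; linear_combination e
          rw [one_pow] at hsq
          have h1 : (X - Y) * (1 - x ^ q) = 0 := by
            linear_combination e' + x ^ q * hs - hsq - X * hx
          rcases mul_eq_zero.mp h1 with h2 | h2
          · exact hXY (sub_eq_zero.mp h2)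
          · have hx1 : x = 1 := q_inj hF (by rw [one_pow]; linear_combination -h2)
            refine hwq ?_
            rw [← hs, hx1, mul_one, mul_one, q_add hF, hXq, hYq]
        · rw [one_pow, one_mul, div_eq_one_iff_eq hwq0] at e
          exact hwq e.symm
      refine ⟨β₀ ^ q * (w / w ^ q), γ₀ ^ q * (w / w ^ q), hnormone _ hβ₀1, hnormone _ hγ₀1, ?_, ?_⟩
      · field_simp
        linear_combination hsumq
      · rcases not_and_or.mp hgood with e | e <;> rw [not_not] at e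
        · exact (hne γ₀ β₀ C B hBC.symm hCq hBq hγ₀1 e (by linear_combination hsum₀)
            (by linear_combination hsumq)).symm
        · exact hne β₀ γ₀ B C hBC hBq hCq hβ₀1 e hsum₀ hsumq
    obtain ⟨E, hE, -, -, hEx, γm, -, hEm⟩ := exists_phased hF hM 1 m
      (fun l => if l = j then β else if l = k then γ else 1)
      (fun l _ => by split_ifs <;> simp [hβ1, hγ1])
    have hEe : ↟E *ᵥ ε m = γm • ε m := by
      funext l
      rcases eq_or_ne l m with rfl | hl
      · simp [hEm]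
      · simp [hEx _ _ hl, hl]
    have hz0 : z ≠ 0 := fun e => by rw [e, q_zero hF, add_zero] at hz; exact zero_ne_one hz
    obtain ⟨R, hRH, hRx⟩ := hR (1 - z⁻¹) (by
      have hzq0 : z ^ q ≠ 0 := pow_ne_zero _ hz0
      rw [q_sub hF, one_pow, inv_pow]; field_simp; linear_combination -hz)
    have hRe : ↟R *ᵥ ε m = ((1 - z⁻¹) ^ q) • ε m := by
      rw [hRx, herm_single_left, hvm, q_zero hF, mul_zero, mul_zero, zero_smul, add_zero, Pi.single_eq_same]
      module
    have hu := (hv.map hF hH hE hEe).map hF hH hRH hRe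
    obtain ⟨-, -, -⟩ := id hu
    have e_i : (↟E *ᵥ v) i = v i := by simp [hEx _ _ him, hij, hik]
    have e_j : (↟E *ᵥ v) j = β * v j := by simp [hEx _ _ hjm]
    have e_k : (↟E *ᵥ v) k = γ * v k := by simp [hEx _ _ hkm, hjk.symm]
    have e_m : (↟E *ᵥ v) m = 0 := by simp [hEm, hvm]
    have hp : h (↟E *ᵥ v) v = A + B * β + C * γ := by
      rw [herm_four hij hik him hjk hjm hkm, e_i, e_j, e_k, e_m, hA, hB, hC]; ring
    have hp1 : (1 - z⁻¹ - 1) * h (↟E *ᵥ v) v = -1 := by
      rw [hp, show A + B * β + C * γ = z by linear_combination hsum + hw]; field_simp; ring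
    have hu_eq : ↟R *ᵥ (↟E *ᵥ v) = ↟E *ᵥ v - v := by
      rw [hRx, hp1, e_m, mul_zero, zero_smul, add_zero, neg_one_smul, sub_eq_add_neg]
    rw [hu_eq] at hu
    refine eq_of_axis_two hF hq hH hM hjk hjm hij.symm hkm hik.symm him.symm hu ?_ ?_ ?_
    · rw [Pi.sub_apply, e_j]
      exact fun e => hβne (mul_right_cancel₀ hvj (by linear_combination e))
    · rw [Pi.sub_apply, e_k]
      exact fun e => hγne (mul_right_cancel₀ hvk (by linear_combination e))
    · rw [Pi.sub_apply, e_i, sub_self]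
  by_cases h1 : v j * v j ^ q = v k * v k ^ q
  swap
  · exact key v i j k hij hik him hjk hjm hkm hv hvi hvj hvk h1
  by_cases h2 : v i * v i ^ q = v k * v k ^ q
  swap
  · exact key v j i k hij.symm hjk hjm hik him hkm hv hvj hvi hvk h2
  -- three equal norms
  obtain ⟨hv1, hvm, hR⟩ := id hv
  obtain ⟨A, hA⟩ : ∃ A, A = v i * v i ^ q := ⟨_, rfl⟩
  have h3 : 3 * A = 1 := by
    have := hv1
    rw [herm_four hij hik him hjk hjm hkm, hvm, h1, ← h2, ← hA, zero_mul, add_zero] at this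
    linear_combination this
  obtain ⟨τ, hτ, hτ'⟩ : ∃ τ ∈ traceSet q F, τ ∉ ({2, -1} : Finset F) := by
    refine (Finset.exists_mem_notMem_of_card_lt_card ?_)
    have := card_traceSet hF
    have := Finset.card_le_two (a := (2 : F)) (b := -1)
    omega
  simp only [Finset.mem_insert, Finset.mem_singleton, not_or] at hτ'
  obtain ⟨ζ, hζ, rfl⟩ := Finset.mem_image.mp hτ
  rw [mem_normOne] at hζ
  obtain ⟨R, hRH, hRx⟩ := hR ζ hζ
  have hRe : ↟R *ᵥ ε m = (ζ ^ q) • ε m := by
    rw [hRx, herm_single_left, hvm, q_zero hF, mul_zero, mul_zero, zero_smul, add_zero, Pi.single_eq_same]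
    module
  have hu := (axis_single hF hM him).map hF hH hRH hRe
  set u := ↟R *ᵥ ε i with hudef
  have hu' : u = ε i + ((ζ - 1) * v i ^ q) • v := by
    rw [hudef, hRx, herm_single_left, one_mul, Pi.single_eq_of_ne him.symm, mul_zero, zero_smul, add_zero]
  have hζ1 : ζ - 1 ≠ 0 := fun e => hτ'.1 (by rw [sub_eq_zero.mp e, one_pow]; norm_num)
  have hc : (ζ - 1) * v i ^ q ≠ 0 := mul_ne_zero hζ1 (pow_ne_zero _ hvi)
  have huj : u j = (ζ - 1) * v i ^ q * v j := by simp [hu', hij.symm]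
  have huk : u k = (ζ - 1) * v i ^ q * v k := by simp [hu', hik.symm]
  by_cases hui : u i = 0
  · exact eq_of_axis_two hF hq hH hM hjk hjm hij.symm hkm hik.symm him.symm hu (huj ▸ mul_ne_zero hc hvj)
      (huk ▸ mul_ne_zero hc hvk) hui
  refine key u j i k hij.symm hjk hjm hik him hkm hu (huj ▸ mul_ne_zero hc hvj) hui (huk ▸ mul_ne_zero hc hvk) ?_
  intro e
  have hui' : u i = 1 + (ζ - 1) * A := by simp [hu', hA]; ring
  have hAq : A ^ q = A := hA ▸ fixed_norm hF _
  rw [hui', huk, mul_pow, mul_pow, q_add hF, one_pow, mul_pow, q_sub hF, one_pow, hAq, pow_q_pow_q hF] at e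
  have e' : (ζ + ζ ^ q + 1) * A = 0 := by
    linear_combination e - ((ζ - 1) * (ζ ^ q - 1) * (v i * v i ^ q)) * h2
      - ((ζ - 1) * (ζ ^ q - 1) * (A + v i * v i ^ q)) * hA + h3
  rcases mul_eq_zero.mp e' with e1 | e1
  · exact hτ'.2 (by linear_combination e1)
  · rw [e1, mul_zero] at h3; exact zero_ne_one h3

/-- A non-monomial element fixing a coordinate line forces everything. -/
theorem eq_of_fix (hq : 4 ≤ q) (hH : H ≤ suGL 4 F q) (hM : ContainsMono q H) {z : GL (Fin 4) F} (hz : z ∈ H)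
    (hzm : ¬ IsMono z) {m : Fin 4} {γ : F} (hγ : ↟z *ᵥ ε m = γ • ε m) : H = suGL 4 F q := by
  obtain ⟨l, hl⟩ := not_forall.mp hzm
  have hlm : l ≠ m := fun e => hl ⟨m, γ, e ▸ hγ⟩
  have hv := (axis_single hF hM hlm).map hF hH hz hγ
  set v := ↟z *ᵥ ε l with hvdef
  obtain ⟨-, hvm, -⟩ := id hv
  obtain ⟨a, b, hab, ha, hb⟩ : ∃ a b, a ≠ b ∧ v a ≠ 0 ∧ v b ≠ 0 := by
    by_contra hno
    push Not at hno
    obtain ⟨a, ha⟩ : ∃ a, v a ≠ 0 := by
      by_contra h0
      push Not at h0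
      have := hv.1
      rw [show v = 0 from funext h0, h_zero_left hF] at this
      exact zero_ne_one this
    refine hl ⟨a, v a, funext fun i => ?_⟩
    rcases eq_or_ne i a with rfl | hia
    · simp
    · simp [hia, hno a i (Ne.symm hia) ha]
  have ham : a ≠ m := fun e => ha (e ▸ hvm)
  have hbm : b ≠ m := fun e => hb (e ▸ hvm)
  obtain ⟨c, hac, hbc, hcm⟩ : ∃ c, a ≠ c ∧ b ≠ c ∧ c ≠ m := by
    have hh : ∀ a b m : Fin 4, ∃ c, a ≠ c ∧ b ≠ c ∧ c ≠ m := by decide
    exact hh a b m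
  by_cases hc : v c = 0
  · exact eq_of_axis_two hF hq hH hM hab ham hac hbm hbc hcm.symm hv ha hb hc
  · exact eq_of_axis_three hF hq hH hM hab hac ham hbc hbm hcm hv ha hb hc

/-- A column with exactly one zero forces everything. -/
theorem eq_of_col_three (hq : 4 ≤ q) (hH : H ≤ suGL 4 F q) (hM : ContainsMono q H) {g : GL (Fin 4) F}
    (hg : g ∈ H) {l m : Fin 4} (hm : (↟g *ᵥ ε l) m = 0) (hne : ∀ i, i ≠ m → (↟g *ᵥ ε l) i ≠ 0) :
    H = suGL 4 F q := by
  obtain ⟨ω, hω, hω4⟩ := exists_omega_four hF hq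
  obtain ⟨z, hz, hzx⟩ := exists_homology hF hH hM hg l hω
  set v := ↟g *ᵥ ε l with hv
  have hζ : (ω ^ q) ^ 4 - 1 ≠ 0 := fun e => hω4 (by
    have h1 : (ω * ω ^ q) ^ 4 = 1 := by rw [hω, one_pow]
    rw [mul_pow, sub_eq_zero.mp e, mul_one] at h1
    exact h1)
  have hω0 : ω ≠ 0 := left_ne_zero_of_mul_eq_one hω
  obtain ⟨i, j, k, him, hjm, hkm, hij, hik, hjk⟩ : ∃ i j k : Fin 4, i ≠ m ∧ j ≠ m ∧ k ≠ m ∧ i ≠ j ∧ i ≠ k ∧ j ≠ k := by
    have hh : ∀ m : Fin 4, ∃ i j k : Fin 4, i ≠ m ∧ j ≠ m ∧ k ≠ m ∧ i ≠ j ∧ i ≠ k ∧ j ≠ k := by decide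
    exact hh m
  have hc : ((ω ^ q) ^ 4 - 1) * v i ^ q ≠ 0 := mul_ne_zero hζ (pow_ne_zero _ (hne i him))
  refine eq_of_fix hF hq hH hM hz (not_mono_of_col hF (l := i) hjk ?_ ?_) (m := m) (γ := ω) ?_
  · rw [hzx, herm_single_left, one_mul]
    simp [hij.symm, hω0, hc, hne j hjm]
  · rw [hzx, herm_single_left, one_mul]
    simp [hik.symm, hω0, hc, hne k hkm]
  · rw [hzx, herm_single_left, one_mul, hm, q_zero hF, mul_zero, zero_smul, add_zero]

/-- A non-monomial element with a zero entry forces everything. -/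
theorem eq_of_entry_zero (hq : 4 ≤ q) (hH : H ≤ suGL 4 F q) (hM : ContainsMono q H) {g : GL (Fin 4) F}
    (hg : g ∈ H) (hgm : ¬ IsMono g) {j i₀ : Fin 4} (hzero : (↟g *ᵥ ε j) i₀ = 0) : H = suGL 4 F q := by
  classical
  by_contra hK
  have hno3 : ∀ g ∈ H, ∀ l m : Fin 4, (↟g *ᵥ ε l) m = 0 → ∃ i, i ≠ m ∧ (↟g *ᵥ ε l) i = 0 := by
    intro g hg l m hm
    by_contra hno
    push Not at hno
    exact hK (eq_of_col_three hF hq hH hM hg hm hno)
  obtain ⟨i₁, hi₁, hzero'⟩ := hno3 g hg j i₀ hzero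
  set v := ↟g *ᵥ ε j with hvdef
  obtain ⟨a, b, ha0, ha1, hb0, hb1, hab⟩ := four_rest i₀ i₁ hi₁.symm
  have hv1 : v a * v a ^ q + v b * v b ^ q = 1 := by
    have := herm_col hF (hH hg) j
    rw [herm_four hi₁.symm ha0 ha1 hb0 hb1 hab, ← hvdef, hzero, hzero'] at this
    simpa using this
  by_cases hva : v a = 0
  · -- a single nonzero entry
    obtain ⟨P, hP, -, hPm, hPx, γ, -, hPo⟩ := exists_phased hF hM (Equiv.swap j b) j (fun _ => (1 : F))
      (fun _ _ => by simp)
    refine hK (eq_of_fix hF hq hH hM (H.mul_mem hP hg) (fun hmono => hgm ?_) (m := j) (γ := γ * v b) ?_)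
    · have := hPm.inv.mul hmono
      rwa [inv_mul_cancel_left] at this
    · funext i
      rw [Units.val_mul, ← mulVec_mulVec, ← hvdef]
      rcases eq_or_ne i j with rfl | hij
      · simp [hPo]
      · rw [hPx _ _ hij, one_mul, Pi.smul_apply, Pi.single_eq_of_ne hij, smul_zero]
        have hne : Equiv.swap j b i ≠ b := fun e =>
          hij ((Equiv.swap j b).injective (e.trans (Equiv.swap_apply_left j b).symm))
        rcases four_cover i₀ i₁ a b hi₁.symm ha0 ha1 hb0 hb1 hab (Equiv.swap j b i) with e | e | e | e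
        · rw [e, hzero]
        · rw [e, hzero']
        · rw [e, hva]
        · exact absurd e hne
  by_cases hvb : v b = 0
  · obtain ⟨P, hP, -, hPm, hPx, γ, -, hPo⟩ := exists_phased hF hM (Equiv.swap j a) j (fun _ => (1 : F))
      (fun _ _ => by simp)
    refine hK (eq_of_fix hF hq hH hM (H.mul_mem hP hg) (fun hmono => hgm ?_) (m := j) (γ := γ * v a) ?_)
    · have := hPm.inv.mul hmono
      rwa [inv_mul_cancel_left] at this
    · funext i
      rw [Units.val_mul, ← mulVec_mulVec, ← hvdef]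
      rcases eq_or_ne i j with rfl | hij
      · simp [hPo]
      · rw [hPx _ _ hij, one_mul, Pi.smul_apply, Pi.single_eq_of_ne hij, smul_zero]
        have hne : Equiv.swap j a i ≠ a := fun e =>
          hij ((Equiv.swap j a).injective (e.trans (Equiv.swap_apply_left j a).symm))
        rcases four_cover i₀ i₁ a b hi₁.symm ha0 ha1 hb0 hb1 hab (Equiv.swap j a i) with e | e | e | e
        · rw [e, hzero]
        · rw [e, hzero']
        · exact absurd e hne
        · rw [e, hvb]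
  -- exactly two nonzero entries
  obtain ⟨m, hmj, hmc, hmd⟩ : ∃ m, m ≠ j ∧ (↟g *ᵥ ε m) i₀ = 0 ∧ (↟g *ᵥ ε m) i₁ = 0 := by
    by_contra hno
    push Not at hno
    obtain ⟨k, hkj, hka⟩ : ∃ k, k ≠ j ∧ (↟g *ᵥ ε k) a ≠ 0 := by
      by_contra hno'
      push Not at hno'
      have h1 : (↟(g⁻¹) *ᵥ ε a) = (v a ^ q) • ε j := funext fun l => by
        rw [inv_entry hF (hH hg)]
        rcases eq_or_ne l j with rfl | hl
        · simp [hvdef]
        · rw [hno' l hl, q_zero hF]; simp [hl]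
      have h2 := congrArg (↟g *ᵥ ·) h1
      simp only [mulVec_inv_mulVec, mulVec_smul] at h2
      have h3 := congrFun h2 b
      rw [Pi.single_eq_of_ne hab.symm, Pi.smul_apply, ← hvdef, smul_eq_mul] at h3
      exact mul_ne_zero (pow_ne_zero _ hva) hvb h3.symm
    set w := ↟g *ᵥ ε k with hwdef
    have hwv : w a * v a ^ q + w b * v b ^ q = 0 := by
      have := herm_col_ne hF (hH hg) hkj
      rw [herm_four hi₁.symm ha0 ha1 hb0 hb1 hab, ← hvdef, ← hwdef, hzero, hzero', q_zero hF] at this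
      simpa using this
    have hwb : w b ≠ 0 := fun e => by
      rw [e, zero_mul, add_zero] at hwv
      exact mul_ne_zero hka (pow_ne_zero _ hva) hwv
    have hw0 : w i₀ ≠ 0 := fun e => by
      obtain ⟨i, hi, hwi⟩ := hno3 g hg k i₀ e
      rcases four_cover i₀ i₁ a b hi₁.symm ha0 ha1 hb0 hb1 hab i with rfl | rfl | rfl | rfl
      · exact hi rfl
      · exact hno k hkj e hwi
      · exact hka hwi
      · exact hwb hwi
    have hw1 : w i₁ ≠ 0 := fun e => by
      obtain ⟨i, hi, hwi⟩ := hno3 g hg k i₁ e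
      rcases four_cover i₀ i₁ a b hi₁.symm ha0 ha1 hb0 hb1 hab i with rfl | rfl | rfl | rfl
      · exact hw0 hwi
      · exact hi rfl
      · exact hka hwi
      · exact hwb hwi
    obtain ⟨p, r, hjp, hjr, hkp, hkr, hpr⟩ := four_rest j k hkj.symm
    set u₀ := ↟(g⁻¹) *ᵥ ε i₀ with hu₀
    set u₁ := ↟(g⁻¹) *ᵥ ε i₁ with hu₁
    have e0j : u₀ j = 0 := by rw [hu₀, inv_entry hF (hH hg), ← hvdef, hzero, q_zero hF]
    have e1j : u₁ j = 0 := by rw [hu₁, inv_entry hF (hH hg), ← hvdef, hzero', q_zero hF]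
    have e0k : u₀ k ≠ 0 := by rw [hu₀, inv_entry hF (hH hg)]; exact pow_ne_zero _ hw0
    have e1k : u₁ k ≠ 0 := by rw [hu₁, inv_entry hF (hH hg)]; exact pow_ne_zero _ hw1
    have hsecond : ∀ i : Fin 4, (↟(g⁻¹) *ᵥ ε i) j = 0 → (↟(g⁻¹) *ᵥ ε i) k ≠ 0 →
        (↟(g⁻¹) *ᵥ ε i) p = 0 ∨ (↟(g⁻¹) *ᵥ ε i) r = 0 := fun i e1 e2 => by
      obtain ⟨l, hl, hl0⟩ := hno3 g⁻¹ (H.inv_mem hg) i j e1
      rcases four_cover j k p r hkj.symm hjp hjr hkp hkr hpr l with rfl | rfl | rfl | rfl
      · exact absurd rfl hl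
      · exact absurd hl0 e2
      · exact Or.inl hl0
      · exact Or.inr hl0
    have horth : u₀ k * u₁ k ^ q + u₀ p * u₁ p ^ q + u₀ r * u₁ r ^ q = 0 := by
      have := herm_col_ne hF (inv_mem (hH hg)) hi₁.symm
      rw [herm_four hkj.symm hjp hjr hkp hkr hpr, ← hu₀, ← hu₁, e0j] at this
      simpa using this
    have hconj : ∀ l i : Fin 4, (↟(g⁻¹) *ᵥ ε i) l = 0 → (↟g *ᵥ ε l) i = 0 := fun l i e => by
      rw [inv_entry hF (hH hg)] at e
      exact (pow_eq_zero_iff (q_ne_zero hF)).mp e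
    have hboth : ∀ x y : Fin 4, x ≠ j → u₀ x = 0 → u₁ x = 0 → False := fun x _ hx e0 e1 =>
      hno x hx (hconj x i₀ e0) (hconj x i₁ e1)
    have hkk : u₀ k * u₁ k ^ q ≠ 0 := mul_ne_zero e0k (pow_ne_zero _ e1k)
    rcases hsecond i₀ e0j e0k with h0 | h0 <;> rcases hsecond i₁ e1j e1k with h1 | h1
    · exact hboth p p hjp.symm h0 h1
    · rw [← hu₀] at h0; rw [← hu₁] at h1
      rw [h0, h1, q_zero hF] at horth
      exact hkk (by simpa using horth)
    · rw [← hu₀] at h0; rw [← hu₁] at h1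
      rw [h0, h1, q_zero hF] at horth
      exact hkk (by simpa using horth)
    · exact hboth r r hjr.symm h0 h1
  set w := ↟g *ᵥ ε m with hwdef
  obtain ⟨α, hα, hα4⟩ := exists_omega_four hF hq
  obtain ⟨D, hD, -, hDx⟩ := exists_torus' hF hM hmj.symm hα
  have hyx : ∀ x, ↟(g * D * g⁻¹) *ᵥ x = x + ((α - 1) * h x v) • v + ((α ^ q - 1) * h x w) • w := fun x => by
    have hj : ∀ l, (↟(g⁻¹) *ᵥ x) l = h x (↟g *ᵥ ε l) := fun l => by
      conv_rhs => rw [← mulVec_inv_mulVec g x, apply_K (hH hg), herm_right_single hF]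
    rw [Units.val_mul, Units.val_mul, ← mulVec_mulVec, ← mulVec_mulVec, hDx, mulVec_add, mulVec_add, mulVec_smul,
      mulVec_smul, mulVec_inv_mulVec, hj, hj, ← hvdef, ← hwdef]
  have hw1 : w a * w a ^ q + w b * w b ^ q = 1 := by
    have := herm_col hF (hH hg) m
    rw [herm_four hi₁.symm ha0 ha1 hb0 hb1 hab, ← hwdef, hmc, hmd] at this
    simpa using this
  have hwv : w a * v a ^ q + w b * v b ^ q = 0 := by
    have := herm_col_ne hF (hH hg) hmj
    rw [herm_four hi₁.symm ha0 ha1 hb0 hb1 hab, ← hvdef, ← hwdef, hmc, hmd] at this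
    simpa using this
  have hwv' : w a ^ q * v a + w b ^ q * v b = 0 := by
    have := congrArg (· ^ q) hwv
    simpa [q_add hF, mul_pow, pow_q_pow_q hF, q_zero hF] using this
  have hNa : w a * w a ^ q = v b * v b ^ q := by
    linear_combination (-(w a * w a ^ q)) * hv1 + (v b * v b ^ q) * hw1 +
      (v a * w a ^ q) * hwv - (w b * v b ^ q) * hwv'
  have hab' : w a ^ q * w b = -(v a ^ q * v b) := by
    refine mul_right_cancel₀ (pow_ne_zero q hvb) ?_
    linear_combination (w a ^ q) * hwv - (v a ^ q) * hNa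
  have hα0 : α ^ q ≠ α := fun e => hα4 (by
    rw [e] at hα; rw [show α ^ 4 = (α * α) * (α * α) by ring, hα, one_mul])
  refine hK (eq_of_fix hF hq hH hM (H.mul_mem (H.mul_mem hg hD) (H.inv_mem hg))
    (not_mono_of_col hF (l := a) hab ?_ ?_) (m := i₀) (γ := 1) ?_)
  · rw [hyx, herm_single_left, herm_single_left]
    simp
    intro e
    have e' : α * (v a * v a ^ q) + α ^ q * (v b * v b ^ q) = 0 := by
      linear_combination e + hv1 - (α ^ q - 1) * hNa
    have hAq := fixed_norm hF (v a)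
    have hBq := fixed_norm hF (v b)
    have e'' := congrArg (· ^ q) e'
    simp only [q_add hF, mul_pow, pow_q_pow_q hF, q_zero hF] at e'' hAq hBq
    have h4 : (α * α - α ^ q * α ^ q) * (v a * v a ^ q) = 0 := by
      linear_combination α * e' - α ^ q * e''
    rcases mul_eq_zero.mp h4 with h5 | h5
    · refine hα4 ?_
      linear_combination (α * α) * h5 + (α * α ^ q + 1) * hα
    · exact norm_ne_zero hF hva h5
  · rw [hyx, herm_single_left, herm_single_left]
    simp [hab.symm]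
    intro e
    have : (α - α ^ q) * (v a ^ q * v b) = 0 := by linear_combination e - (α ^ q - 1) * hab'
    exact mul_ne_zero (sub_ne_zero.mpr (Ne.symm hα0)) (mul_ne_zero (pow_ne_zero _ hva) hvb) this
  · rw [hyx, herm_single_left, herm_single_left, hzero, hmc, q_zero hF]
    simp

/-- Some non-monomial element has a zero entry. -/
theorem eq_of_large (hq : 4 ≤ q) (hH : H ≤ suGL 4 F q) (hM : ContainsMono q H) {g₀ : GL (Fin 4) F}
    (hg₀ : g₀ ∈ H) (hg₀m : ¬ IsMono g₀) : H = suGL 4 F q := by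
  classical
  by_contra hK
  have hfull : ∀ g ∈ H, ¬ IsMono g → ∀ l i : Fin 4, (↟g *ᵥ ε l) i ≠ 0 := fun g hg hgm l i e =>
    hK (eq_of_entry_zero hF hq hH hM hg hgm e)
  -- a pairing moves a column to another one
  have hperm : ∀ g ∈ H, ¬ IsMono g → ∀ k l i j : Fin 4, k ≠ l → k ≠ i → k ≠ j → l ≠ i → l ≠ j → i ≠ j →
      ∃ p, p ≠ k ∧
        (↟g *ᵥ ε p) k * (↟g *ᵥ ε p) k ^ q = (↟g *ᵥ ε k) l * (↟g *ᵥ ε k) l ^ q ∧
        (↟g *ᵥ ε p) l * (↟g *ᵥ ε p) l ^ q = (↟g *ᵥ ε k) k * (↟g *ᵥ ε k) k ^ q ∧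
        (↟g *ᵥ ε p) i * (↟g *ᵥ ε p) i ^ q = (↟g *ᵥ ε k) j * (↟g *ᵥ ε k) j ^ q ∧
        (↟g *ᵥ ε p) j * (↟g *ᵥ ε p) j ^ q = (↟g *ᵥ ε k) i * (↟g *ᵥ ε k) i ^ q := by
    intro g hg hgm k l i j hkl hki hkj hli hlj hij
    set u := ↟g *ᵥ ε k with hu
    have hu0 := hfull g hg hgm k
    obtain ⟨α, β, γ, δ, hα, hβ, hγ, hδ, hsum, hprod⟩ := exists_orth_phases hF
      (x := u l * u k ^ q) (y := u j * u i ^ q) (mul_ne_zero (hu0 l) (pow_ne_zero _ (hu0 k)))
      (mul_ne_zero (hu0 j) (pow_ne_zero _ (hu0 i)))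
    set σ := Equiv.swap k l * Equiv.swap i j with hσ
    set d : Vs := fun t => if t = k then α else if t = l then β else if t = i then γ else δ with hd
    have hdk : d k = α := by simp [hd]
    have hdl : d l = β := by simp [hd, hkl.symm]
    have hdi : d i = γ := by simp [hd, hki.symm, hli.symm]
    have hdj : d j = δ := by simp [hd, hkj.symm, hlj.symm, hij.symm]
    obtain ⟨M, hM', hMK, -, hMx⟩ := exists_monoElt hM σ d
      (fun t => by rw [hd]; dsimp only; split_ifs <;> assumption) (by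
        have hp : ∏ t, d t = α * β * γ * δ := by
          have hu' : (Finset.univ : Finset (Fin 4)) = {k, l, i, j} := by
            ext t
            have := four_cover k l i j hkl hki hkj hli hlj hij t
            simp only [Finset.mem_univ, Finset.mem_insert, Finset.mem_singleton, true_iff]
            exact this
          rw [hu', Finset.prod_insert (by simp [hkl, hki, hkj]), Finset.prod_insert (by simp [hli, hlj]),
            Finset.prod_insert (by simp [hij]), Finset.prod_singleton, hdk, hdl, hdi, hdj]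
          ring
        rw [hp, hprod, hσ, Equiv.Perm.sign_mul, Equiv.Perm.sign_swap hkl, Equiv.Perm.sign_swap hij]
        simp)
    have hσk : σ k = l := by simp [hσ, Equiv.swap_apply_of_ne_of_ne hki hkj]
    have hσl : σ l = k := by simp [hσ, Equiv.swap_apply_of_ne_of_ne hli hlj]
    have hσi : σ i = j := by simp [hσ, Equiv.swap_apply_of_ne_of_ne hkj.symm hlj.symm]
    have hσj : σ j = i := by simp [hσ, Equiv.swap_apply_of_ne_of_ne hki.symm hli.symm]
    set y := g⁻¹ * M * g with hy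
    have hyH : y ∈ H := H.mul_mem (H.mul_mem (H.inv_mem hg) hM') hg
    have hgy : ↟g *ᵥ (↟y *ᵥ ε k) = ↟M *ᵥ u := by
      rw [hy, Units.val_mul, Units.val_mul, ← mulVec_mulVec, ← mulVec_mulVec, mulVec_inv_mulVec]
    have hyk : (↟y *ᵥ ε k) k = 0 := by
      rw [← herm_right_single hF (↟y *ᵥ ε k) k, ← apply_K (hH hg), hgy, ← hu,
        herm_four hkl hki hkj hli hlj hij, hMx, hMx, hMx, hMx, hσk, hσl, hσi, hσj, hdk, hdl, hdi, hdj]
      rw [mul_pow, mul_pow, pow_q_pow_q hF, pow_q_pow_q hF] at hsum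
      linear_combination hsum
    have hym : IsMono y := by
      by_contra hn
      exact hfull y hyH hn k k hyk
    obtain ⟨p, c, hc⟩ := hym k
    have hc1 : c * c ^ q = 1 := by
      have := herm_col hF (hH hyH) k
      rw [hc, herm_smul_left hF, herm_smul_right hF, herm_single_left, Pi.single_eq_same, one_pow] at this
      linear_combination this
    have hpk : p ≠ k := fun e => by
      rw [hc, e] at hyk
      simp at hyk
      rw [hyk, zero_mul] at hc1
      exact zero_ne_one hc1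
    rw [hc, mulVec_smul] at hgy
    have hN : ∀ t, (↟g *ᵥ ε p) t * (↟g *ᵥ ε p) t ^ q = u (σ t) * u (σ t) ^ q := fun t => by
      have h1 : c * (↟g *ᵥ ε p) t = d t * u (σ t) := by
        have := congrFun hgy t
        rwa [Pi.smul_apply, smul_eq_mul, hMx] at this
      have h2 := congrArg (fun z => z * z ^ q) h1
      simp only [mul_pow] at h2
      have hdt : d t * d t ^ q = 1 := by rw [hd]; dsimp only; split_ifs <;> assumption
      linear_combination h2 - ((↟g *ᵥ ε p) t * (↟g *ᵥ ε p) t ^ q) * hc1 + (u (σ t) * u (σ t) ^ q) * hdt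
    exact ⟨p, hpk, by rw [hN, hσk], by rw [hN, hσl], by rw [hN, hσi], by rw [hN, hσj]⟩
  -- homologies
  have hhom : ∀ g ∈ H, ¬ IsMono g → ∀ (c : Fin 4) (ω : F), ω * ω ^ q = 1 → ω ^ 4 ≠ 1 → ∀ (V : Fin 4 → F) (d : F),
      (∀ t, V t = (↟g *ᵥ ε c) t * (↟g *ᵥ ε c) t ^ q) → d = 2 - ((ω ^ q) ^ 4 + ω ^ 4) →
      d ≠ 0 ∧ ∃ z ∈ H, ¬ IsMono z ∧
        (∀ k, (↟z *ᵥ ε k) k * (↟z *ᵥ ε k) k ^ q = 1 - d * V k * (1 - V k)) ∧
        (∀ k i, i ≠ k → (↟z *ᵥ ε k) i * (↟z *ᵥ ε k) i ^ q = d * V k * V i) := by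
    intro g hg hgm c ω hω hω4 V d hV hd
    obtain ⟨z, hz, hzx⟩ := exists_homology hF hH hM hg c hω
    set v := ↟g *ᵥ ε c with hv
    have hω0 : ω ≠ 0 := left_ne_zero_of_mul_eq_one hω
    have hζn : (ω ^ q) ^ 4 * ω ^ 4 = 1 := by rw [← mul_pow, mul_comm, hω, one_pow]
    have hζq : ((ω ^ q) ^ 4) ^ q = ω ^ 4 := by rw [← pow_mul (ω ^ q) 4 q, mul_comm 4 q, pow_mul, pow_q_pow_q hF]
    have hζ1 : (ω ^ q) ^ 4 - 1 ≠ 0 := fun e => hω4 (by rw [sub_eq_zero.mp e, one_mul] at hζn; exact hζn)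
    have hd' : d = ((ω ^ q) ^ 4 - 1) * (ω ^ 4 - 1) * -1 * -1 := by rw [hd]; linear_combination -hζn
    have hv0 := hfull g hg hgm c
    have hzd : ∀ k, (↟z *ᵥ ε k) k = ω * (1 + ((ω ^ q) ^ 4 - 1) * V k) := fun k => by
      rw [hzx, herm_single_left, one_mul, hV, Pi.smul_apply, Pi.add_apply, Pi.single_eq_same, Pi.smul_apply,
        smul_eq_mul, smul_eq_mul]
      ring
    have hzo : ∀ k i, i ≠ k → (↟z *ᵥ ε k) i = ω * (((ω ^ q) ^ 4 - 1) * v k ^ q * v i) := fun k i hik => by
      rw [hzx, herm_single_left, one_mul]; simp [hik]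
    have hd0 : d ≠ 0 := by
      rw [hd']
      simp only [mul_ne_zero_iff, ne_eq, neg_eq_zero, one_ne_zero, not_false_eq_true, and_true]
      exact ⟨hζ1, fun e => hω4 (sub_eq_zero.mp e)⟩
    refine ⟨hd0, z, hz, not_mono_of_col hF (l := 0) (a := 1) (b := 2) (by decide) ?_ ?_, fun k => ?_,
      fun k i hik => ?_⟩
    · rw [hzo 0 1 (by decide)]; exact mul_ne_zero hω0 (mul_ne_zero (mul_ne_zero hζ1 (pow_ne_zero _ (hv0 0))) (hv0 1))
    · rw [hzo 0 2 (by decide)]; exact mul_ne_zero hω0 (mul_ne_zero (mul_ne_zero hζ1 (pow_ne_zero _ (hv0 0))) (hv0 2))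
    · have hVq : V k ^ q = V k := by rw [hV]; exact fixed_norm hF _
      rw [hzd, mul_pow, q_add hF, one_pow, mul_pow, q_sub hF, one_pow, hζq, hVq, hd]
      linear_combination ((1 + ((ω ^ q) ^ 4 - 1) * V k) * (1 + (ω ^ 4 - 1) * V k)) * hω + (V k * V k) * hζn
    · rw [hzo k i hik, mul_pow, mul_pow, mul_pow, pow_q_pow_q hF, q_sub hF, one_pow, hζq, hV, hV, hd']
      linear_combination
        (((ω ^ q) ^ 4 - 1) * (ω ^ 4 - 1) * (v k * v k ^ q) * (v i * v i ^ q)) * hω
  obtain ⟨ω, hω, hω4⟩ := exists_omega_four hF hq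
  obtain ⟨ω', hω', hω'4, hωbest⟩ : ∃ ω' : F, ω' * ω' ^ q = 1 ∧ ω' ^ 4 ≠ 1 ∧ (q ≠ 7 → ω' ^ 8 ≠ 1) := by
    by_cases h7 : q = 7
    · exact ⟨ω, hω, hω4, fun hh => absurd h7 hh⟩
    · obtain ⟨x, hx, hx8⟩ := exists_omega_eight hF hq h7
      exact ⟨x, hx, fun e => hx8 (by rw [show x ^ 8 = (x ^ 4) * (x ^ 4) by ring, e, one_mul]), fun _ => hx8⟩
  obtain ⟨d, hd⟩ : ∃ d, d = 2 - ((ω' ^ q) ^ 4 + ω' ^ 4) := ⟨_, rfl⟩
  -- equal norms on one pair give equal norms on the other
  have hopt : ∀ g ∈ H, ¬ IsMono g → ∀ c k l i j : Fin 4, k ≠ l → k ≠ i → k ≠ j → l ≠ i → l ≠ j → i ≠ j →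
      ∀ V : Fin 4 → F, (∀ t, V t = (↟g *ᵥ ε c) t * (↟g *ᵥ ε c) t ^ q) → V k + V l + V i + V j = 1 ∧
      ((V k = V l ∧ V i = V j) ∨
        (((V i = V l ∧ V j = V k) ∨ (V j = V l ∧ V i = V k)) ∧ d * (V l * V l + V k * (1 - V k)) = 1)) := by
    intro g hg hgm c k l i j hkl hki hkj hli hlj hij V hV
    have hsum : V k + V l + V i + V j = 1 := by
      rw [hV, hV, hV, hV, ← herm_four hkl hki hkj hli hlj hij]; exact herm_col hF (hH hg) c
    refine ⟨hsum, ?_⟩
    obtain ⟨hd0, z, hz, hzm, hdiag, hoff⟩ := hhom g hg hgm c ω' hω' hω'4 V d hV hd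
    obtain ⟨p, hpk, p1, p2, p3, p4⟩ := hperm z hz hzm k l i j hkl hki hkj hli hlj hij
    rw [hoff k l hkl.symm] at p1
    rw [hdiag k] at p2
    rw [hoff k j hkj.symm] at p3
    rw [hoff k i hki.symm] at p4
    have hV0 : ∀ t, V t ≠ 0 := fun t => by rw [hV]; exact norm_ne_zero hF (hfull g hg hgm c t)
    rcases four_cover k l i j hkl hki hkj hli hlj hij p with rfl | rfl | rfl | rfl
    · exact absurd rfl hpk
    · left
      rw [hoff p i hli.symm] at p3
      rw [hoff p j hlj.symm] at p4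
      have q3 : V p * V i = V k * V j := mul_left_cancel₀ hd0 (by linear_combination p3)
      have q4 : V p * V j = V k * V i := mul_left_cancel₀ hd0 (by linear_combination p4)
      have h5 : (V i - V j) * (V i + V j) * V p = 0 := by linear_combination V i * q3 - V j * q4
      rcases mul_eq_zero.mp ((mul_eq_zero.mp h5).resolve_right (hV0 p)) with h6 | h6
      · have h7 : V i = V j := sub_eq_zero.mp h6
        rw [h7] at q3
        exact ⟨(mul_right_cancel₀ (hV0 j) q3).symm, h7⟩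
      · exfalso
        have h7 : (V p + V k) * V i = 0 := by linear_combination q3 + V k * h6
        have h8 := (mul_eq_zero.mp h7).resolve_right (hV0 i)
        exact one_ne_zero (α := F) (by linear_combination h6 + h8 - hsum)
    · right
      rw [hoff p k hki] at p1
      rw [hoff p l hli] at p2
      rw [hoff p j hij.symm] at p4
      have q1 : V p = V l :=
        mul_left_cancel₀ (hV0 k) (mul_left_cancel₀ hd0 (by linear_combination p1))
      have q4 : V j = V k :=
        mul_left_cancel₀ (hV0 p) (mul_left_cancel₀ hd0 (by linear_combination p4))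
      exact ⟨Or.inl ⟨q1, q4⟩, by rw [q1] at p2; linear_combination p2⟩
    · right
      rw [hoff p k hkj] at p1
      rw [hoff p l hlj] at p2
      rw [hoff p i hij] at p3
      have q1 : V p = V l :=
        mul_left_cancel₀ (hV0 k) (mul_left_cancel₀ hd0 (by linear_combination p1))
      have q4 : V i = V k :=
        mul_left_cancel₀ (hV0 p) (mul_left_cancel₀ hd0 (by linear_combination p3))
      exact ⟨Or.inr ⟨q1, q4⟩, by rw [q1] at p2; linear_combination p2⟩
  have hpair : ∀ g ∈ H, ¬ IsMono g → ∀ c k l i j : Fin 4, k ≠ l → k ≠ i → k ≠ j → l ≠ i → l ≠ j → i ≠ j →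
      ∀ V : Fin 4 → F, (∀ t, V t = (↟g *ᵥ ε c) t * (↟g *ᵥ ε c) t ^ q) → V i = V j → V k = V l := by
    intro g hg hgm c k l i j hkl hki hkj hli hlj hij V hV hVij
    rcases (hopt g hg hgm c k l i j hkl hki hkj hli hlj hij V hV).2 with ⟨e, -⟩ | ⟨⟨e1, e2⟩ | ⟨e1, e2⟩, -⟩
    · exact e
    · rw [← e2, ← hVij, e1]
    · rw [← e2, hVij, e1]
  -- all norms equal
  have hflat : ∀ g ∈ H, ¬ IsMono g → ∀ c : Fin 4,
      4 * ((↟g *ᵥ ε c) 0 * (↟g *ᵥ ε c) 0 ^ q) = 1 ∧
        (∀ t, 4 * ((↟g *ᵥ ε c) t * (↟g *ᵥ ε c) t ^ q) = 1) ∧ d = 4 := by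
    intro g hg hgm c
    obtain ⟨V, hV⟩ : ∃ V : Fin 4 → F, ∀ t, V t = (↟g *ᵥ ε c) t * (↟g *ᵥ ε c) t ^ q := ⟨_, fun t => rfl⟩
    obtain ⟨hd0, z, hz, hzm, hdiag, hoff⟩ := hhom g hg hgm c ω' hω' hω'4 V d hV hd
    obtain ⟨k, l, i, j, hkl, hki, hkj, hli, hlj, hij, eP, eQ⟩ : ∃ k l i j : Fin 4, k ≠ l ∧ k ≠ i ∧ k ≠ j ∧
        l ≠ i ∧ l ≠ j ∧ i ≠ j ∧ V k = V l ∧ V i = V j := by
      rcases (hopt g hg hgm c 0 1 2 3 (by decide) (by decide) (by decide) (by decide) (by decide) (by decide)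
        V hV).2 with ⟨e1, e2⟩ | ⟨⟨e1, e2⟩ | ⟨e1, e2⟩, -⟩
      · exact ⟨0, 1, 2, 3, by decide, by decide, by decide, by decide, by decide, by decide, e1, e2⟩
      · exact ⟨0, 3, 1, 2, by decide, by decide, by decide, by decide, by decide, by decide, e2.symm, e1.symm⟩
      · exact ⟨0, 2, 1, 3, by decide, by decide, by decide, by decide, by decide, by decide, e2.symm, e1.symm⟩
    obtain ⟨hsum, -⟩ := hopt g hg hgm c k l i j hkl hki hkj hli hlj hij V hV
    rw [← eP, ← eQ] at hsum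
    have hab : V k = V i := by
      by_contra hne
      rcases (hopt g hg hgm c k i l j hki hkl hkj hli.symm hij hlj V hV).2 with ⟨e, -⟩ | ⟨-, e⟩
      · exact hne e
      · have hd4 : d = 4 := by
          linear_combination 4 * e - d * (2 * V i - 2 * V k + 1) * hsum
        have hh := hpair z hz hzm k k l i j hkl hki hkj hli hlj hij
          (fun t => (↟z *ᵥ ε k) t * (↟z *ᵥ ε k) t ^ q) (fun _ => rfl) (by
            show (↟z *ᵥ ε k) i * _ = (↟z *ᵥ ε k) j * _
            rw [hoff k i hki.symm, hoff k j hkj.symm, eQ])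
        simp only [hdiag, hoff k l hkl.symm, ← eP, hd4] at hh
        have h2 : (2 * V i - 2 * V k) * (2 * (V i + V k)) = 0 := by
          linear_combination hh + (1 + 2 * V i + 2 * V k - 4 * V k) * hsum
        rcases mul_eq_zero.mp h2 with h3 | h3
        · have : (2 : F) * (V i - V k) = 0 := by linear_combination h3
          rcases mul_eq_zero.mp this with h4 | h4
          · exact one_ne_zero (α := F) (by linear_combination -hsum + (V k + V i) * h4)
          · exact hne (by linear_combination -h4)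
        · exact one_ne_zero (α := F) (by linear_combination -hsum + h3)
    have h4V : 4 * V k = 1 := by rw [← hab] at hsum; linear_combination hsum
    have hall : ∀ t, 4 * V t = 1 := fun t => by
      rcases four_cover k l i j hkl hki hkj hli hlj hij t with rfl | rfl | rfl | rfl
      · exact h4V
      · rw [← eP]; exact h4V
      · rw [← hab]; exact h4V
      · rw [← eQ, ← hab]; exact h4V
    have hd4 : d = 4 := by
      have hh := hpair z hz hzm k k l i j hkl hki hkj hli hlj hij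
        (fun t => (↟z *ᵥ ε k) t * (↟z *ᵥ ε k) t ^ q) (fun _ => rfl) (by
          show (↟z *ᵥ ε k) i * _ = (↟z *ᵥ ε k) j * _
          rw [hoff k i hki.symm, hoff k j hkj.symm, eQ])
      simp only [hdiag, hoff k l hkl.symm, ← eP] at hh
      linear_combination -4 * hh - d * h4V
    exact ⟨(hV 0) ▸ hall 0, fun t => (hV t) ▸ hall t, hd4⟩
  obtain ⟨-, -, hd4⟩ := hflat g₀ hg₀ hg₀m 0
  have hζn : (ω' ^ q) ^ 4 * ω' ^ 4 = 1 := by rw [← mul_pow, mul_comm, hω', one_pow]
  have h8 : ω' ^ 8 = 1 := by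
    have h1 : (ω' ^ 4 + 1) * (ω' ^ 4 + 1) = 0 := by
      rw [hd] at hd4
      linear_combination (-(ω' ^ 4)) * hd4 - hζn
    have h2 := mul_self_eq_zero.mp h1
    linear_combination (ω' ^ 4 - 1) * h2
  have hq7 : q = 7 := by
    by_contra hh
    exact hωbest hh h8
  have h7 : (7 : F) = 0 := by
    have := FiniteField.cast_card_eq_zero F
    rw [hF, hq7] at this
    push_cast at this
    exact mul_self_eq_zero.mp (show (7 : F) * 7 = 0 by linear_combination this)
  -- the field of order 49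
  have hω2 : ω' ^ 4 = -1 := by
    have h1 : (ω' ^ 4 - 1) * (ω' ^ 4 + 1) = 0 := by linear_combination h8
    exact eq_neg_of_add_eq_zero_left ((mul_eq_zero.mp h1).resolve_left (sub_ne_zero.mpr hω'4))
  obtain ⟨α, hα, hατ⟩ : ∃ α : F, α * α ^ q = 1 ∧ α + α ^ q = -3 := by
    have hτ2 : (ω' + ω' ^ q) * (ω' + ω' ^ q) = 2 := by
      have hω0 : ω' ^ 2 ≠ 0 := pow_ne_zero _ (left_ne_zero_of_mul_eq_one hω')
      refine mul_left_cancel₀ hω0 ?_
      linear_combination hω2 + (2 * ω' ^ 2 + ω' * ω' ^ q + 1) * hω'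
    have h1 : (ω' + ω' ^ q - 3) * (ω' + ω' ^ q + 3) = 0 := by linear_combination hτ2 - h7
    rcases mul_eq_zero.mp h1 with e | e
    · exact ⟨-ω', by rw [q_neg hF, neg_mul_neg, hω'], by rw [q_neg hF]; linear_combination -e⟩
    · exact ⟨ω', hω', by linear_combination e⟩
  obtain ⟨D, hD, -, hDx⟩ := exists_torus' hF hM (k := (0 : Fin 4)) (o := 1) (by decide) hα
  have hinv : ¬ IsMono g₀⁻¹ := fun hm => hg₀m (by simpa using hm.inv)
  obtain ⟨-, hA, -⟩ := hflat g₀⁻¹ (H.inv_mem hg₀) hinv 0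
  set u := ↟(g₀⁻¹) *ᵥ ε 0 with hu
  have hy0 : (↟(g₀ * D * g₀⁻¹) *ᵥ ε 0) 0 * 4 = -1 := by
    have e : (↟(g₀ * D * g₀⁻¹) *ᵥ ε 0) 0 = h (↟D *ᵥ u) u := by
      rw [← apply_K (hH hg₀) (↟D *ᵥ u) u, hu, mulVec_inv_mulVec, herm_right_single hF,
        Units.val_mul, Units.val_mul, ← mulVec_mulVec, ← mulVec_mulVec]
    rw [e, Cfsg.hermForm, Fin.sum_univ_four, hDx]
    simp
    linear_combination α * hA 0 + α ^ q * hA 1 + hA 2 + hA 3 + hατ
  have hy := H.mul_mem (H.mul_mem hg₀ hD) (H.inv_mem hg₀)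
  have h4 : (4 : F) ≠ 0 := fun e => by rw [e, mul_zero] at hy0; exact one_ne_zero (neg_eq_zero.mp hy0.symm)
  have hy0q : (↟(g₀ * D * g₀⁻¹) *ᵥ ε 0) 0 ^ q * 4 = -1 := by
    have h4q : (4 : F) ^ q = 4 := by rw [← qPowHom_apply hF, map_ofNat]
    have := congrArg (· ^ q) hy0
    simpa [mul_pow, h4q, q_neg hF] using this
  by_cases hmono : IsMono (g₀ * D * g₀⁻¹)
  · obtain ⟨o, c, hc⟩ := hmono 0
    have ho : o = 0 := by
      by_contra ho
      rw [hc, Pi.smul_apply, Pi.single_eq_of_ne (Ne.symm ho), smul_zero, zero_mul] at hy0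
      exact one_ne_zero (neg_eq_zero.mp hy0.symm)
    subst ho
    have h1 := herm_col hF (hH hy) 0
    rw [hc, herm_smul_left hF, herm_smul_right hF, herm_single_left, Pi.single_eq_same, one_pow] at h1
    rw [hc] at hy0 hy0q
    simp at hy0 hy0q
    exact one_ne_zero (α := F) (by linear_combination -(16 * h1 - (4 * c ^ q) * hy0 + hy0q) - 2 * h7)
  · obtain ⟨h1, -, -⟩ := hflat _ hy hmono 0
    exact one_ne_zero (α := F) (by
      linear_combination 2 * (4 * h1 - (4 * (↟(g₀ * D * g₀⁻¹) *ᵥ ε 0) 0 ^ q) * hy0 + hy0q) + h7)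

/-- Overgroups of the monomial subgroup in `SU_4(2)`. -/
theorem eq_of_two (hq : q = 2) (hH : H ≤ suGL 4 F q) (hM : ContainsMono q H) {g : GL (Fin 4) F}
    (hg : g ∈ H) (hgm : ¬ IsMono g) : H = suGL 4 F q := by
  classical
  have h4 : Fintype.card F = 4 := by rw [hF, hq]; norm_num
  have h2 : (2 : F) = 0 := by
    have := FiniteField.cast_card_eq_zero F
    rw [h4] at this
    push_cast at this
    exact mul_self_eq_zero.mp (show (2 : F) * 2 = 0 by linear_combination this)
  have hN : ∀ x : F, x ≠ 0 → x * x ^ q = 1 := fun x hx => by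
    have := FiniteField.pow_card_sub_one_eq_one x hx
    rw [h4] at this
    rw [hq]; linear_combination this
  obtain ⟨supp, hsupp⟩ : ∃ supp : Vs → Finset (Fin 4), ∀ x l, l ∈ supp x ↔ x l ≠ 0 :=
    ⟨fun x => Finset.univ.filter fun l => x l ≠ 0, fun x l => by simp⟩
  have hhx : ∀ x : Vs, h x x = ((supp x).card : F) := fun x => by
    rw [herm_self_eq_sum, ← Finset.sum_subset (Finset.subset_univ (supp x)) (fun l _ hl => by
      rw [not_not.mp (mt (hsupp x l).mpr hl), zero_mul]),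
      Finset.sum_congr rfl (fun l hl => hN _ ((hsupp x l).mp hl)), Finset.sum_const, nsmul_one]
  have hodd : ∀ x : Vs, h x x = 1 → (supp x).card = 1 ∨ (supp x).card = 3 := fun x hx => by
    have hle : (supp x).card ≤ 4 := by simpa using (supp x).card_le_univ
    rw [hhx] at hx
    interval_cases hc : (supp x).card <;> simp_all
    all_goals exact one_ne_zero (α := F) (by linear_combination hx - h2 * (1 : F))
  have heven : ∀ x : Vs, h x x = 0 → x ≠ 0 → (supp x).card = 2 ∨ (supp x).card = 4 := fun x hx hx0 => by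
    have hle : (supp x).card ≤ 4 := by simpa using (supp x).card_le_univ
    have hpos : 0 < (supp x).card := Finset.card_pos.mpr (by
      obtain ⟨l, hl⟩ := Function.ne_iff.mp hx0
      exact ⟨l, (hsupp x l).mpr hl⟩)
    rw [hhx] at hx
    interval_cases hc : (supp x).card <;> simp_all
    all_goals exact one_ne_zero (α := F) (by linear_combination hx - h2)
  have hskew : ∀ c : F, c + c ^ q = 0 → c = 0 ∨ c = 1 := fun c hc => by
    rw [hq] at hc
    rcases mul_eq_zero.mp (show c * (c - 1) = 0 by linear_combination hc - c * h2) with e | e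
    · exact Or.inl e
    · exact Or.inr (sub_eq_zero.mp e)
  -- root vectors of weight two are monomial
  have hroot2 : ∀ x : Vs, h x x = 0 → (supp x).card = 2 → x ∈ root q H := by
    intro x hx hx2
    refine ⟨hx, fun c hc => hM _ (T_mem hF x hx hc) ?_⟩
    obtain ⟨a, b, hab, hxab⟩ := Finset.card_eq_two.mp hx2
    have hxa : x a ≠ 0 := (hsupp x a).mp (by rw [hxab]; simp)
    have hxb : x b ≠ 0 := (hsupp x b).mp (by rw [hxab]; simp)
    have hxo : ∀ l, l ≠ a → l ≠ b → x l = 0 := fun l h1 h2 => by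
      by_contra h0
      have := (hsupp x l).mpr h0
      rw [hxab] at this
      simp [h1, h2] at this
    rcases hskew c hc with rfl | rfl
    · intro l
      exact ⟨l, 1, by rw [T_mulVec, zero_mul, zero_smul, add_zero, one_smul]⟩
    intro l
    rw [T_mulVec, one_mul, herm_single_left, one_mul]
    rcases eq_or_ne l a with rfl | hla
    · refine ⟨b, x l ^ q * x b, funext fun i => ?_⟩
      rcases eq_or_ne i l with rfl | hil
      · simp [hab, hxo]
        linear_combination hN _ hxa + h2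
      rcases eq_or_ne i b with rfl | hib
      · simp [hil]
      · simp [hil, hib, hxo i hil hib]
    rcases eq_or_ne l b with rfl | hlb
    · refine ⟨a, x l ^ q * x a, funext fun i => ?_⟩
      rcases eq_or_ne i l with rfl | hil
      · simp [hla, hxo]
        linear_combination hN _ hxb + h2
      rcases eq_or_ne i a with rfl | hia
      · simp [hil]
      · simp [hil, hia, hxo i hia hil]
    · exact ⟨l, 1, by rw [hxo l hla hlb, q_zero hF, zero_smul, add_zero, one_smul]⟩
  -- a root vector of weight four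
  obtain ⟨r, hr, hr4⟩ : ∃ r ∈ root q H, ∀ l, r l ≠ 0 := by
    obtain ⟨j, hj⟩ := not_forall.mp hgm
    set v := ↟g *ᵥ ε j with hv
    have hv3 : (supp v).card = 3 := (hodd v (herm_col hF (hH hg) j)).resolve_left fun e => by
      obtain ⟨o, ho⟩ := Finset.card_eq_one.mp e
      refine hj ⟨o, v o, funext fun i => ?_⟩
      rcases eq_or_ne i o with rfl | hio
      · simp
      · have : v i = 0 := by
          by_contra h0
          have := (hsupp v i).mpr h0
          rw [ho] at this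
          simp [hio] at this
        simp [hio, this]
    obtain ⟨d, hd⟩ : ∃ d, v d = 0 := by
      by_contra hno
      push Not at hno
      have : supp v = Finset.univ := Finset.eq_univ_of_forall fun l => (hsupp v l).mpr (hno l)
      rw [this] at hv3
      simp at hv3
    obtain ⟨k, hk⟩ := exists_col_ne g d
    have hkj : k ≠ j := fun e => hk (e ▸ hd)
    set w := ↟g *ᵥ ε k with hw
    obtain ⟨ω, hω, hω1, hω0⟩ := exists_norm_one hF
    have hmem : ∀ φ : F, φ ≠ 0 → v + φ • w ∈ root q H := fun φ hφ => by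
      have hx : h (ε j + φ • ε k) (ε j + φ • ε k) = 0 := by
        simp only [herm_add_left hF, herm_add_right hF, herm_smul_left hF, herm_smul_right hF, herm_single_left,
          Pi.single_eq_same, Pi.single_eq_of_ne hkj, Pi.single_eq_of_ne hkj.symm, q_zero hF, one_pow]
        linear_combination hN φ hφ + h2
      have hs : supp (ε j + φ • ε k) = {j, k} := by
        ext l
        rw [hsupp]
        rcases eq_or_ne l j with rfl | hlj
        · simp [hkj.symm]
        rcases eq_or_ne l k with rfl | hlk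
        · simp [hlj, hφ]
        · simp [hlj, hlk]
      have h1 := root_map hH hg (hroot2 _ hx (by rw [hs, Finset.card_pair hkj.symm]))
      rwa [mulVec_add, mulVec_smul, ← hv, ← hw] at h1
    have hkill : ∀ φ : F, φ ≠ 0 → (∀ l, (v + φ • w) l ≠ 0) ∨
        2 ≤ (Finset.univ.filter fun l => (v + φ • w) l = 0).card := fun φ hφ => by
      have hne : v + φ • w ≠ 0 := fun e => hk (by
        have := congrFun e d
        simpa [hd, hφ] using this)
      rcases heven _ (hmem φ hφ).1 hne with e | e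
      · right
        have hc : (Finset.univ.filter fun l => (v + φ • w) l = 0) = (supp (v + φ • w))ᶜ := by
          ext l
          rw [Finset.mem_compl, hsupp, not_not, Finset.mem_filter]
          simp
        rw [hc, Finset.card_compl, e, Fintype.card_fin]
      · left
        intro l
        have : supp (v + φ • w) = Finset.univ := Finset.eq_univ_of_card _ (by rw [e, Fintype.card_fin])
        exact (hsupp _ l).mp (this ▸ Finset.mem_univ l)
    rcases hkill 1 one_ne_zero with e | e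
    · exact ⟨_, hmem 1 one_ne_zero, e⟩
    rcases hkill ω hω0 with e' | e'
    · exact ⟨_, hmem ω hω0, e'⟩
    exfalso
    have hdisj : Disjoint (Finset.univ.filter fun l => (v + (1 : F) • w) l = 0)
        (Finset.univ.filter fun l => (v + ω • w) l = 0) := by
      rw [Finset.disjoint_left]
      intro l hl hl'
      simp only [Finset.mem_filter, Finset.mem_univ, true_and, Pi.add_apply, Pi.smul_apply, smul_eq_mul] at hl hl'
      have hwl : w l = 0 := (mul_eq_zero.mp (show (ω - 1) * w l = 0 by linear_combination hl' - hl)).resolve_left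
        (sub_ne_zero.mpr hω1)
      rcases eq_or_ne l d with rfl | hld
      · exact hk hwl
      · rw [hwl, mul_zero, add_zero] at hl
        have hs : supp v = Finset.univ.erase d := Finset.eq_of_subset_of_card_le (fun i hi =>
          Finset.mem_erase.mpr ⟨fun e => (hsupp v i).mp hi (e ▸ hd), Finset.mem_univ _⟩) (by
          rw [Finset.card_erase_of_mem (Finset.mem_univ d), Finset.card_univ, Fintype.card_fin, hv3])
        exact (hsupp v l).mp (by rw [hs]; simp [hld]) hl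
    have hle : (Finset.univ.filter fun l => (v + (1 : F) • w) l = 0) ∪
        (Finset.univ.filter fun l => (v + ω • w) l = 0) ⊆ Finset.univ.erase d := fun l hl => by
      refine Finset.mem_erase.mpr ⟨fun e => ?_, Finset.mem_univ _⟩
      subst e
      simp [hd, hω0] at hl
      exact hk hl
    have h1 := Finset.card_le_card hle
    rw [Finset.card_union_of_disjoint hdisj, Finset.card_erase_of_mem (Finset.mem_univ d), Finset.card_univ,
      Fintype.card_fin] at h1
    omega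
  -- all root vectors
  refine eq_suGL hF (by norm_num) (by omega) hH fun x hx => ?_
  by_cases hx0 : x = 0
  · subst hx0
    simpa using root_smul hF hr (0 : F)
  rcases heven x hx hx0 with e | e
  · exact hroot2 x hx e
  have hx4 : ∀ l, x l ≠ 0 := fun l => (hsupp x l).mp (by
    rw [Finset.eq_univ_of_card (supp x) (by rw [e, Fintype.card_fin])]; exact Finset.mem_univ l)
  obtain ⟨lam, hlam⟩ : ∃ lam, lam = ∏ l, x l / r l := ⟨_, rfl⟩
  have hlam0 : lam ≠ 0 := hlam ▸ Finset.prod_ne_zero_iff.mpr fun l _ => div_ne_zero (hx4 l) (hr4 l)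
  obtain ⟨D, hD, -, -, hDx⟩ := exists_diagElt hM (fun l => x l / r l / lam)
    (fun l => hN _ (div_ne_zero (div_ne_zero (hx4 l) (hr4 l)) hlam0)) (by
      simp only [div_eq_mul_inv _ lam, Finset.prod_mul_distrib, Finset.prod_const, Finset.card_univ, Fintype.card_fin,
        ← hlam]
      have h3 : lam ^ 3 = 1 := by
        have := hN lam hlam0
        rw [hq] at this
        linear_combination this
      field_simp
      linear_combination -h3)
  convert root_smul hF (root_map hH hD hr) lam using 1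
  funext l
  rw [Pi.smul_apply, hDx, smul_eq_mul, ← mul_assoc, mul_div_cancel₀ _ hlam0, div_mul_cancel₀ _ (hr4 l)]

/-- The stabiliser of an orthogonal frame is maximal in `SU_4(q)`, `q ≠ 3`. -/
theorem isMaximalIn_frameFour (hq : q ≠ 3) {D : Fin 4 → Submodule F Vs}
    (hD : Cfsg.Geo.IsNondegenerateMDecomposition h 1 D) :
    Cfsg.Geo.IsMaximalIn (suGL 4 F q) (Cfsg.Geo.decompositionStabilizer D ⊓ suGL 4 F q) := by
  classical
  refine isMaximalIn_decomp_one_of_core hF le_rfl (fun H hH hM ⟨g, hg, hgm⟩ => ?_) hD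
  rcases Nat.lt_or_ge q 4 with h4 | h4
  · have := two_le_of_card_sq hF
    exact eq_of_two hF (by omega) hH hM hg hgm
  · exact eq_of_large hF h4 hH hM hg hgm

end Cfsg.Agent.Lib.GeoTypesSU4
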