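import Cfsg.Agent.Lib.GeoTypesSU4.Basic
import Cfsg.Agent.Lib.UnitaryMax.Decomp

/-!
The stabiliser of a nondegenerate point is maximal in the special unitary group of dimension at least four.
-/

set_option autoImplicit false
set_option linter.unusedSectionVars false

namespace Cfsg.Agent.Lib.GeoTypesSU4

open Matrix Cfsg.Agent.Lib.Forms Cfsg.Agent.Lib.FormMax Cfsg.Agent.Lib.UnitaryMax

variable {F : Type*} [Field F] [Fintype F] {n q : ℕ}

local notation "Vs" => (Fin n → F)
local notation "h" => Cfsg.hermForm n F q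

variable (hF : Fintype.card F = q ^ 2)
include hF

theorem isMaximalIn_nondegPoint (hn : 4 ≤ n) (W : Submodule F Vs) (hW : Cfsg.Geo.IsNondegenerateOn h W)
    (hdim : Module.finrank F W = 1) :
    Cfsg.Geo.IsMaximalIn (suGL n F q) (Cfsg.Geo.subspaceStabilizer W ⊓ suGL n F q) := by
  classical
  obtain ⟨⟨w, hwW⟩, hw0, hspan⟩ := finrank_eq_one_iff'.mp hdim
  have hWmem : ∀ x ∈ W, ∃ c : F, c • w = x := fun x hx => by
    obtain ⟨c, hc⟩ := hspan ⟨x, hx⟩
    exact ⟨c, congrArg Subtype.val hc⟩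
  have hww : h w w ≠ 0 := by
    obtain ⟨y, hy, hne⟩ := (hW w hwW fun e => hw0 (Subtype.ext e)).2
    obtain ⟨c, rfl⟩ := hWmem y hy
    exact fun e => hne (by rw [herm_smul_right hF, e, mul_zero])
  obtain ⟨X, hX, hXmem, hXdim⟩ := exists_compl hF (nondeg_top hF) (v := w) Submodule.mem_top hww
  rw [finrank_top, Module.finrank_fin_fun] at hXdim
  -- the vectors orthogonal to `w`
  have hperpX : ∀ y, h y w = 0 → ∀ (hy : ∀ x ∈ X, h x y = 0), y = 0 := by
    intro y hyw hy
    by_contra hy0
    obtain ⟨v, hv⟩ := exists_h_ne hF hy0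
    set v' := v - (h v w / h w w) • w with hv'
    have hv'w : h v' w = 0 := by rw [hv', h_sub_left hF, herm_smul_left hF, div_mul_cancel₀ _ hww, sub_self]
    have hsub : ∀ u, h u w = 0 → u ∈ X := by
      intro u hu
      let P : Submodule F Vs := LinearMap.ker (hermSesq hF n w)
      have hXP : X ≤ P := fun x hx => LinearMap.mem_ker.mpr ((hXmem x hx).2)
      have hPne : P ≠ ⊤ := fun e => hww (LinearMap.mem_ker.mp (e.ge (Submodule.mem_top (x := w))))
      have hlt := Submodule.finrank_lt hPne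
      rw [Module.finrank_fin_fun] at hlt
      have hPX : X = P := Submodule.eq_of_le_of_finrank_le hXP (by omega)
      rw [hPX]
      exact LinearMap.mem_ker.mpr hu
    refine hv (h_symm hF ?_)
    have := hy v' (hsub v' hv'w)
    rwa [hv', h_sub_left hF, herm_smul_left hF, h_symm hF hyw, mul_zero, sub_zero] at this
  obtain ⟨δ, hδ, hδ0⟩ := exists_skew_ne hF
  obtain ⟨a, ha, haa⟩ := exists_aniso hF hX fun e => by rw [e, finrank_bot] at hXdim; omega
  refine ⟨lt_of_le_of_ne inf_le_right fun e => ?_, fun H hPH hHK => ?_⟩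
  · obtain ⟨b, hb, -, hbb⟩ := exists_one hF hX (by omega) ha
      (fun e => haa (by rw [e, h_zero_left hF])) 0 (Or.inl haa) (r := -(h w w)) (by rw [q_neg hF, herm_conj hF])
    have hbw := (hXmem b hb).2
    have hs : h (w + b) (w + b) = 0 := by
      rw [herm_add_left hF, herm_add_right hF, herm_add_right hF, hbw, h_symm hF hbw, hbb]; ring
    have h1 : T (w + b) δ hs ∈ Cfsg.Geo.subspaceStabilizer W := (e.ge (T_mem hF _ hs hδ)).1
    have h2 := (mem_stab_iff.mp h1 w).mp hwW
    rw [T_mulVec, Submodule.add_mem_iff_right W hwW, herm_add_right hF, h_symm hF hbw, add_zero,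
      Submodule.smul_mem_iff W (mul_ne_zero hδ0 hww), Submodule.add_mem_iff_right W hwW] at h2
    obtain ⟨c, rfl⟩ := hWmem b h2
    rw [herm_smul_left hF, mul_eq_zero] at hbw
    rw [hbw.resolve_right hww, zero_smul, h_zero_left hF] at hbb
    exact hww (by linear_combination hbb)
  by_cases hle : H ≤ Cfsg.Geo.subspaceStabilizer W
  · exact Or.inl (le_antisymm (le_inf hle hHK) hPH)
  right
  have horoot : ∀ v, h v v = 0 → h v w = 0 → v ∈ root q H := fun v hv hvw =>
    ⟨hv, fun c hc => hPH ⟨T_stab c hv (Or.inr fun x hx => by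
      obtain ⟨a, rfl⟩ := hWmem x hx
      rw [herm_smul_left hF, h_symm hF hvw, mul_zero]), T_mem hF v hv hc⟩⟩
  have hstab : ∀ g ∈ suGL n F q, (g : Matrix (Fin n) (Fin n) F) *ᵥ w ∈ W → g ∈ H := fun g hg hgw =>
    hPH ⟨mem_stab_of_maps fun x hx => by
      obtain ⟨c, rfl⟩ := hWmem x hx
      rw [mulVec_smul]; exact W.smul_mem c hgw, hg⟩
  -- a root vector which is not orthogonal to `w`
  obtain ⟨u, hu, huw⟩ : ∃ u ∈ root q H, h u w ≠ 0 := by
    by_contra hno
    push Not at hno
    obtain ⟨g, hgH, hg⟩ := SetLike.not_le_iff_exists.mp hle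
    set y := ((g⁻¹ : GL (Fin n) F) : Matrix (Fin n) (Fin n) F) *ᵥ w with hydef
    have hsing : ∀ x ∈ X, h x x = 0 → h x y = 0 := fun x hx hx0 => by
      rw [← apply_K (hHK hgH) x y, hydef, mulVec_inv_mulVec]
      exact hno _ (root_map hHK hgH (horoot x hx0 (hXmem x hx).2))
    obtain ⟨z, hz, hz0, hzz⟩ := exists_singular hF hX (by omega)
    obtain ⟨z₁, hz₁, hzz₁⟩ := hX z hz hz0
    have hperp : ∀ x ∈ X, h x y = 0 := by
      intro x hx
      let P : Submodule F Vs := LinearMap.ker (hermSesq hF n y)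
      have hP : X ≤ P := (span_singular hF hz hzz ⟨z₁, hz₁, fun e => hzz₁ (h_symm hF e)⟩).trans
        (Submodule.span_le.mpr fun s hs => LinearMap.mem_ker.mpr (hsing s hs.1 hs.2))
      exact LinearMap.mem_ker.mp (hP hx)
    have hy' : y - (h y w / h w w) • w = 0 := hperpX _
      (by rw [h_sub_left hF, herm_smul_left hF, div_mul_cancel₀ _ hww, sub_self])
      fun x hx => by rw [h_sub_right hF, herm_smul_right hF, (hXmem x hx).2, hperp x hx, mul_zero, sub_zero]
    have hyW : y ∈ W := by rw [sub_eq_zero.mp hy']; exact W.smul_mem _ hwW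
    refine hg ?_
    have h1 : g⁻¹ ∈ Cfsg.Geo.subspaceStabilizer W := mem_stab_of_maps fun x hx => by
      obtain ⟨c, rfl⟩ := hWmem x hx
      rw [mulVec_smul]; exact W.smul_mem c hyW
    simpa using inv_mem h1
  refine eq_suGL hF (by omega) (by omega) hHK fun v hv => ?_
  by_cases hvw : h v w = 0
  · exact horoot v hv hvw
  obtain ⟨u', hu'def⟩ : ∃ u', u' = (h v w / h u w) • u := ⟨_, rfl⟩
  have hu' : u' ∈ root q H := hu'def ▸ root_smul hF hu _
  have hu'w : h u' w = h v w := by rw [hu'def, herm_smul_left hF, div_mul_cancel₀ _ huw]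
  set c := h v w / h w w with hc
  have hc0 : c ≠ 0 := div_ne_zero hvw hww
  set b := u' - c • w with hb
  set y := v - c • w with hy
  have hbw : h b w = 0 := by rw [hb, h_sub_left hF, herm_smul_left hF, hu'w, hc, div_mul_cancel₀ _ hww, sub_self]
  have hyw : h y w = 0 := by rw [hy, h_sub_left hF, herm_smul_left hF, hc, div_mul_cancel₀ _ hww, sub_self]
  have hnormb : h b b = -(c * (c ^ q * h w w)) := by
    have h0 : h (c • w + b) (c • w + b) = 0 := by rw [hb, add_sub_cancel]; exact hu'.1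
    simp only [herm_add_left hF, herm_add_right hF, herm_smul_left hF, herm_smul_right hF, hbw, h_symm hF hbw]
      at h0
    linear_combination h0
  have hnormy : h y y = -(c * (c ^ q * h w w)) := by
    have h0 : h (c • w + y) (c • w + y) = 0 := by rw [hy, add_sub_cancel]; exact hv
    simp only [herm_add_left hF, herm_add_right hF, herm_smul_left hF, herm_smul_right hF, hyw, h_symm hF hyw]
      at h0
    linear_combination h0
  have hne : c * (c ^ q * h w w) ≠ 0 := mul_ne_zero hc0 (mul_ne_zero (pow_ne_zero _ hc0) hww)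
  have hyy : h y y ≠ 0 := by rw [hnormy]; exact neg_ne_zero.mpr hne
  have hbb : h b b ≠ 0 := by rw [hnormb]; exact neg_ne_zero.mpr hne
  have hyX : y ∈ X := by
    let P : Submodule F Vs := LinearMap.ker (hermSesq hF n w)
    have hXP : X ≤ P := fun x hx => LinearMap.mem_ker.mpr ((hXmem x hx).2)
    have hPne : P ≠ ⊤ := fun e => hww (LinearMap.mem_ker.mp (e.ge (Submodule.mem_top (x := w))))
    have hlt := Submodule.finrank_lt hPne
    rw [Module.finrank_fin_fun] at hlt
    rw [Submodule.eq_of_le_of_finrank_le hXP (by omega)]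
    exact LinearMap.mem_ker.mpr hyw
  obtain ⟨X₂, hX₂, hX₂mem, hX₂dim⟩ := exists_compl hF hX hyX hyy
  obtain ⟨z, hz, hzz⟩ := exists_aniso hF hX₂ fun e => by rw [e, finrank_bot] at hX₂dim; omega
  obtain ⟨hzX, hzy⟩ := hX₂mem z hz
  obtain ⟨g, hg, hgw, hgb⟩ := exists_su_pair hF (h_symm hF hbw) (h_symm hF hyw) hww hbb rfl
    (hnormy.trans hnormb.symm) hzz (h_symm hF (hXmem z hzX).2) (h_symm hF hzy)
  have h1 := root_map hHK (hstab g hg (by rw [hgw]; exact hwW)) hu'
  rwa [show u' = c • w + b by rw [hb, add_sub_cancel], mulVec_add, mulVec_smul, hgw, hgb,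
    hy, add_sub_cancel] at h1

end Cfsg.Agent.Lib.GeoTypesSU4
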