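import Mathlib
import Cfsg.Agent.Lib.SubfieldMax.UnitaryOrth
import Cfsg.Agent.Lib.GeoTypesSL4.QuadIso

/-!
# Orthogonal subfield groups of `SU_n(q)`, `n ≥ 4`: spreading root subgroups

If an overgroup of the orthogonal subfield group contains one transvection at a rational singular
vector, it is the whole special unitary group.
-/

set_option autoImplicit false
set_option linter.unusedSectionVars false

namespace Cfsg.Agent.Lib.GeoTypesSU4.Orth

open Matrix QuadraticMap
open Cfsg.Agent.Lib Cfsg.Agent.Lib.Forms Cfsg.Agent.Lib.UnitaryMax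
open Cfsg.Agent.Lib.FormMax (gl_ext)
open Cfsg.Agent.Lib.SubfieldMax
open Cfsg.Agent.Lib.SubfieldMax.UnitaryOrth
open Cfsg.Agent.Lib.GeoTypesSL4

variable {F : Type*} [Field F] [Fintype F] {n q : ℕ}

local notation "Vs" => (Fin n → F)
local notation "h" => Cfsg.hermForm n F q
local notation "GLs" => GL (Fin n) F
local notation:1024 "↟" g:1024 => (Units.val g : Matrix (Fin n) (Fin n) F)

variable (hF : Fintype.card F = q ^ 2) {K : Subfield F} (hK : Nat.card K = q) (P : GL (Fin n) F)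
  (hP : ∀ u v : Fin n → K, Cfsg.hermForm n F q (ratVec K P u) (ratVec K P v) ∈ K)

local notation "Ks" => (Fin n → K)
local notation "ρ" => ratVec K P
local notation "Ω" => Cfsg.Geo.subfieldSubgroup K P ⊓ suGL n F q
local notation "Qr" => ratQuad hF hK P hP

include hF

/-- The form with a fixed second argument. -/
noncomputable def hLin (y : Vs) : Vs →ₗ[F] F where
  toFun x := h x y
  map_add' a b := by rw [herm_add_left hF]
  map_smul' t a := by rw [herm_smul_left hF]; rfl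

theorem hLin_apply (y x : Vs) : hLin hF y x = h x y := rfl

/-- A scalar moves from the centre of an Eichler element to its direction. -/
theorem E_smul_left (h2 : (2 : F) ≠ 0) (ν : F) {u a : Vs} (hu : h u u = 0)
    (hu' : h (ν • u) (ν • u) = 0) (ha : h a (ν • u) = 0) (ha' : h (ν ^ q • a) u = 0) :
    E hF (ν • u) a hu' ha = E hF u (ν ^ q • a) hu ha' := by
  refine gl_ext fun x => ?_
  rw [E_mulVec hF h2, E_mulVec hF h2, half, half, herm_smul_right hF, herm_smul_left hF,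
    herm_smul_right hF, herm_smul_right hF, pow_q_pow_q hF]
  simp only [neg_div, mul_div_assoc]
  module

include hK hP

variable (h2 : (2 : F) ≠ 0)
include h2

/-- Isometries of the rational form of determinant one give elements of the subfield group. -/
theorem exists_lift {A : GL (Fin n) K}
    (hA : A ∈ Cfsg.Geo.quadSimilarityGroup ⇑Qr ⊓ Cfsg.Geo.specialLinear (Fin n) K)
    (hiso : ∀ y, Qr ((A : Matrix (Fin n) (Fin n) K) *ᵥ y) = Qr y) :
    ∃ g ∈ Ω, ∀ u, ↟g *ᵥ ρ u = ρ ((A : Matrix (Fin n) (Fin n) K) *ᵥ u) := by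
  set A' : Matrix (Fin n) (Fin n) K := (A : Matrix (Fin n) (Fin n) K) with hA'
  have hdA : A'.det = 1 := by
    have h1 : Matrix.GeneralLinearGroup.det A = 1 := hA.2
    exact congrArg Units.val h1
  set M : Matrix (Fin n) (Fin n) F :=
    ↟P * A'.map K.subtype * ↟(P⁻¹) with hM
  have hdet : M.det = 1 := by
    rw [hM, Matrix.det_mul, Matrix.det_mul, ← RingHom.mapMatrix_apply, ← RingHom.map_det, hdA,
      map_one, mul_one, ← Matrix.det_mul, Units.mul_inv, Matrix.det_one]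
  have key : ∀ u, M *ᵥ ρ u = ρ (A' *ᵥ u) := by
    intro u
    rw [hM, ratVec, ratVec, mulVec_mulVec, Units.inv_mul_cancel_right, ← mulVec_mulVec]
    congr 1
    funext i
    show (A'.map K.subtype *ᵥ fun i => K.subtype (u i)) i = K.subtype _
    rw [RingHom.map_mulVec]
    rfl
  have hpol : ∀ u v, polar ⇑Qr (A' *ᵥ u) (A' *ᵥ v) = polar ⇑Qr u v := fun u v => by
    simp only [polar, ← mulVec_add, hiso]
  have h1 : ∀ x v, h (M *ᵥ x) (M *ᵥ ρ v) = h x (ρ v) := by
    intro x v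
    have e : (hLin hF (M *ᵥ ρ v)).comp M.mulVecLin = hLin hF (ρ v) :=
      ext_ratVec (K := K) (P := P) fun u => by
        simp only [LinearMap.comp_apply, Matrix.mulVecLin_apply, hLin_apply]
        rw [key, key, herm_ratVec hF hK P hP h2, herm_ratVec hF hK P hP h2, hpol]
    have := LinearMap.congr_fun e x
    simpa [hLin_apply] using this
  have h3 : ∀ x y, h (M *ᵥ x) (M *ᵥ y) = h x y := by
    intro x y
    have e : (hLin hF (M *ᵥ y)).comp M.mulVecLin = hLin hF y :=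
      ext_ratVec (K := K) (P := P) fun u => by
        simp only [LinearMap.comp_apply, Matrix.mulVecLin_apply, hLin_apply]
        rw [← herm_conj hF (M *ᵥ y), h1, herm_conj hF]
    have := LinearMap.congr_fun e x
    simpa [hLin_apply] using this
  refine ⟨glMk M hdet, ⟨mem_subfield_of_maps one_ne_zero fun u => ⟨A' *ᵥ u, ?_⟩,
    glMk_mem _ _ h3⟩, key⟩
  rw [one_smul]; exact key u

/-- One transvection at a rational singular vector gives its root subgroup. -/
theorem root_of_one {H : Subgroup GLs} (hΩ : Ω ≤ H) {w w' : Ks} (hw : Qr w = 0) (hw' : Qr w' = 0)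
    (hww' : polar ⇑Qr w w' = 1) {c₀ : F} (hc₀ : c₀ + c₀ ^ q = 0) (hc0 : c₀ ≠ 0)
    (hT : ∀ hv, T (q := q) (ρ w) c₀ hv ∈ H) : ρ w ∈ root q H := by
  have h2K := two_ne_K hF hK P hP h2
  have hwh := herm_ratVec_zero hF hK P hP h2 hw
  have hmul : ∀ c d : F, T (q := q) (ρ w) (c + d) hwh =
      T (ρ w) c hwh * T (ρ w) d hwh := fun c d => gl_ext fun x => by
    rw [UnitaryOrth.gl_mulVec, T_mulVec, T_mulVec, T_mulVec, herm_add_left hF, herm_smul_left hF,
      hwh]
    module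
  have h0 : T (q := q) (ρ w) 0 hwh = 1 := gl_ext fun x => by
    rw [T_mulVec, Units.val_one, one_mulVec]; simp
  have hneg : ∀ c : F, T (q := q) (ρ w) c hwh ∈ H → T (q := q) (ρ w) (-c) hwh ∈ H := by
    intro c hc
    have e : T (q := q) (ρ w) (-c) hwh = (T (ρ w) c hwh)⁻¹ := by
      rw [eq_inv_iff_mul_eq_one, ← hmul, neg_add_cancel, h0]
    rw [e]; exact H.inv_mem hc
  have hscale : ∀ s : K, T (q := q) (ρ w) (c₀ * ((s : F) * s)) hwh ∈ H := by
    intro s
    rcases eq_or_ne s 0 with rfl | hs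
    · simp [h0, H.one_mem]
    obtain ⟨A, hA, hiso, hAe, -⟩ := Quad.exists_torus (Q := Qr) hw hw' hww' hs
    obtain ⟨g, hg, hgm⟩ := exists_lift hF hK P hP h2 hA hiso
    have hgw : ↟g *ᵥ ρ w = (s : F) • ρ w := by rw [hgm, hAe, ratVec_smul]
    have e : g * T (ρ w) c₀ hwh * g⁻¹ = T (ρ w) (c₀ * ((s : F) * s)) hwh := by
      rw [conj_T hg.2]
      refine gl_ext fun x => ?_
      rw [T_mulVec, T_mulVec, hgw, herm_smul_right hF, (fixed_iff hK _).mpr s.2]
      module
    rw [← e]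
    exact H.mul_mem (H.mul_mem (hΩ hg) (hT hwh)) (H.inv_mem (hΩ hg))
  refine ⟨hwh, fun c hc => ?_⟩
  obtain ⟨r, hr⟩ : ∃ r : K, (r : F) = c / c₀ := ⟨⟨_, (fixed_iff hK _).mp (by
    rw [div_pow, eq_neg_of_add_eq_zero_right hc, eq_neg_of_add_eq_zero_right hc₀,
      neg_div_neg_eq])⟩, rfl⟩
  have e : c = c₀ * ((((r + 1) / 2 : K) : F) * ((r + 1) / 2 : K)) +
      -(c₀ * ((((r - 1) / 2 : K) : F) * ((r - 1) / 2 : K))) := by
    push_cast
    rw [hr, show ((2 : K) : F) = 2 from map_ofNat K.subtype 2]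
    field_simp
    ring
  rw [e, hmul]
  exact H.mul_mem (hscale _) (hneg _ (hscale _))

/-- A singular vector not orthogonal to a given non-zero vector of the space. -/
theorem exists_singular_ne4 (hn : 4 ≤ n) {u : Ks} (hu0 : u ≠ 0) (hu : Qr u = 0) {z : Vs}
    (hz : z ≠ 0) : ∃ x, x ≠ 0 ∧ Qr x = 0 ∧ h z (ρ x) ≠ 0 := by
  have hQ := ratQuad_nondegenerate hF hK P hP h2
  by_contra hno
  push Not at hno
  have hs : ∀ v, Qr v = 0 → h z (ρ v) = 0 := fun v hv => by
    rcases eq_or_ne v 0 with rfl | hv0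
    · rw [ratVec_zero, h_zero_right hF]
    · exact hno v hv0 hv
  refine hz (eq_zero_of_herm_ratVec hF hK P hP h2 fun x => h_symm hF ?_)
  rcases eq_or_ne x 0 with rfl | hx
  · rw [ratVec_zero, h_zero_right hF]
  obtain ⟨v, hv, -, hxv⟩ := Quad.exists_common_partner4 hQ (two_ne_K hF hK P hP h2)
    (by simp; omega) hu0 hu hx
  set c := Qr x / polar ⇑Qr x v with hc
  have h1 : Qr (x + (-c) • v) = 0 := by
    rw [QuadraticMap.map_add (⇑Qr), QuadraticMap.map_smul, polar_smul_right, hv, hc, smul_eq_mul,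
      smul_eq_mul]
    field_simp
    ring
  have h4 := hs _ h1
  rw [ratVec_add, ratVec_smul, herm_add_right hF, herm_smul_right hF, hs v hv, mul_zero, add_zero] at h4
  exact h4

variable {H : Subgroup (GL (Fin n) F)} (hΩ : Cfsg.Geo.subfieldSubgroup K P ⊓ suGL n F q ≤ H)
  (hH : H ≤ suGL n F q) (hn : 4 ≤ n)
include hΩ hH hn

/-- Transitivity on rational singular vectors. -/
theorem root_all_rat4 {w : Ks} (hw0 : w ≠ 0) (hw : Qr w = 0) (hwR : ρ w ∈ root q H) {x : Ks}
    (hx : Qr x = 0) : ρ x ∈ root q H := by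
  have hQ := ratQuad_nondegenerate hF hK P hP h2
  rcases eq_or_ne x 0 with rfl | hx0
  · rw [ratVec_zero]
    simpa using root_smul hF hwR 0
  obtain ⟨A, hA, hiso, hAw⟩ := Quad.exists_isometry_map hQ (two_ne_K hF hK P hP h2)
    (by simp; omega) hw0 hw hx0 hx
  obtain ⟨g, hg, hgm⟩ := exists_lift hF hK P hP h2 hA hiso
  have h1 := root_map hH (hΩ hg) hwR
  rwa [hgm, hAw] at h1

/-- The rational root subgroups generate. -/
theorem eq_suGL_of_root {w₀ : Ks} (hw₀ : w₀ ≠ 0) (hw₀q : Qr w₀ = 0) (hw₀R : ρ w₀ ∈ root q H) :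
    H = suGL n F q := by
  have hQ := ratQuad_nondegenerate hF hK P hP h2
  have hrat : ∀ x, Qr x = 0 → ρ x ∈ root q H := fun x hx =>
    root_all_rat4 hF hK P hP h2 hΩ hH hn hw₀ hw₀q hw₀R hx
  obtain ⟨δ, hδ, hδ0⟩ := exists_skew_ne hF
  have hδq : δ ^ q = -δ := eq_neg_of_add_eq_zero_right hδ
  refine eq_suGL hF (by omega) (by omega) hH fun z hz => ?_
  rcases eq_or_ne z 0 with rfl | hz0
  · simpa using root_smul hF (hrat w₀ hw₀q) 0
  obtain ⟨u, hu0, hu, hzu⟩ := exists_singular_ne4 hF hK P hP h2 hn hw₀ hw₀q hz0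
  obtain ⟨v, hv, huv⟩ := Orth.exists_partner hQ hu0 hu
  have huu := herm_ratVec_zero hF hK P hP h2 hu
  have hvv := herm_ratVec_zero hF hK P hP h2 hv
  have huv' : h (ρ u) (ρ v) = 1 := herm_ratVec_one hF hK P hP h2 huv
  have hvu : h (ρ v) (ρ u) = 1 :=
    herm_ratVec_one hF hK P hP h2 (by rw [polar_comm]; exact huv)
  have hadd : ∀ a b, (h a (ρ u) = 0 ∧ ∀ y ∈ root q H, h y (ρ u) = 1 →
        ∃ e : F, y + a + e • ρ u ∈ root q H) →
      (h b (ρ u) = 0 ∧ ∀ y ∈ root q H, h y (ρ u) = 1 → ∃ e : F, y + b + e • ρ u ∈ root q H) →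
      (h (a + b) (ρ u) = 0 ∧ ∀ y ∈ root q H, h y (ρ u) = 1 →
        ∃ e : F, y + (a + b) + e • ρ u ∈ root q H) := by
    rintro a b ⟨ha, ha'⟩ ⟨hb, hb'⟩
    refine ⟨by rw [herm_add_left hF, ha, hb, add_zero], fun y hy hy1 => ?_⟩
    obtain ⟨e, he⟩ := ha' y hy hy1
    obtain ⟨e', he'⟩ := hb' _ he (by
      rw [herm_add_left hF, herm_add_left hF, herm_smul_left hF, hy1, ha, huu, mul_zero, add_zero,
        add_zero])
    exact ⟨e + e', by convert he' using 1; module⟩
  have hreal : ∀ a : Ks, polar ⇑Qr u a = 0 → h (ρ a) (ρ u) = 0 ∧ ∀ y ∈ root q H,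
      h y (ρ u) = 1 → ∃ e : F, y + ρ a + e • ρ u ∈ root q H := by
    intro a ha
    obtain ⟨hu', ha', hmem, -⟩ := E_ratVec_mem hF hK P hP h2 hu ha
    refine ⟨ha', fun y hy hy1 => ⟨half q (ρ a) - h y (ρ a), ?_⟩⟩
    have h1 := root_map hH (hΩ hmem) hy
    rwa [E_mulVec hF h2, hy1, one_smul, mul_one] at h1
  -- the Weyl element of the hyperbolic line
  have hskew : ∀ a : Ks, polar ⇑Qr u a = 0 → h (δ • ρ a) (ρ u) = 0 ∧ ∀ y ∈ root q H,
      h y (ρ u) = 1 → ∃ e : F, y + δ • ρ a + e • ρ u ∈ root q H := by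
    intro a ha
    set a' := a - polar ⇑Qr v a • u with ha'
    have hau : polar ⇑Qr u a' = 0 := by
      simp [ha', polar_sub_right, polar_smul_right, Orth.polar_self_zero hu, ha]
    have hav : polar ⇑Qr v a' = 0 := by
      simp [ha', polar_sub_right, polar_smul_right, polar_comm (⇑Qr) v u, huv]
    have hea : h (ρ a') (ρ u) = 0 :=
      herm_ratVec_perp hF hK P hP h2 (by rw [polar_comm]; exact hau)
    have hev : h (ρ a') (ρ v) = 0 :=
      herm_ratVec_perp hF hK P hP h2 (by rw [polar_comm]; exact hav)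
    obtain ⟨_, hTu⟩ := hrat u hu
    obtain ⟨_, hTv⟩ := hrat v hv
    have hc' : δ⁻¹ + δ⁻¹ ^ q = 0 := inv_skew hF hδ
    set k := T (q := q) (ρ v) δ⁻¹ hvv * T (ρ u) (-δ) huu * T (ρ v) δ⁻¹ hvv with hk
    have hkH : k ∈ H := H.mul_mem (H.mul_mem (hTv _ hc') (hTu _ (by
      rw [q_neg hF]; linear_combination -hδ))) (hTv _ hc')
    have hkv : ↟k *ᵥ ρ v = (-δ) • ρ u := by
      have e1 : ↟(T (q := q) (ρ v) δ⁻¹ hvv) *ᵥ ρ v = ρ v := by
        rw [T_mulVec, hvv, mul_zero, zero_smul, add_zero]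
      rw [hk, UnitaryOrth.gl_mulVec, UnitaryOrth.gl_mulVec, e1, T_mulVec, T_mulVec, hvu, mul_one,
        herm_add_left hF, herm_smul_left hF, hvv, huv', zero_add, mul_one, mul_neg,
        inv_mul_cancel₀ hδ0]
      module
    have hka : ↟k *ᵥ ρ a' = ρ a' := by
      simp only [hk, UnitaryOrth.gl_mulVec, T_mulVec, hev, hea, mul_zero, zero_smul, add_zero]
    obtain ⟨hv', hva', hmem, -⟩ := E_ratVec_mem hF hK P hP h2 (a := a') hv hav
    have hE1 : k * E hF (ρ v) (ρ a') hv' hva' * k⁻¹ ∈ H :=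
      H.mul_mem (H.mul_mem hkH (hΩ hmem)) (H.inv_mem hkH)
    refine ⟨by rw [herm_smul_left hF, herm_ratVec_perp hF hK P hP h2
      (by rw [polar_comm]; exact ha), mul_zero], fun y hy hy1 => ?_⟩
    have h1 := root_map hH hE1 hy
    rw [conj_E hF h2 (hH hkH), E_mulVec hF h2, hkv, hka] at h1
    have hy' : h y ((-δ) • ρ u) = δ := by
      rw [herm_smul_right hF, hy1, mul_one, q_neg hF, hδq, neg_neg]
    rw [hy'] at h1
    refine ⟨(half q (ρ a') * δ - h y (ρ a')) * (-δ) - δ * ((polar ⇑Qr v a : K) : F), ?_⟩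
    convert h1 using 1
    simp only [ha', ratVec_sub, ratVec_smul]
    module
  -- scale `z` and move the partner of `u` to it
  set s := h z (ρ u) with hs
  suffices hs' : s⁻¹ • z ∈ root q H by
    have := root_smul hF hs' s
    rwa [smul_smul, mul_inv_cancel₀ hzu, one_smul] at this
  obtain ⟨z', hz'⟩ : ∃ z', z' = s⁻¹ • z := ⟨_, rfl⟩
  rw [← hz']
  have hz'u : h z' (ρ u) = 1 := by rw [hz', herm_smul_left hF, inv_mul_cancel₀ hzu]
  have hz'z : h z' z' = 0 := by rw [hz', herm_smul_left hF, herm_smul_right hF, hz, mul_zero, mul_zero]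
  have hbu : h (z' - ρ v) (ρ u) = 0 := by rw [h_sub_left hF, hz'u, hvu, sub_self]
  obtain ⟨b₁, b₂, hb⟩ := exists_decomp hF hK P hP h2 hδ hδ0 (z' - ρ v)
  have hb' := hbu
  rw [hb, herm_add_left hF, herm_smul_left hF, herm_ratVec hF hK P hP h2,
    herm_ratVec hF hK P hP h2] at hb'
  obtain ⟨c1, c2⟩ := coord_zero hF hK h2 hδ hδ0 hb'
  obtain ⟨e, he⟩ := (hadd _ _ (hreal b₁ (by rw [polar_comm]; exact c1))
    (hskew b₂ (by rw [polar_comm]; exact c2))).2 (ρ v) (hrat v hv) hvu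
  rw [← hb, add_sub_cancel] at he
  have hesk : e + e ^ q = 0 := by
    have := he.1
    rw [herm_add_left hF, herm_add_right hF, herm_add_right hF, herm_smul_left hF, herm_smul_left hF,
      herm_smul_right hF, herm_smul_right hF, hz'z, huu, hz'u, ← herm_conj hF z' (ρ u), hz'u,
      one_pow] at this
    linear_combination this
  have h1 := root_map hH ((hrat u hu).2 (-e) (by rw [q_neg hF]; linear_combination -hesk)) he
  rw [T_mulVec, herm_add_left hF, herm_smul_left hF, hz'u, huu] at h1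
  convert h1 using 1
  module

end Cfsg.Agent.Lib.GeoTypesSU4.Orth
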