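import Mathlib
import Cfsg.Agent.Lib.GeoTypesSU4.OrthRoots

/-!
# Orthogonal subfield groups of `SU_4(q)`: a transvection from a totally isotropic line

If an element of an overgroup moves a rational singular vector to an isotropic vector `z` which is
orthogonal to a rational hyperbolic pair `w, w'`, then the overgroup has a root subgroup at `w`.
-/

set_option autoImplicit false
set_option linter.unusedSectionVars false
set_option maxHeartbeats 1000000

namespace Cfsg.Agent.Lib.GeoTypesSU4.Orth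

open Matrix QuadraticMap
open Cfsg.Agent.Lib Cfsg.Agent.Lib.Forms Cfsg.Agent.Lib.UnitaryMax
open Cfsg.Agent.Lib.FormMax (gl_ext)
open Cfsg.Agent.Lib.SubfieldMax
open Cfsg.Agent.Lib.SubfieldMax.UnitaryOrth
open Cfsg.Agent.Lib.GeoTypesSL4

variable {F : Type*} [Field F] [Fintype F] {n q : ℕ}

local notation "Vs" => (Fin n → F)
local notation "h" => Cfsg.hermForm n F q
local notation "GLs" => GL (Fin n) F
local notation:1024 "↟" g:1024 => (Units.val g : Matrix (Fin n) (Fin n) F)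

variable (hF : Fintype.card F = q ^ 2) {K : Subfield F} (hK : Nat.card K = q) (P : GL (Fin n) F)
  (hP : ∀ u v : Fin n → K, Cfsg.hermForm n F q (ratVec K P u) (ratVec K P v) ∈ K)

local notation "Ks" => (Fin n → K)
local notation "ρ" => ratVec K P
local notation "Ω" => Cfsg.Geo.subfieldSubgroup K P ⊓ suGL n F q
local notation "Qr" => ratQuad hF hK P hP

include hF hK

/-- The coordinates of a scalar in the basis `1, δ`. -/
theorem exists_coord (h2 : (2 : F) ≠ 0) {δ : F} (hδ : δ + δ ^ q = 0) (hδ0 : δ ≠ 0) (x : F) :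
    ∃ a b : K, x = (a : F) + δ * (b : F) := by
  have hδq : δ ^ q = -δ := eq_neg_of_add_eq_zero_right hδ
  have h2q : (2 : F) ^ q = 2 := by rw [← qPowHom_apply hF, map_ofNat]
  refine ⟨⟨(x + x ^ q) / 2, (fixed_iff hK _).mp ?_⟩,
    ⟨(x - x ^ q) / (2 * δ), (fixed_iff hK _).mp ?_⟩, ?_⟩
  · rw [div_pow, q_add hF, pow_q_pow_q hF, h2q, add_comm]
  · rw [div_pow, q_sub hF, pow_q_pow_q hF, mul_pow, h2q, hδq]
    field_simp
    ring
  · show x = (x + x ^ q) / 2 + δ * ((x - x ^ q) / (2 * δ))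
    field_simp
    ring

/-- A scalar of the subfield with square different from one. -/
theorem exists_sq_ne_one (hq : 5 ≤ q) : ∃ s : K, s ≠ 0 ∧ s * s ≠ 1 := by
  classical
  have : Fintype K := Fintype.ofFinite K
  by_contra hno
  push Not at hno
  have hsub : (Finset.univ : Finset K) ⊆ {0, 1, -1} := fun s _ => by
    rcases eq_or_ne s 0 with rfl | hs
    · simp
    · rcases mul_self_eq_one_iff.mp (hno s hs) with rfl | rfl <;> simp
  have h1 := Finset.card_le_card hsub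
  rw [Finset.card_univ, ← Nat.card_eq_fintype_card, hK] at h1
  have h3 : ({0, 1, -1} : Finset K).card ≤ 3 := Finset.card_le_three
  omega

include hP

variable (h2 : (2 : F) ≠ 0)
include h2

/-- Rational vectors with prescribed polar products against an independent family. -/
theorem exists_dual4 {m : ℕ} {v : Fin m → Ks} (hv : LinearIndependent K v) (c : Fin m → K) :
    ∃ x, ∀ i, polar ⇑Qr (v i) x = c i := by
  have hQ := ratQuad_nondegenerate hF hK P hP h2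
  let bs := Module.Basis.span hv
  obtain ⟨φ, hφ⟩ := LinearMap.exists_extend (bs.constr K c)
  obtain ⟨x, hx⟩ := (Forms.IsGoodForm.of_quadratic hQ).exists_vec φ
  refine ⟨x, fun i => ?_⟩
  have h1 := LinearMap.congr_fun hφ (bs i)
  rw [Module.Basis.constr_basis] at h1
  have h3 := hx (v i)
  rw [QuadraticMap.polarBilin_apply_apply] at h3
  rw [polar_comm, h3]
  simpa [bs] using h1

/-- A transvection from a point of an image of a rational point with hyperbolic rational perp. -/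
theorem root_of_good {H : Subgroup GLs} (hΩ : Ω ≤ H) (hH : H ≤ suGL n F q) (hn : n = 4)
    (hq : 5 ≤ q) {δ : F} (hδ : δ + δ ^ q = 0) (hδ0 : δ ≠ 0) {g : GLs} (hg : g ∈ H) {u : Ks}
    (hu0 : u ≠ 0) (hu : Qr u = 0) {z : Vs} (hz : z = ↟g *ᵥ ρ u) {z₁ z₂ : Ks}
    (hdec : z = ρ z₁ + δ • ρ z₂) (hind : ∀ c d : K, c • z₁ + d • z₂ = 0 → c = 0 ∧ d = 0)
    {w w' : Ks} (hw : Qr w = 0) (hw' : Qr w' = 0) (hww' : polar ⇑Qr w w' = 1)
    (hwz₁ : polar ⇑Qr z₁ w = 0) (hwz₂ : polar ⇑Qr z₂ w = 0)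
    (hw'z₁ : polar ⇑Qr z₁ w' = 0) (hw'z₂ : polar ⇑Qr z₂ w' = 0) : ρ w ∈ root q H := by
  have hQ := ratQuad_nondegenerate hF hK P hP h2
  have hδq : δ ^ q = -δ := eq_neg_of_add_eq_zero_right hδ
  have hperp : ∀ x : Ks, polar ⇑Qr z₁ x = 0 → polar ⇑Qr z₂ x = 0 → h z (ρ x) = 0 := by
    intro x h1 h3
    rw [hdec, herm_add_left hF, herm_smul_left hF, herm_ratVec hF hK P hP h2,
      herm_ratVec hF hK P hP h2, h1, h3]
    simp
  have hwh := herm_ratVec_zero hF hK P hP h2 hw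
  have hw'h := herm_ratVec_zero hF hK P hP h2 hw'
  have hww'h : h (ρ w) (ρ w') = 1 := herm_ratVec_one hF hK P hP h2 hww'
  have hw'wh : h (ρ w') (ρ w) = 1 :=
    herm_ratVec_one hF hK P hP h2 (by rw [polar_comm]; exact hww')
  have hzw : h z (ρ w) = 0 := hperp w hwz₁ hwz₂
  have hwz : h (ρ w) z = 0 := h_symm hF hzw
  have hzw' : h z (ρ w') = 0 := hperp w' hw'z₁ hw'z₂
  have hzz : h z z = 0 := by
    rw [hz, apply_K (hH hg)]; exact herm_ratVec_zero hF hK P hP h2 hu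
  -- rational vectors orthogonal to `w` pair surjectively with `z`
  have hli : LinearIndependent K ![z₁, z₂, w] := by
    rw [Fintype.linearIndependent_iff]
    intro t ht
    simp [Fin.sum_univ_three] at ht
    have ht2 : t 2 = 0 := by
      have e := congrArg (fun x => polar ⇑Qr x w') ht
      simpa [polar_add_left, polar_smul_left, hw'z₁, hw'z₂, hww'] using e
    rw [ht2, zero_smul, add_zero] at ht
    obtain ⟨e0, e1⟩ := hind _ _ ht
    intro i
    fin_cases i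
    exacts [e0, e1, ht2]
  have hsurj : ∀ l : F, ∃ b : Ks, polar ⇑Qr w b = 0 ∧ h z (ρ b) = l := by
    intro l
    obtain ⟨l₁, l₂, hl⟩ := exists_coord hF hK h2 hδ hδ0 l
    obtain ⟨b, hb⟩ := exists_dual4 hF hK P hP h2 hli ![l₁, l₂, 0]
    have b1 : polar ⇑Qr z₁ b = l₁ := hb 0
    have b2 : polar ⇑Qr z₂ b = l₂ := hb 1
    have b3 : polar ⇑Qr w b = 0 := hb 2
    exact ⟨b, b3, by rw [hdec, herm_add_left hF, herm_smul_left hF, herm_ratVec hF hK P hP h2,
      herm_ratVec hF hK P hP h2, b1, b2, hl]⟩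
  obtain ⟨b₁, hwb₁, hzb₁⟩ := hsurj 1
  have hb₁z : h (ρ b₁) z = 1 := by rw [← herm_conj hF z (ρ b₁), hzb₁, one_pow]
  have hb₁w : h (ρ b₁) (ρ w) = 0 :=
    herm_ratVec_perp hF hK P hP h2 (by rw [polar_comm]; exact hwb₁)
  have hwb₁h : h (ρ w) (ρ b₁) = 0 := h_symm hF hb₁w
  -- vectors orthogonal to the line
  have hline : ∀ r : Vs, h r (ρ w) = 0 → h r z = 0 →
      r = h r (ρ w') • ρ w + h r (ρ b₁) • z := by
    intro r hr1 hr3
    obtain ⟨r', hr'⟩ : ∃ r', r' = r - h r (ρ w') • ρ w - h r (ρ b₁) • z := ⟨_, rfl⟩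
    have e1 : h r' (ρ w) = 0 := by
      rw [hr', h_sub_left hF, h_sub_left hF, herm_smul_left hF, herm_smul_left hF, hr1, hwh, hzw]
      ring
    have e2 : h r' z = 0 := by
      rw [hr', h_sub_left hF, h_sub_left hF, herm_smul_left hF, herm_smul_left hF, hr3, hwz, hzz]
      ring
    have e3 : h r' (ρ w') = 0 := by
      rw [hr', h_sub_left hF, h_sub_left hF, herm_smul_left hF, herm_smul_left hF, hww'h, hzw']
      ring
    have e4 : h r' (ρ b₁) = 0 := by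
      rw [hr', h_sub_left hF, h_sub_left hF, herm_smul_left hF, herm_smul_left hF, hwb₁h, hzb₁]
      ring
    have hliF : LinearIndependent F ![ρ w, ρ w', z, ρ b₁] := by
      rw [Fintype.linearIndependent_iff]
      intro t ht
      simp [Fin.sum_univ_four] at ht
      have k1 := congrArg (fun x => h x (ρ w)) ht
      have k2 := congrArg (fun x => h x z) ht
      have k3 := congrArg (fun x => h x (ρ w')) ht
      have k4 := congrArg (fun x => h x (ρ b₁)) ht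
      simp only [herm_add_left hF, herm_smul_left hF, h_zero_left hF, hwh, hw'wh, hzw, hb₁w,
        mul_zero, mul_one, add_zero, zero_add] at k1
      simp only [herm_add_left hF, herm_smul_left hF, h_zero_left hF, k1, hwz, hzz, hb₁z,
        mul_zero, mul_one, zero_mul, add_zero, zero_add] at k2
      simp only [herm_add_left hF, herm_smul_left hF, h_zero_left hF, k1, k2, hww'h, hzw',
        mul_zero, mul_one, zero_mul, add_zero, zero_add] at k3
      simp only [herm_add_left hF, herm_smul_left hF, h_zero_left hF, k1, k2, k3, hzb₁,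
        mul_zero, mul_one, zero_mul, add_zero, zero_add] at k4
      intro i
      fin_cases i
      exacts [k3, k1, k4, k2]
    have htop := hliF.span_eq_top_of_card_eq_finrank'
      (by rw [Module.finrank_fin_fun, Fintype.card_fin, hn])
    have hr0 : r' = 0 := (hermSesq_goodForm hF).nondeg r' fun y => by
      rw [hermSesq_apply]
      refine h_symm hF ?_
      have hy : y ∈ Submodule.span F (Set.range ![ρ w, ρ w', z, ρ b₁]) := htop ▸ Submodule.mem_top
      refine Submodule.span_induction (p := fun y _ => h y r' = 0) ?_ ?_ ?_ ?_ hy |> h_symm hF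
      · rintro _ ⟨i, rfl⟩
        fin_cases i
        exacts [h_symm hF e1, h_symm hF e3, h_symm hF e2, h_symm hF e4]
      · exact h_zero_left hF _
      · intro x y _ _ hx hy
        rw [herm_add_left hF, hx, hy, add_zero]
      · intro a x _ hx
        rw [herm_smul_left hF, hx, mul_zero]
    rw [hr', sub_sub, sub_eq_zero] at hr0
    exact hr0
  -- Eichler elements of the subfield group
  have hEb : ∀ b : Ks, polar ⇑Qr w b = 0 → ∃ e ∈ H, (∀ x, ↟e *ᵥ x = x + h x (ρ w) • ρ b +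
      (half q (ρ b) * h x (ρ w) - h x (ρ b)) • ρ w) := by
    intro b hb
    obtain ⟨hu', ha', hmem, -⟩ := E_ratVec_mem hF hK P hP h2 hw hb
    exact ⟨_, hΩ hmem, fun x => E_mulVec hF h2 hu' ha' x⟩
  -- a conjugate Eichler element
  obtain ⟨y, huy, hya⟩ : ∃ y, polar ⇑Qr u y = 0 ∧ h (ρ w) (↟g *ᵥ ρ y) ≠ 0 := by
    by_contra hno
    push Not at hno
    obtain ⟨t, ht⟩ := FormMax.OrthSL.exists_dual_one hQ hu0
    obtain ⟨x, hx⟩ : ∃ x, x = ↟(g⁻¹) *ᵥ ρ w := ⟨_, rfl⟩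
    have hgx : ↟g *ᵥ x = ρ w := by rw [hx, mulVec_inv_mulVec]
    have e : x - h x (ρ t) • ρ u = 0 := eq_zero_of_herm_ratVec hF hK P hP h2 fun v => h_symm hF (by
      rw [h_sub_left hF, herm_smul_left hF, herm_ratVec hF hK P hP h2]
      have e1 := hno (v - polar ⇑Qr u v • t) (by
        simp [polar_sub_right, polar_smul_right, ht])
      rw [← hgx, apply_K (hH hg), ratVec_sub, ratVec_smul, h_sub_right hF, herm_smul_right hF,
        (fixed_iff hK _).mpr (polar ⇑Qr u v).2] at e1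
      linear_combination e1)
    rw [sub_eq_zero] at e
    rw [← hgx, e, mulVec_smul, ← hz, herm_smul_left hF, hzw', mul_zero] at hww'h
    exact zero_ne_one hww'h
  obtain ⟨hu', hy', hmemX, -⟩ := E_ratVec_mem hF hK P hP h2 hu huy
  obtain ⟨a, ha⟩ : ∃ a, a = ↟g *ᵥ ρ y := ⟨_, rfl⟩
  rw [← ha] at hya
  have haz : h a z = 0 := by rw [ha, hz, apply_K (hH hg)]; exact hy'
  obtain ⟨X, hXH, hXw, hXz⟩ : ∃ X ∈ H, ↟X *ᵥ ρ w = ρ w + (-h (ρ w) a) • z ∧ ↟X *ᵥ z = z := by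
    refine ⟨E hF z a hzz haz, ?_, ?_, ?_⟩
    · subst hz ha
      rw [← conj_E hF h2 (hH hg) hu' hy']
      exact H.mul_mem (H.mul_mem hg (hΩ hmemX)) (H.inv_mem hg)
    · rw [E_mulVec hF h2, hwz]; module
    · rw [E_mulVec hF h2, hzz, h_symm hF haz]; module
  obtain ⟨μ, hμ, hμ0⟩ : ∃ μ, μ = -h (ρ w) a ∧ μ ≠ 0 := ⟨_, rfl, neg_ne_zero.mpr hya⟩
  rw [← hμ] at hXw
  obtain ⟨b₀, hwb₀, hzb₀⟩ := hsurj μ⁻¹
  obtain ⟨e₀, he₀H, he₀⟩ := hEb b₀ hwb₀
  have hwb₀h : h (ρ w) (ρ b₀) = 0 := herm_ratVec_perp hF hK P hP h2 hwb₀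
  have he₀w : ↟e₀ *ᵥ ρ w = ρ w := by rw [he₀, hwh, hwb₀h]; module
  have he₀z : ↟e₀ *ᵥ z = z + (-μ⁻¹) • ρ w := by rw [he₀, hzw, hzb₀]; module
  obtain ⟨k, hkH, hkw, hkz⟩ : ∃ k ∈ H, ↟k *ᵥ ρ w = μ • z ∧ ↟k *ᵥ z = (-μ⁻¹) • ρ w := by
    refine ⟨e₀ * X * e₀, H.mul_mem (H.mul_mem he₀H hXH) he₀H, ?_, ?_⟩
    · rw [UnitaryOrth.gl_mulVec, UnitaryOrth.gl_mulVec, he₀w, hXw, mulVec_add, mulVec_smul, he₀w,
        he₀z, smul_add, smul_smul, mul_neg, mul_inv_cancel₀ hμ0]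
      module
    · rw [UnitaryOrth.gl_mulVec, UnitaryOrth.gl_mulVec, he₀z, mulVec_add, mulVec_smul, hXz, hXw,
        mulVec_add, mulVec_smul, mulVec_add, mulVec_smul, he₀w, he₀z]
      match_scalars <;> field_simp <;> ring
  -- an element scaling the line
  obtain ⟨s, hs0, hs1⟩ := exists_sq_ne_one hF hK hq
  have hsq : (s : F) ^ q = s := (fixed_iff hK _).mpr s.2
  have hs0F : (s : F) ≠ 0 := fun e => hs0 (Subtype.ext e)
  have hs1F : (s : F) * s ≠ 1 := fun e => hs1 (Subtype.ext e)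
  obtain ⟨A, hA, hAiso, hAw, hAfix⟩ := Quad.exists_torus (Q := Qr) hw hw' hww' hs0
  obtain ⟨D, hD, hDm⟩ := exists_lift hF hK P hP h2 hA hAiso
  have hDw : ↟D *ᵥ ρ w = (s : F) • ρ w := by rw [hDm, hAw, ratVec_smul]
  have hDz : ↟D *ᵥ z = z := by
    rw [hdec, mulVec_add, mulVec_smul, hDm, hDm,
      hAfix z₁ (by rw [polar_comm]; exact hwz₁) (by rw [polar_comm]; exact hw'z₁),
      hAfix z₂ (by rw [polar_comm]; exact hwz₂) (by rw [polar_comm]; exact hw'z₂)]
  obtain ⟨S, hSH, hSw, hSz⟩ : ∃ S ∈ H, ↟S *ᵥ ρ w = (s : F) • ρ w ∧ ↟S *ᵥ z = (s : F) • z := by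
    refine ⟨D * k * D * k⁻¹,
      H.mul_mem (H.mul_mem (H.mul_mem (hΩ hD) hkH) (hΩ hD)) (H.inv_mem hkH), ?_, ?_⟩
    · have e : ↟k⁻¹ *ᵥ ρ w = (-μ) • z := by
        have h0 := congrArg (fun x => ↟k⁻¹ *ᵥ x) hkz
        simp only [inv_mulVec_mulVec, mulVec_smul] at h0
        rw [h0, smul_smul, neg_mul_neg, mul_inv_cancel₀ hμ0, one_smul]
      rw [UnitaryOrth.gl_mulVec, UnitaryOrth.gl_mulVec, UnitaryOrth.gl_mulVec, e, mulVec_smul, hDz,
        mulVec_smul, hkz, smul_smul, neg_mul_neg, mul_inv_cancel₀ hμ0, one_smul, hDw]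
    · have e : ↟k⁻¹ *ᵥ z = μ⁻¹ • ρ w := by
        have h0 := congrArg (fun x => ↟k⁻¹ *ᵥ x) hkw
        simp only [inv_mulVec_mulVec, mulVec_smul] at h0
        rw [h0, smul_smul, inv_mul_cancel₀ hμ0, one_smul]
      rw [UnitaryOrth.gl_mulVec, UnitaryOrth.gl_mulVec, UnitaryOrth.gl_mulVec, e, mulVec_smul, hDw,
        mulVec_smul, mulVec_smul, mulVec_smul, hkw, mulVec_smul, mulVec_smul, hDz, smul_smul, smul_smul]
      congr 1
      field_simp
  -- a non-trivial element fixing the line pointwise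
  obtain ⟨C, hCH, hCw, hCz, hC1⟩ : ∃ C ∈ H, ↟C *ᵥ ρ w = ρ w ∧ ↟C *ᵥ z = z ∧ C ≠ 1 := by
    by_contra hno
    push Not at hno
    obtain ⟨x, hx⟩ : ∃ x, x = ↟S *ᵥ ρ b₁ - (s : F) • ρ b₁ := ⟨_, rfl⟩
    have hSinv : ∀ v : Vs, ↟S *ᵥ v = (s : F) • v →
        h (↟S *ᵥ ρ b₁) v = (s : F)⁻¹ * h (ρ b₁) v := by
      intro v hv
      have e := apply_K (hH hSH) (ρ b₁) v
      rw [hv, herm_smul_right hF, hsq] at e
      rw [← e, inv_mul_cancel_left₀ hs0F]
    have hxw : h x (ρ w) = 0 := by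
      rw [hx, h_sub_left hF, herm_smul_left hF, hSinv _ hSw, hb₁w, mul_zero, mul_zero, sub_zero]
    have hxz : h x z ≠ 0 := by
      rw [hx, h_sub_left hF, herm_smul_left hF, hSinv _ hSz, hb₁z, mul_one, mul_one]
      intro e
      apply hs1F
      field_simp at e
      linear_combination -e
    have hSx : ↟S *ᵥ x = (s : F)⁻¹ • x := by
      obtain ⟨r, hr⟩ : ∃ r, r = ↟S *ᵥ ρ b₁ - (s : F)⁻¹ • ρ b₁ := ⟨_, rfl⟩
      have hr1 := hline r
        (by rw [hr, h_sub_left hF, herm_smul_left hF, hSinv _ hSw]; ring)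
        (by rw [hr, h_sub_left hF, herm_smul_left hF, hSinv _ hSz]; ring)
      have hSr : ↟S *ᵥ r = (s : F) • r := by
        conv_lhs => rw [hr1]
        rw [mulVec_add, mulVec_smul, mulVec_smul, hSw, hSz]
        conv_rhs => rw [hr1]
        module
      have e1 : x = r + ((s : F)⁻¹ - s) • ρ b₁ := by rw [hx, hr]; module
      have e2 : ↟S *ᵥ ρ b₁ = r + (s : F)⁻¹ • ρ b₁ := by rw [hr]; module
      rw [e1, mulVec_add, mulVec_smul, hSr, e2]
      simp only [smul_add, smul_smul, ← add_assoc, ← add_smul]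
      congr 2
      · field_simp
        ring
      · ring
    have key : ∀ b : Ks, polar ⇑Qr w b = 0 → h x (ρ b) = 0 := by
      intro b hb
      obtain ⟨e, heH, he⟩ := hEb b hb
      have hwbh : h (ρ w) (ρ b) = 0 := herm_ratVec_perp hF hK P hP h2 hb
      have hew : ↟e *ᵥ ρ w = ρ w := by rw [he, hwh, hwbh]; module
      have hez : ↟e *ᵥ z = z + (-h z (ρ b)) • ρ w := by rw [he, hzw]; module
      have hei : ↟e⁻¹ *ᵥ ρ w = ρ w := by
        have h0 := congrArg (fun v => ↟e⁻¹ *ᵥ v) hew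
        simpa only [inv_mulVec_mulVec] using h0.symm
      have heiz : ↟e⁻¹ *ᵥ z = z + h z (ρ b) • ρ w := by
        have h0 : ↟e *ᵥ (z + h z (ρ b) • ρ w) = z := by
          rw [mulVec_add, mulVec_smul, hez, hew]; module
        conv_lhs => arg 2; rw [← h0]
        rw [inv_mulVec_mulVec]
      have hSi : ∀ v : Vs, ↟S *ᵥ v = (s : F) • v → ↟S⁻¹ *ᵥ v = (s : F)⁻¹ • v := by
        intro v hv
        have h0 := congrArg (fun v => ↟S⁻¹ *ᵥ v) hv
        simp only [inv_mulVec_mulVec, mulVec_smul] at h0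
        rw [eq_inv_smul_iff₀ hs0F]; exact h0.symm
      have h1 := hno (S * e * S⁻¹ * e⁻¹)
        (H.mul_mem (H.mul_mem (H.mul_mem hSH heH) (H.inv_mem hSH)) (H.inv_mem heH))
        (by rw [UnitaryOrth.gl_mulVec, UnitaryOrth.gl_mulVec, UnitaryOrth.gl_mulVec, hei, hSi _ hSw,
          mulVec_smul, hew, mulVec_smul, hSw, smul_smul, inv_mul_cancel₀ hs0F, one_smul])
        (by rw [UnitaryOrth.gl_mulVec, UnitaryOrth.gl_mulVec, UnitaryOrth.gl_mulVec, heiz,
          mulVec_add, mulVec_smul, hSi _ hSw, hSi _ hSz]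
            simp only [mulVec_add, mulVec_smul, hew, hez, hSw, hSz, smul_add, smul_smul]
            match_scalars <;> field_simp
            ring)
      have hcomm : S * e = e * S := by
        rwa [mul_inv_eq_one, mul_inv_eq_iff_eq_mul] at h1
      have h3 : ↟S *ᵥ (↟e *ᵥ x) = (s : F)⁻¹ • (↟e *ᵥ x) := by
        rw [← UnitaryOrth.gl_mulVec, hcomm, UnitaryOrth.gl_mulVec, hSx, mulVec_smul]
      rw [he, hxw, zero_smul, add_zero, mul_zero, zero_sub, mulVec_add, mulVec_smul, hSx, hSw,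
        smul_add, add_right_inj, smul_smul, smul_smul] at h3
      have h4 := congrArg (fun v => h v (ρ w')) h3
      simp only [herm_smul_left hF, hww'h, mul_one] at h4
      by_contra hne
      apply hs1F
      have h5 : (s : F) = (s : F)⁻¹ := by
        refine mul_left_cancel₀ (neg_ne_zero.mpr hne) ?_
        linear_combination h4
      nth_rewrite 2 [h5]
      exact mul_inv_cancel₀ hs0F
    apply hxz
    rw [hdec, herm_add_right hF, herm_smul_right hF, key z₁ (by rw [polar_comm]; exact hwz₁),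
      key z₂ (by rw [polar_comm]; exact hwz₂)]
    ring
  -- elements fixing the line pointwise
  have hfix : ∀ C ∈ H, ↟C *ᵥ ρ w = ρ w → ↟C *ᵥ z = z → ∀ x,
      ↟C *ᵥ x - x = h (↟C *ᵥ x - x) (ρ w') • ρ w + h (↟C *ᵥ x - x) (ρ b₁) • z := by
    intro C hC hCw hCz x
    refine hline _ ?_ ?_
    · have e := apply_K (hH hC) x (ρ w)
      rw [hCw] at e
      rw [h_sub_left hF, e, sub_self]
    · have e := apply_K (hH hC) x z
      rw [hCz] at e
      rw [h_sub_left hF, e, sub_self]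
  have hskew : ∀ C ∈ H, ↟C *ᵥ ρ w = ρ w → ↟C *ᵥ z = z → ∀ x y,
      h (↟C *ᵥ x - x) y + h x (↟C *ᵥ y - y) = 0 := by
    intro C hC hCw hCz x y
    have h0 : h (↟C *ᵥ x - x) (↟C *ᵥ y - y) = 0 := by
      rw [hfix C hC hCw hCz x, hfix C hC hCw hCz y]
      simp [herm_add_left hF, herm_add_right hF, herm_smul_left hF, herm_smul_right hF, hwh, hwz,
        hzw, hzz]
    have e := apply_K (hH hC) x y
    rw [h_sub_left hF, h_sub_right hF, h_sub_right hF] at h0
    rw [h_sub_left hF, h_sub_right hF]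
    linear_combination e - h0
  -- the commutator with an Eichler element
  have hstep : ∀ C ∈ H, ↟C *ᵥ ρ w = ρ w → ↟C *ᵥ z = z → ∀ b, polar ⇑Qr w b = 0 →
      ∃ D ∈ H, ↟D *ᵥ ρ w = ρ w ∧ ↟D *ᵥ z = z ∧ ∃ e : GLs, ∀ y : Vs,
        h (↟e *ᵥ y) (ρ w) = h y (ρ w) ∧ ↟D *ᵥ (↟e *ᵥ y) - ↟e *ᵥ y =
          (-h (↟C *ᵥ y - y) (ρ b)) • ρ w - h y (ρ w) • (↟C *ᵥ ρ b - ρ b) := by
    intro C hC hCw hCz b hb
    obtain ⟨e, heH, he⟩ := hEb b hb
    have hwbh : h (ρ w) (ρ b) = 0 := herm_ratVec_perp hF hK P hP h2 hb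
    have hbwh : h (ρ b) (ρ w) = 0 := h_symm hF hwbh
    have hew : ↟e *ᵥ ρ w = ρ w := by rw [he, hwh, hwbh]; module
    have hez : ↟e *ᵥ z = z + (-h z (ρ b)) • ρ w := by rw [he, hzw]; module
    have hei : ↟e⁻¹ *ᵥ ρ w = ρ w := by
      have h0 := congrArg (fun v => ↟e⁻¹ *ᵥ v) hew
      simpa only [inv_mulVec_mulVec] using h0.symm
    have heiz : ↟e⁻¹ *ᵥ z = z + h z (ρ b) • ρ w := by
      have h0 : ↟e *ᵥ (z + h z (ρ b) • ρ w) = z := by
        rw [mulVec_add, mulVec_smul, hez, hew]; module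
      conv_lhs => arg 2; rw [← h0]
      rw [inv_mulVec_mulVec]
    have hCi : ∀ v : Vs, ↟C⁻¹ *ᵥ v = v - (↟C *ᵥ v - v) := by
      intro v
      have h0 : ↟C *ᵥ (v - (↟C *ᵥ v - v)) = v := by
        rw [mulVec_sub, hfix C hC hCw hCz v, mulVec_add, mulVec_smul, mulVec_smul, hCw, hCz,
          ← hfix C hC hCw hCz v]
        abel
      conv_lhs => rw [← h0]
      rw [inv_mulVec_mulVec]
    refine ⟨e * C * e⁻¹ * C⁻¹,
      H.mul_mem (H.mul_mem (H.mul_mem heH hC) (H.inv_mem heH)) (H.inv_mem hC), ?_, ?_,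
      e, fun y => ?_⟩
    · rw [UnitaryOrth.gl_mulVec, UnitaryOrth.gl_mulVec, UnitaryOrth.gl_mulVec, hCi, hCw, sub_self,
        sub_zero, hei, hCw, hew]
    · rw [UnitaryOrth.gl_mulVec, UnitaryOrth.gl_mulVec, UnitaryOrth.gl_mulVec, hCi, hCz, sub_self,
        sub_zero, heiz, mulVec_add, mulVec_smul, hCz, hCw, mulVec_add, mulVec_smul, hez, hew]
      module
    refine ⟨by
      rw [he, herm_add_left hF, herm_add_left hF, herm_smul_left hF, herm_smul_left hF, hbwh, hwh]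
      ring, ?_⟩
    obtain ⟨α, hα⟩ : ∃ α, α = h (↟C *ᵥ y - y) (ρ w') := ⟨_, rfl⟩
    have hCy := hfix C hC hCw hCz y
    have hlw : h (↟C *ᵥ y - y) (ρ w) = 0 := by
      rw [hCy, herm_add_left hF, herm_smul_left hF, herm_smul_left hF, hwh, hzw]; ring
    have he' : ↟e *ᵥ (↟C *ᵥ y - y) = (↟C *ᵥ y - y) + (-h (↟C *ᵥ y - y) (ρ b)) • ρ w := by
      rw [he, hlw]; module
    have hmove : ↟C *ᵥ (↟e *ᵥ y) - ↟e *ᵥ y =
        (↟C *ᵥ y - y) + h y (ρ w) • (↟C *ᵥ ρ b - ρ b) := by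
      rw [he, mulVec_add, mulVec_add, mulVec_smul, mulVec_smul, hCw]
      module
    have hfixl : ∀ l : Vs, (∃ c d : F, l = c • ρ w + d • z) → ↟C *ᵥ (↟e⁻¹ *ᵥ l) = ↟e⁻¹ *ᵥ l := by
      rintro l ⟨c, d, rfl⟩
      simp only [mulVec_add, mulVec_smul, hei, heiz, hCw, hCz]
    have hsplit : ↟e *ᵥ (↟C *ᵥ y) = ↟e *ᵥ y + ↟e *ᵥ (↟C *ᵥ y - y) := by
      rw [← mulVec_add, add_sub_cancel]
    rw [UnitaryOrth.gl_mulVec, UnitaryOrth.gl_mulVec, UnitaryOrth.gl_mulVec, hCi,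
      mulVec_sub ↟e⁻¹, inv_mulVec_mulVec, mulVec_sub ↟C, mulVec_sub ↟e,
      hfixl _ ⟨_, _, hfix C hC hCw hCz _⟩, mulVec_inv_mulVec, hsplit, he', hmove]
    module
  -- an element with image on `w`
  have hfin : ∀ C ∈ H, ↟C *ᵥ ρ w = ρ w → ↟C *ᵥ z = z → C ≠ 1 →
      (∀ x, h (↟C *ᵥ x - x) (ρ b₁) = 0) → ρ w ∈ root q H := by
    intro C hC hCw hCz hC1 him
    have hval : ∀ x, ↟C *ᵥ x - x =
        (-(h (↟C *ᵥ ρ w' - ρ w') (ρ w')) ^ q * h x (ρ w)) • ρ w := by
      intro x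
      have e := hskew C hC hCw hCz x (ρ w')
      have e2 := hfix C hC hCw hCz x
      rw [him x, zero_smul, add_zero] at e2
      rw [hfix C hC hCw hCz (ρ w'), him, zero_smul, add_zero, herm_smul_right hF] at e
      rw [e2]
      congr 1
      linear_combination e
    have hcs : -(h (↟C *ᵥ ρ w' - ρ w') (ρ w')) ^ q +
        (-(h (↟C *ᵥ ρ w' - ρ w') (ρ w')) ^ q) ^ q = 0 := by
      have e := hskew C hC hCw hCz (ρ w') (ρ w')
      rw [← herm_conj hF (↟C *ᵥ ρ w' - ρ w') (ρ w')] at e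
      rw [q_neg hF, pow_q_pow_q hF]
      linear_combination -e
    have hc0 : -(h (↟C *ᵥ ρ w' - ρ w') (ρ w')) ^ q ≠ 0 := by
      intro e
      apply hC1
      refine gl_ext fun x => ?_
      rw [Units.val_one, one_mulVec, ← sub_eq_zero, hval x, e, zero_mul, zero_smul]
    refine root_of_one hF hK P hP h2 hΩ hw hw' hww' hcs hc0 fun hv => ?_
    convert hC using 1
    refine gl_ext fun x => ?_
    rw [T_mulVec, ← hval x]
    abel
  -- elements sending the hyperplane of `w` to `w`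
  have hmid : ∀ C ∈ H, ↟C *ᵥ ρ w = ρ w → ↟C *ᵥ z = z → C ≠ 1 →
      (∀ x, h x (ρ w) = 0 → h (↟C *ᵥ x - x) (ρ b₁) = 0) → ρ w ∈ root q H := by
    intro C hC hCw hCz hC1 hZ
    by_cases him : ∀ x, h (↟C *ᵥ x - x) (ρ b₁) = 0
    · exact hfin C hC hCw hCz hC1 him
    push Not at him
    obtain ⟨x₀, hx₀⟩ := him
    obtain ⟨π, hπ⟩ : ∃ π, π = h (↟C *ᵥ x₀ - x₀) (ρ b₁) := ⟨_, rfl⟩
    rw [← hπ] at hx₀
    have hx₀w : h x₀ (ρ w) ≠ 0 := fun e => hx₀ (hπ.trans (hZ _ e))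
    have hwx₀ : h (ρ w) x₀ ≠ 0 := fun e => hx₀w (h_symm hF e)
    obtain ⟨b, hwb, hzb⟩ := hsurj (δ / (π * h (ρ w) x₀))
    have hbw : h (ρ b) (ρ w) = 0 :=
      herm_ratVec_perp hF hK P hP h2 (by rw [polar_comm]; exact hwb)
    obtain ⟨D, hDH, hDw', hDz', e₁, hDy⟩ := hstep C hC hCw hCz b hwb
    have hSb : h (↟C *ᵥ ρ b - ρ b) (ρ b₁) = 0 := hZ _ hbw
    refine hfin D hDH hDw' hDz' ?_ fun x => ?_
    · intro hD1
      have hy' := (hDy x₀).2
      rw [hD1, Units.val_one, one_mulVec, sub_self, hfix C hC hCw hCz x₀, ← hπ] at hy'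
      have e := congrArg (fun v => h v x₀) hy'
      simp only [h_zero_left hF, h_sub_left hF, herm_smul_left hF, herm_add_left hF,
        h_symm hF hbw, mul_zero, zero_add, hzb] at e
      have e' := hskew C hC hCw hCz (ρ b) x₀
      rw [hfix C hC hCw hCz x₀, ← hπ, herm_add_right hF, herm_smul_right hF,
        herm_smul_right hF, hbw, mul_zero, zero_add, ← herm_conj hF z (ρ b), hzb] at e'
      have hd : π ^ q * (δ / (π * h (ρ w) x₀)) ^ q = -δ / h x₀ (ρ w) := by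
        rw [div_pow, mul_pow, herm_conj hF, hδq]
        field_simp
      rw [hd, h_sub_left hF] at e'
      field_simp at e e'
      apply mul_ne_zero h2 hδ0
      linear_combination e - e'
    · obtain ⟨y, rfl⟩ : ∃ y, ↟e₁ *ᵥ y = x := ⟨_, mulVec_inv_mulVec e₁ x⟩
      rw [(hDy y).2, h_sub_left hF, herm_smul_left hF, herm_smul_left hF, hSb, hwb₁h]
      ring
  -- the first step
  by_cases hZ : ∀ x, h x (ρ w) = 0 → h (↟C *ᵥ x - x) (ρ b₁) = 0
  · exact hmid C hCH hCw hCz hC1 hZ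
  push Not at hZ
  obtain ⟨x₁, hx₁w, hx₁⟩ := hZ
  obtain ⟨D, hDH, hDw', hDz', e₁, hDy⟩ := hstep C hCH hCw hCz b₁ hwb₁
  refine hmid D hDH hDw' hDz' ?_ fun x hx => ?_
  · intro hD1
    have hy' := (hDy x₁).2
    rw [hD1, Units.val_one, one_mulVec, sub_self, hx₁w, zero_smul, sub_zero] at hy'
    have e := congrArg (fun v => h v (ρ w')) hy'
    simp only [h_zero_left hF, herm_smul_left hF, hww'h, mul_one] at e
    exact hx₁ (neg_eq_zero.mp e.symm)
  · obtain ⟨y, rfl⟩ : ∃ y, ↟e₁ *ᵥ y = x := ⟨_, mulVec_inv_mulVec e₁ x⟩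
    rw [(hDy y).1] at hx
    rw [(hDy y).2, hx, zero_smul, sub_zero, herm_smul_left hF, hwb₁h, mul_zero]

end Cfsg.Agent.Lib.GeoTypesSU4.Orth
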