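import Mathlib

/-!
# Finite field lemmas for the orthogonal subfield groups of `SU_4(q)`
-/

set_option autoImplicit false
set_option linter.unusedSectionVars false

namespace Cfsg.Agent.Lib.GeoTypesSU4.Orth

open Polynomial

variable {K : Type*} [Field K] [Fintype K]

theorem ringChar_ne_two (h2 : (2 : K) ≠ 0) : ringChar K ≠ 2 := fun e => h2 (by
  have h : ((ringChar K : ℕ) : K) = 0 := ringChar.Nat.cast_ringChar
  rw [e] at h
  exact_mod_cast h)

theorem isSquare_mul_of_nonsq (h2 : (2 : K) ≠ 0) {a b : K} (ha : ¬IsSquare a) (hb : ¬IsSquare b) :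
    IsSquare (a * b) := by
  classical
  have hc := ringChar_ne_two h2
  have ha0 : a ≠ 0 := fun e => ha (e ▸ IsSquare.zero)
  have hb0 : b ≠ 0 := fun e => hb (e ▸ IsSquare.zero)
  rw [← quadraticChar_one_iff_isSquare (mul_ne_zero ha0 hb0), map_mul,
    quadraticChar_neg_one_iff_not_isSquare.mpr ha, quadraticChar_neg_one_iff_not_isSquare.mpr hb]
  rfl

/-- A non-degenerate binary form takes every value. -/
theorem exists_value (h2 : (2 : K) ≠ 0) {k₁ k₂ : K} (h₁ : k₁ ≠ 0) (h₃ : k₂ ≠ 0) (c : K) :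
    ∃ x y : K, x ^ 2 * k₁ + y ^ 2 * k₂ = c := by
  have hc : Fintype.card K % 2 = 1 := FiniteField.odd_card_of_char_ne_two (ringChar_ne_two h2)
  obtain ⟨x, y, h⟩ := FiniteField.exists_root_sum_quadratic (f := C k₁ * X ^ 2)
    (g := C k₂ * X ^ 2 - C c) (by rw [degree_C_mul_X_pow 2 h₁]; rfl)
    (by rw [degree_sub_C (by rw [degree_C_mul_X_pow 2 h₃]; decide), degree_C_mul_X_pow 2 h₃]; rfl)
    hc
  refine ⟨x, y, ?_⟩
  simp at h
  linear_combination h

theorem natDegree_quad_le (a b c : K) : (C a * X ^ 2 + C b * X + C c).natDegree ≤ 2 :=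
  natDegree_quadratic_le

theorem half_card_pos (h2 : (2 : K) ≠ 0) : 0 < Fintype.card K / 2 ∧
    2 * (Fintype.card K / 2) + 1 = Fintype.card K := by
  have hc : Fintype.card K % 2 = 1 := FiniteField.odd_card_of_char_ne_two (ringChar_ne_two h2)
  have := Fintype.one_lt_card (α := K)
  omega

/-- A quadratic polynomial without roots and value one at zero takes a non-square value. -/
theorem exists_nonsq_quad (h2 : (2 : K) ≠ 0) {ε b₁ b₂ N : K} (hε : ¬IsSquare ε) (hb : b₂ ≠ 0)
    (hN : N = b₁ ^ 2 - ε * b₂ ^ 2) :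
    ∃ x : K, x ≠ 0 ∧ ¬IsSquare (((b₂ * x + b₁) ^ 2 - ε * b₂ ^ 2) / N) := by
  classical
  have hne : ∀ y : K, y ^ 2 - ε * b₂ ^ 2 ≠ 0 := fun y e => hε ⟨y / b₂, by
    field_simp; linear_combination -e⟩
  have hN0 : N ≠ 0 := hN ▸ hne b₁
  by_contra hno
  push Not at hno
  obtain ⟨hm, hm1⟩ := half_card_pos h2
  obtain ⟨m, hmd⟩ : ∃ m, m = Fintype.card K / 2 := ⟨_, rfl⟩
  rw [← hmd] at hm hm1
  set f : K[X] := C (b₂ ^ 2 / N) * X ^ 2 + C (2 * b₂ * b₁ / N) * X + C 1 with hf
  have hev : ∀ x : K, f.eval x = ((b₂ * x + b₁) ^ 2 - ε * b₂ ^ 2) / N := fun x => by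
    simp only [hf, eval_add, eval_mul, eval_C, eval_pow, eval_X]
    field_simp
    rw [hN]; ring
  have hdeg : (f ^ m - 1).natDegree < Fintype.card K := by
    have h1 : (f ^ m - 1).natDegree ≤ m * 2 :=
      (natDegree_sub_le _ _).trans (max_le (natDegree_pow_le_of_le m (natDegree_quad_le _ _ _))
        (by simp))
    omega
  have hP : f ^ m - 1 = 0 := by
    refine eq_zero_of_natDegree_lt_card_of_eval_eq_zero' _ Finset.univ (fun x _ => ?_)
      (by rwa [Finset.card_univ])
    rw [eval_sub, eval_pow, eval_one, sub_eq_zero, hmd]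
    rcases eq_or_ne x 0 with rfl | hx
    · simp [hf]
    · rw [hev]
      exact (FiniteField.isSquare_iff (ringChar_ne_two h2)
        (div_ne_zero (hne _) hN0)).mp (hno x hx)
  have hco := congrArg (fun p : K[X] => p.coeff (m * 2)) hP
  simp only [coeff_sub, coeff_zero, coeff_one,
    coeff_pow_of_natDegree_le (natDegree_quad_le (b₂ ^ 2 / N) (2 * b₂ * b₁ / N) 1)] at hco
  rw [hf, coeff_pow_of_natDegree_le (natDegree_quad_le _ _ _), if_neg (by omega), sub_zero] at hco
  simp [coeff_X, coeff_one, hb, hN0] at hco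

/-- The transvection case: some direction gives a non-square discriminant. -/
theorem exists_nonsq_T (h2 : (2 : K) ≠ 0) {F : Type*} [Field F] (φ : K →+* F) {ε k m c : K}
    (hε : ¬IsSquare ε) {δ : F} (hδ : δ ^ 2 = φ ε) (hkm : ε * k * k - m * m ≠ 0) (hc : c ≠ 0) :
    ∃ s r : K, s * (ε * k * s + m * r) - r * (-(m * s + k * r)) ≠ 0 ∧
      ¬IsSquare ((ε * s * (-(m * s + k * r)) - r * (ε * k * s + m * r) -
          ε * c * ((ε * k * s + m * r) ^ 2 - ε * (-(m * s + k * r)) ^ 2)) ^ 2 -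
        ε * (s * (ε * k * s + m * r) - r * (-(m * s + k * r))) ^ 2) := by
  classical
  by_contra hno
  push Not at hno
  obtain ⟨hm, hm1⟩ := half_card_pos h2
  obtain ⟨e, hed⟩ : ∃ e, e = Fintype.card K / 2 := ⟨_, rfl⟩
  rw [← hed] at hm hm1
  -- the two quadratic forms
  set N : K → K → K := fun s r =>
    (ε * k * s + m * r) ^ 2 - ε * (-(m * s + k * r)) ^ 2 with hNd
  set W : K → K → K := fun s r => r ^ 2 - ε * s ^ 2 -
    2 * ε * c * (ε * s * (-(m * s + k * r)) - r * (ε * k * s + m * r)) +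
      ε ^ 2 * c ^ 2 * N s r with hWd
  have hε0 : ε ≠ 0 := fun e0 => hε (e0 ▸ IsSquare.zero)
  have hN0 : ∀ s r, ¬(s = 0 ∧ r = 0) → N s r ≠ 0 := by
    intro s r hsr e0
    have h1 : -(m * s + k * r) = 0 := by
      by_contra hb
      exact hε ⟨(ε * k * s + m * r) / -(m * s + k * r), by
        rw [div_mul_div_comm, eq_div_iff (mul_ne_zero hb hb)]
        simp only [hNd] at e0
        linear_combination -e0⟩
    have h3 : ε * k * s + m * r = 0 := by
      simp only [hNd, h1] at e0
      simpa using e0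
    apply hsr
    constructor
    · have : (ε * k * k - m * m) * s = 0 := by linear_combination k * h3 + m * h1
      exact (mul_eq_zero.mp this).resolve_left hkm
    · have : (ε * k * k - m * m) * r = 0 := by linear_combination -ε * k * h1 - m * h3
      exact (mul_eq_zero.mp this).resolve_left hkm
  have hΦ : ∀ s r, (ε * s * (-(m * s + k * r)) - r * (ε * k * s + m * r) -
          ε * c * ((ε * k * s + m * r) ^ 2 - ε * (-(m * s + k * r)) ^ 2)) ^ 2 -
        ε * (s * (ε * k * s + m * r) - r * (-(m * s + k * r))) ^ 2 = N s r * W s r := by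
    intro s r
    simp only [hWd, hNd]
    ring
  have hsq : ∀ s r, ¬(s = 0 ∧ r = 0) → IsSquare (N s r * W s r) := by
    intro s r hsr
    rw [← hΦ]
    by_cases hD : s * (ε * k * s + m * r) - r * (-(m * s + k * r)) = 0
    · rw [hD]
      exact ⟨ε * s * (-(m * s + k * r)) - r * (ε * k * s + m * r) -
          ε * c * ((ε * k * s + m * r) ^ 2 - ε * (-(m * s + k * r)) ^ 2), by ring⟩
    · exact hno s r hD
  -- the zeros of `W` lie on one line
  have hline : ∀ s r, ¬(s = 0 ∧ r = 0) → W s r = 0 →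
      s * (1 - ε * c * m) = ε * c * k * r ∧ r * (1 + ε * c * m) = -(ε ^ 2 * c * k * s) := by
    intro s r hsr hW
    obtain ⟨η₁, h₁⟩ : ∃ x, x = ε * k * s + m * r := ⟨_, rfl⟩
    obtain ⟨η₂, h₃⟩ : ∃ x, x = -(m * s + k * r) := ⟨_, rfl⟩
    have hN1 := hN0 s r hsr
    simp only [hNd, ← h₁, ← h₃] at hN1
    have h0 := hΦ s r
    rw [hW, mul_zero] at h0
    simp only [← h₁, ← h₃] at h0
    have hD : s * η₁ - r * η₂ = 0 := by
      by_contra hD
      exact hε ⟨(ε * s * η₂ - r * η₁ - ε * c * (η₁ ^ 2 - ε * η₂ ^ 2)) / (s * η₁ - r * η₂), by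
        rw [div_mul_div_comm, eq_div_iff (mul_ne_zero hD hD)]
        linear_combination -h0⟩
    rw [hD] at h0
    have hU : ε * s * η₂ - r * η₁ - ε * c * (η₁ ^ 2 - ε * η₂ ^ 2) = 0 := by simpa using h0
    have e1 : s + ε * c * η₂ = 0 := by
      refine mul_left_cancel₀ hN1 ?_
      linear_combination η₁ * hD - η₂ * hU
    have e3 : r + ε * c * η₁ = 0 := by
      refine mul_left_cancel₀ hN1 ?_
      linear_combination -η₁ * hU + ε * η₂ * hD
    constructor
    · linear_combination e1 - ε * c * h₃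
    · linear_combination e3 - ε * c * h₁
  -- the powers agree
  have hpow : ∀ s r, ¬(s = 0 ∧ r = 0) → W s r ≠ 0 → W s r ^ e = N s r ^ e := by
    intro s r hsr hW
    have h1 := (FiniteField.isSquare_iff (ringChar_ne_two h2)
      (mul_ne_zero (hN0 s r hsr) hW)).mp (hsq s r hsr)
    rw [← hed, mul_pow] at h1
    have h3 : N s r ^ e * N s r ^ e = 1 := by
      rw [← pow_add, show e + e = Fintype.card K - 1 by omega,
        FiniteField.pow_card_sub_one_eq_one _ (hN0 s r hsr)]
    calc W s r ^ e = W s r ^ e * (N s r ^ e * N s r ^ e) := by rw [h3, mul_one]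
      _ = (N s r ^ e * W s r ^ e) * N s r ^ e := by ring
      _ = N s r ^ e := by rw [h1, one_mul]
  -- the polynomial in the affine coordinate
  set pN : K[X] := C (N 1 0) * X ^ 2 +
    C (2 * (ε * k) * m - 2 * ε * m * k) * X + C (N 0 1) with hpN
  set pW : K[X] := C (W 1 0) * X ^ 2 + C (W 1 1 - W 1 0 - W 0 1) * X + C (W 0 1) with hpW
  have evN : ∀ t : K, pN.eval t = N t 1 := fun t => by
    simp only [hpN, hNd, eval_add, eval_mul, eval_C, eval_pow, eval_X]; ring
  have evW : ∀ t : K, pW.eval t = W t 1 := fun t => by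
    simp only [hpW, hWd, hNd, eval_add, eval_mul, eval_C, eval_pow, eval_X]; ring
  have hPle : (pW ^ e - pN ^ e).natDegree ≤ e * 2 :=
    (natDegree_sub_le _ _).trans (max_le (natDegree_pow_le_of_le e (natDegree_quad_le _ _ _))
      (natDegree_pow_le_of_le e (natDegree_quad_le _ _ _)))
  set T : Finset K := Finset.univ.filter fun t => W t 1 ≠ 0 with hT
  have hroot : ∀ t ∈ T, (pW ^ e - pN ^ e).eval t = 0 := by
    intro t ht
    rw [hT, Finset.mem_filter] at ht
    rw [eval_sub, eval_pow, eval_pow, evW, evN, sub_eq_zero]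
    exact hpow t 1 (fun h => one_ne_zero h.2) ht.2
  have hbad : ∀ t₁ t₂ : K, W t₁ 1 = 0 → W t₂ 1 = 0 → t₁ = t₂ := by
    intro t₁ t₂ h1 h3
    obtain ⟨a1, b1⟩ := hline t₁ 1 (fun h => one_ne_zero h.2) h1
    obtain ⟨a2, b2⟩ := hline t₂ 1 (fun h => one_ne_zero h.2) h3
    by_contra hne
    have hd : t₁ - t₂ ≠ 0 := sub_ne_zero.mpr hne
    have hk1 : ε ^ 2 * c * k = 0 := by
      refine mul_right_cancel₀ hd ?_
      linear_combination b1 - b2
    have hm1' : 1 - ε * c * m = 0 := by
      refine mul_right_cancel₀ hd ?_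
      linear_combination a1 - a2
    have : (2 : K) = 0 := by linear_combination b1 + hm1' - t₁ * hk1
    exact h2 this
  have hP : pW ^ e - pN ^ e = 0 := by
    by_cases hall : ∀ t, W t 1 ≠ 0
    · refine eq_zero_of_natDegree_lt_card_of_eval_eq_zero' _ T hroot ?_
      rw [hT, Finset.filter_true_of_mem (fun t _ => hall t), Finset.card_univ]
      omega
    push Not at hall
    obtain ⟨t₀, ht₀⟩ := hall
    have hW10 : W 1 0 ≠ 0 := by
      intro h
      obtain ⟨a1, b1⟩ := hline 1 0 (fun h => one_ne_zero h.1) h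
      obtain ⟨a2, b2⟩ := hline t₀ 1 (fun h => one_ne_zero h.2) ht₀
      apply h2
      linear_combination b2 - (t₀ * b1) + a1
    have htop : (pW ^ e - pN ^ e).coeff (e * 2) = 0 := by
      rw [coeff_sub, coeff_pow_of_natDegree_le (natDegree_quad_le _ _ _),
        coeff_pow_of_natDegree_le (natDegree_quad_le _ _ _)]
      have c1 : pW.coeff 2 = W 1 0 := by simp [hpW, coeff_X, coeff_C]
      have c3 : pN.coeff 2 = N 1 0 := by simp [hpN, coeff_X, coeff_C]
      rw [c1, c3, hpow 1 0 (fun h => one_ne_zero h.1) hW10, sub_self]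
    by_contra hP0
    have hdeg : (pW ^ e - pN ^ e).natDegree < T.card := by
      have hlt : (pW ^ e - pN ^ e).natDegree < e * 2 := by
        refine lt_of_le_of_ne hPle fun he => hP0 ?_
        rw [← he] at htop
        exact leadingCoeff_eq_zero.mp htop
      have hTc : T = Finset.univ.erase t₀ := by
        ext t
        simp only [hT, Finset.mem_filter, Finset.mem_univ, true_and, Finset.mem_erase, and_true]
        exact ⟨fun h h' => h (h' ▸ ht₀), fun h h' => h (hbad _ _ h' ht₀)⟩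
      rw [hTc, Finset.card_erase_of_mem (Finset.mem_univ _), Finset.card_univ]
      omega
    exact hP0 (eq_zero_of_natDegree_lt_card_of_eval_eq_zero' _ T hroot hdeg)
  -- evaluate at a zero of `N` in the extension
  have h2F : (2 : F) ≠ 0 := fun h => h2 (φ.injective (by rw [map_ofNat, map_zero]; exact h))
  have hε0F : φ ε ≠ 0 := fun h => hε0 (φ.injective (by rw [h, map_zero]))
  have hδ0 : δ ≠ 0 := fun h => hε0F (by rw [← hδ, h]; simp)
  have hmk : φ m + δ * φ k ≠ 0 := fun h => hkm (φ.injective (by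
    simp only [map_sub, map_mul, map_zero]
    linear_combination (δ * φ k - φ m) * h - φ k * φ k * hδ))
  have hN' : pN.eval₂ φ δ⁻¹ = 0 := by
    simp only [hpN, eval₂_add, eval₂_mul, eval₂_C, eval₂_X_pow, eval₂_X]
    simp only [hNd, map_sub, map_mul, map_pow, map_add, map_neg, map_one, map_zero, map_ofNat]
    field_simp
    rw [← hδ]
    ring
  have hW' : pW.eval₂ φ δ⁻¹ = 4 * φ ε * φ c * (φ m + δ * φ k) := by
    simp only [hpW, eval₂_add, eval₂_mul, eval₂_C, eval₂_X_pow, eval₂_X]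
    simp only [hWd, hNd, map_sub, map_mul, map_pow, map_add, map_neg, map_one, map_zero, map_ofNat]
    field_simp
    rw [← hδ]
    ring
  have h0 := congrArg (Polynomial.eval₂ φ δ⁻¹) hP
  rw [eval₂_sub, eval₂_pow, eval₂_pow, hN', hW', eval₂_zero, zero_pow (by omega), sub_zero] at h0
  refine mul_ne_zero (mul_ne_zero (mul_ne_zero ?_ hε0F) ?_) hmk (pow_eq_zero_iff (by omega) |>.mp h0)
  · rw [show (4 : F) = 2 * 2 by norm_num]; exact mul_ne_zero h2F h2F
  · exact fun h => hc (φ.injective (by rw [h, map_zero]))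

end Cfsg.Agent.Lib.GeoTypesSU4.Orth
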