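import Mathlib
import Cfsg.Agent.Lib.GeoTypesSU4.OrthLine
import Cfsg.Agent.Lib.GeoTypesSU4.OrthPlane

/-!
# Orthogonal subfield groups of `SU_4(q)`: points with anisotropic rational perp

An isotropic point whose rational perp is an anisotropic plane is moved, by a transvection or by an
Eichler element of the overgroup, to one whose rational perp is a hyperbolic plane.
-/

set_option autoImplicit false
set_option linter.unusedSectionVars false
set_option maxHeartbeats 1000000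

namespace Cfsg.Agent.Lib.GeoTypesSU4.Orth

open Matrix QuadraticMap
open Cfsg.Agent.Lib Cfsg.Agent.Lib.Forms Cfsg.Agent.Lib.UnitaryMax
open Cfsg.Agent.Lib.FormMax (gl_ext)
open Cfsg.Agent.Lib.SubfieldMax
open Cfsg.Agent.Lib.SubfieldMax.UnitaryOrth
open Cfsg.Agent.Lib.GeoTypesSL4

section Quadratic

variable {K : Type*} [Field K] {ι : Type} [Fintype ι] [DecidableEq ι]
  {Q : QuadraticForm K (ι → K)}

/-- In an anisotropic plane `-Q f / Q e` is a non-square for orthogonal `e`, `f`. -/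
theorem plane_nonsq (h2 : (2 : K) ≠ 0) {a b e f : ι → K}
    (han : ∀ v, polar ⇑Q a v = 0 → polar ⇑Q b v = 0 → Q v = 0 → v = 0)
    (hae : polar ⇑Q a e = 0) (hbe : polar ⇑Q b e = 0) (haf : polar ⇑Q a f = 0)
    (hbf : polar ⇑Q b f = 0) (he : e ≠ 0) (hf : f ≠ 0) (hef : polar ⇑Q e f = 0) :
    Q e ≠ 0 ∧ Q f ≠ 0 ∧ ¬IsSquare (-(Q f) / Q e) := by
  have he' : Q e ≠ 0 := fun h => he (han e hae hbe h)
  have hf' : Q f ≠ 0 := fun h => hf (han f haf hbf h)
  refine ⟨he', hf', ?_⟩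
  rintro ⟨t, ht⟩
  rw [div_eq_iff he'] at ht
  have h0 : t • e + f = 0 := han _ (by rw [polar_add_right, polar_smul_right, hae, haf]; simp)
    (by rw [polar_add_right, polar_smul_right, hbe, hbf]; simp)
    (by rw [QuadraticMap.map_add (⇑Q), QuadraticMap.map_smul, polar_smul_left, hef, smul_eq_mul,
          smul_zero, add_zero]
        linear_combination -ht)
  have h1 : polar ⇑Q (t • e + f) f = 2 * Q f := by
    rw [polar_add_left, polar_smul_left, hef, Orth.polar_self_eq, smul_zero, zero_add]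
  rw [h0, polar_zero_left] at h1
  exact mul_ne_zero h2 hf' h1.symm

/-- A hyperbolic pair from orthogonal vectors with `Q n + t² Q f = 0`. -/
theorem exists_pair_of_orth (h2 : (2 : K) ≠ 0) {n f : ι → K} (hnf : polar ⇑Q n f = 0)
    (hn : Q n ≠ 0) {t : K} (ht : Q n + t ^ 2 * Q f = 0) :
    Q (n + t • f) = 0 ∧ Q ((4 * Q n)⁻¹ • (n - t • f)) = 0 ∧
      polar ⇑Q (n + t • f) ((4 * Q n)⁻¹ • (n - t • f)) = 1 := by
  have hm : Q (n - t • f) = 0 := by
    rw [sub_eq_add_neg, ← neg_smul, QuadraticMap.map_add (⇑Q), QuadraticMap.map_smul,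
      polar_smul_right, hnf, smul_eq_mul, smul_zero, add_zero]
    linear_combination ht
  have h4 : (4 : K) ≠ 0 := by
    rw [show (4 : K) = 2 * 2 by norm_num]; exact mul_ne_zero h2 h2
  refine ⟨?_, by rw [QuadraticMap.map_smul, hm, smul_zero], ?_⟩
  · rw [QuadraticMap.map_add (⇑Q), QuadraticMap.map_smul, polar_smul_right, hnf, smul_eq_mul,
      smul_zero, add_zero]
    linear_combination ht
  · rw [polar_smul_right, polar_sub_right, polar_add_left, polar_add_left, polar_smul_left,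
      polar_smul_left, polar_smul_right, polar_smul_right, polar_comm _ f n, hnf,
      Orth.polar_self_eq, Orth.polar_self_eq]
    simp only [smul_eq_mul]
    field_simp
    linear_combination (-2 : K) * ht

end Quadratic

variable {F : Type*} [Field F] [Fintype F] {n q : ℕ}

local notation "Vs" => (Fin n → F)
local notation "h" => Cfsg.hermForm n F q
local notation "GLs" => GL (Fin n) F
local notation:1024 "↟" g:1024 => (Units.val g : Matrix (Fin n) (Fin n) F)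

variable (hF : Fintype.card F = q ^ 2) {K : Subfield F} (hK : Nat.card K = q) (P : GL (Fin n) F)
  (hP : ∀ u v : Fin n → K, Cfsg.hermForm n F q (ratVec K P u) (ratVec K P v) ∈ K)

local notation "Ks" => (Fin n → K)
local notation "ρ" => ratVec K P
local notation "Ω" => Cfsg.Geo.subfieldSubgroup K P ⊓ suGL n F q
local notation "Qr" => ratQuad hF hK P hP

include hF hK hP

variable (h2 : (2 : F) ≠ 0) {δ : F} (hδ : δ + δ ^ q = 0) (hδ0 : δ ≠ 0) {ε : K}
  (hε : (ε : F) = δ ^ 2)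
include h2 hδ hδ0 hε

theorem eps_nonsq : ¬IsSquare ε := by
  rintro ⟨r, hr⟩
  have e : (δ - r) * (δ + r) = 0 := by
    have := congrArg Subtype.val hr
    simp only [MulMemClass.coe_mul, hε] at this
    linear_combination this
  have hδK : δ ∈ K := by
    rcases mul_eq_zero.mp e with e' | e'
    · rw [sub_eq_zero.mp e']; exact r.2
    · rw [eq_neg_of_add_eq_zero_left e']; exact K.neg_mem r.2
  have := (fixed_iff hK δ).mpr hδK
  rw [this, ← two_mul] at hδ
  exact hδ0 ((mul_eq_zero.mp hδ).resolve_left h2)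

/-- The Gram matrix of the coordinates of an isotropic vector. -/
theorem gram {z : Vs} {z₁ z₂ : Ks} (hdec : z = ρ z₁ + δ • ρ z₂) (hzz : h z z = 0) :
    polar ⇑Qr z₁ z₁ = ε * polar ⇑Qr z₂ z₂ := by
  apply Subtype.ext
  have hδq : δ ^ q = -δ := eq_neg_of_add_eq_zero_right hδ
  rw [hdec] at hzz
  simp only [herm_add_left hF, herm_add_right hF, herm_smul_left hF, herm_smul_right hF,
    herm_ratVec hF hK P hP h2, hδq, polar_comm (⇑Qr) z₂ z₁] at hzz
  simp only [MulMemClass.coe_mul, hε]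
  linear_combination hzz

theorem gram_det {z₁ z₂ : Ks} (hG : ¬(polar ⇑Qr z₂ z₂ = 0 ∧ polar ⇑Qr z₁ z₂ = 0)) :
    ε * polar ⇑Qr z₂ z₂ * polar ⇑Qr z₂ z₂ - polar ⇑Qr z₁ z₂ * polar ⇑Qr z₁ z₂ ≠ 0 := by
  intro e
  by_cases hk : polar ⇑Qr z₂ z₂ = 0
  · rw [hk, mul_zero, zero_sub, neg_eq_zero] at e
    exact hG ⟨hk, mul_self_eq_zero.mp e⟩
  · exact eps_nonsq hF hK P hP h2 hδ hδ0 hε ⟨polar ⇑Qr z₁ z₂ / polar ⇑Qr z₂ z₂, by
      field_simp; linear_combination e⟩

theorem gram_indep {z : Vs} {z₁ z₂ : Ks} (hdec : z = ρ z₁ + δ • ρ z₂) (hzz : h z z = 0)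
    (hG : ¬(polar ⇑Qr z₂ z₂ = 0 ∧ polar ⇑Qr z₁ z₂ = 0)) (c d : K) (e : c • z₁ + d • z₂ = 0) :
    c = 0 ∧ d = 0 := by
  have h11 := gram hF hK P hP h2 hδ hδ0 hε hdec hzz
  have hdet := gram_det hF hK P hP h2 hδ hδ0 hε hG
  have e1 := congrArg (fun x => polar ⇑Qr z₁ x) e
  have e3 := congrArg (fun x => polar ⇑Qr z₂ x) e
  simp only [polar_add_right, polar_smul_right, polar_zero_right, smul_eq_mul, h11] at e1
  simp only [polar_add_right, polar_smul_right, polar_zero_right, smul_eq_mul,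
    polar_comm (⇑Qr) z₂ z₁] at e3
  constructor
  · refine mul_left_cancel₀ hdet ?_
    linear_combination polar ⇑Qr z₂ z₂ * e1 - polar ⇑Qr z₁ z₂ * e3
  · refine mul_left_cancel₀ hdet ?_
    linear_combination ε * polar ⇑Qr z₂ z₂ * e3 - polar ⇑Qr z₁ z₂ * e1

variable {H : Subgroup (GL (Fin n) F)} (hΩ : Cfsg.Geo.subfieldSubgroup K P ⊓ suGL n F q ≤ H)
  (hH : H ≤ suGL n F q) (hn : n = 4) (hq : 5 ≤ q)
include hΩ hH hn hq

/-- A transvection at a point with anisotropic rational perp suffices. -/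
theorem eq_of_transvection {z : Vs} {z₁ z₂ : Ks} (hdec : z = ρ z₁ + δ • ρ z₂) (hzz : h z z = 0)
    (hG : ¬(polar ⇑Qr z₂ z₂ = 0 ∧ polar ⇑Qr z₁ z₂ = 0))
    (han : ∀ v, polar ⇑Qr z₁ v = 0 → polar ⇑Qr z₂ v = 0 → Qr v = 0 → v = 0) {c : F}
    (hc : c + c ^ q = 0) (hc0 : c ≠ 0) (hT : T z c hzz ∈ H) : H = suGL n F q := by
  classical
  have : Fintype K := Fintype.ofFinite K
  have h2K := two_ne_K hF hK P hP h2
  have hcard : Fintype.card (Fin n) = 4 := by rw [Fintype.card_fin, hn]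
  have hδq : δ ^ q = -δ := eq_neg_of_add_eq_zero_right hδ
  have h11 := gram hF hK P hP h2 hδ hδ0 hε hdec hzz
  have hdet := gram_det hF hK P hP h2 hδ hδ0 hε hG
  have hindz := gram_indep hF hK P hP h2 hδ hδ0 hε hdec hzz hG
  obtain ⟨C, hC⟩ : ∃ C : K, (C : F) = c / δ := ⟨⟨_, (fixed_iff hK _).mp (by
    rw [div_pow, eq_neg_of_add_eq_zero_right hc, hδq, neg_div_neg_eq])⟩, rfl⟩
  have hC0 : C ≠ 0 := fun e => div_ne_zero hc0 hδ0 (by rw [← hC, e]; rfl)
  have hcC : c = δ * (C : F) := by rw [hC, mul_div_cancel₀ _ hδ0]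
  obtain ⟨s, r, hD, hns⟩ := exists_nonsq_T h2K K.subtype (δ := δ)
    (eps_nonsq hF hK P hP h2 hδ hδ0 hε) (by exact hε.symm) hdet hC0
  obtain ⟨k, hk⟩ : ∃ k, k = polar ⇑Qr z₂ z₂ := ⟨_, rfl⟩
  obtain ⟨m, hm⟩ : ∃ m, m = polar ⇑Qr z₁ z₂ := ⟨_, rfl⟩
  rw [← hk, ← hm] at hD hns
  rw [← hk] at h11
  obtain ⟨η₁, hη₁⟩ : ∃ x, x = ε * k * s + m * r := ⟨_, rfl⟩
  obtain ⟨η₂, hη₂⟩ : ∃ x, x = -(m * s + k * r) := ⟨_, rfl⟩
  rw [← hη₁, ← hη₂] at hD hns
  -- the plane
  obtain ⟨a₁, ha₁0, ha₁⟩ := Quad.exists_perp_ne (Q := Qr) ![z₁, z₂] (by omega)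
  have a11 : polar ⇑Qr z₁ a₁ = 0 := ha₁ 0
  have a12 : polar ⇑Qr z₂ a₁ = 0 := ha₁ 1
  obtain ⟨a₂, ha₂0, ha₂⟩ := Quad.exists_perp_ne (Q := Qr) ![z₁, z₂, a₁] (by omega)
  have a21 : polar ⇑Qr z₁ a₂ = 0 := ha₂ 0
  have a22 : polar ⇑Qr z₂ a₂ = 0 := ha₂ 1
  have a23 : polar ⇑Qr a₁ a₂ = 0 := ha₂ 2
  obtain ⟨hk₁, hk₂, -⟩ := plane_nonsq h2K han a11 a12 a21 a22 ha₁0 ha₂0 a23
  -- the rational point
  obtain ⟨o, ho⟩ : ∃ o, o = s • z₁ + r • z₂ := ⟨_, rfl⟩
  have ho1 : polar ⇑Qr o z₁ = η₁ := by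
    rw [ho, polar_add_left, polar_smul_left, polar_smul_left, h11, polar_comm _ z₂ z₁, ← hm, hη₁]
    simp only [smul_eq_mul]; ring
  have ho2 : polar ⇑Qr o z₂ = -η₂ := by
    rw [ho, polar_add_left, polar_smul_left, polar_smul_left, ← hk, ← hm, hη₂]
    simp only [smul_eq_mul]; ring
  have hQo : 2 * Qr o = s * η₁ - r * η₂ := by
    rw [← Orth.polar_self_eq]
    conv_lhs => arg 3; rw [ho]
    rw [polar_add_right, polar_smul_right, polar_smul_right, ho1, ho2]
    simp only [smul_eq_mul]; ring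
  obtain ⟨x, y, hxy⟩ := exists_value h2K hk₁ hk₂ (-(s * η₁ - r * η₂) / 2)
  obtain ⟨f, hf⟩ : ∃ f, f = x • a₁ + y • a₂ := ⟨_, rfl⟩
  have f1 : polar ⇑Qr z₁ f = 0 := by
    rw [hf, polar_add_right, polar_smul_right, polar_smul_right, a11, a21]; simp
  have f2 : polar ⇑Qr z₂ f = 0 := by
    rw [hf, polar_add_right, polar_smul_right, polar_smul_right, a12, a22]; simp
  have hQf : Qr f = -(s * η₁ - r * η₂) / 2 := by
    rw [hf, QuadraticMap.map_add (⇑Qr), QuadraticMap.map_smul, QuadraticMap.map_smul,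
      polar_smul_left, polar_smul_right, a23, ← hxy]
    simp only [smul_eq_mul]; ring
  have hQf0 : Qr f ≠ 0 := by
    rw [hQf]; exact div_ne_zero (neg_ne_zero.mpr hD) h2K
  obtain ⟨f', hf'0, hf'⟩ := Quad.exists_perp_ne (Q := Qr) ![z₁, z₂, f] (by omega)
  have g1 : polar ⇑Qr z₁ f' = 0 := hf' 0
  have g2 : polar ⇑Qr z₂ f' = 0 := hf' 1
  have g3 : polar ⇑Qr f f' = 0 := hf' 2
  obtain ⟨-, hQf', hfns⟩ := plane_nonsq h2K han f1 f2 g1 g2
    (fun e => hQf0 (by rw [e, QuadraticMap.map_zero])) hf'0 g3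
  obtain ⟨w, hw⟩ : ∃ w, w = o + f := ⟨_, rfl⟩
  have hof : polar ⇑Qr o f = 0 := by
    rw [ho, polar_add_left, polar_smul_left, polar_smul_left, f1, f2]; simp
  have hwQ : Qr w = 0 := by
    rw [hw, QuadraticMap.map_add (⇑Qr), hof, hQf]
    field_simp
    linear_combination hQo
  have hw1 : polar ⇑Qr z₁ w = η₁ := by
    rw [hw, polar_add_right, f1, polar_comm _ z₁ o, ho1, add_zero]
  have hw2 : polar ⇑Qr z₂ w = -η₂ := by
    rw [hw, polar_add_right, f2, polar_comm _ z₂ o, ho2, add_zero]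
  have hwf : polar ⇑Qr w f = 2 * Qr f := by
    rw [hw, polar_add_left, hof, zero_add, Orth.polar_self_eq]
  have hw0 : w ≠ 0 := fun e => by
    rw [e, polar_zero_left] at hwf
    exact mul_ne_zero h2K hQf0 hwf.symm
  -- its image
  obtain ⟨y₁, hy₁⟩ : ∃ y, y = w + (ε * C * η₂) • z₁ + (ε * (C * η₁)) • z₂ := ⟨_, rfl⟩
  obtain ⟨y₂, hy₂⟩ : ∃ y, y = (C * η₁) • z₁ + (ε * C * η₂) • z₂ := ⟨_, rfl⟩
  have himg : ↟(T z c hzz) *ᵥ ρ w = ρ y₁ + δ • ρ y₂ := by
    rw [T_mulVec, hdec, herm_add_right hF, herm_smul_right hF, herm_ratVec hF hK P hP h2,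
      herm_ratVec hF hK P hP h2, polar_comm _ w z₁, polar_comm _ w z₂, hw1, hw2, hy₁, hy₂, hδq,
      hcC]
    simp only [ratVec_add, ratVec_smul, MulMemClass.coe_mul, NegMemClass.coe_neg, hε]
    module
  have hyf₁ : polar ⇑Qr y₁ f = 2 * Qr f := by
    rw [hy₁, polar_add_left, polar_add_left, polar_smul_left, polar_smul_left, hwf, f1, f2]; simp
  have hind : ∀ a b : K, a • y₁ + b • y₂ = 0 → a = 0 ∧ b = 0 := by
    intro a b e
    have e1 := congrArg (fun v => polar ⇑Qr v f) e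
    simp only [polar_add_left, polar_smul_left, polar_zero_left, hyf₁, smul_eq_mul] at e1
    rw [hy₂, polar_add_left, polar_smul_left, polar_smul_left, f1, f2] at e1
    simp only [smul_zero, add_zero, mul_zero, mul_eq_zero] at e1
    have ha : a = 0 := by
      rcases e1 with e1 | e1 | e1
      exacts [e1, absurd e1 h2K, absurd e1 hQf0]
    refine ⟨ha, ?_⟩
    rw [ha, zero_smul, zero_add, hy₂, smul_add, smul_smul, smul_smul] at e
    obtain ⟨d1, d2⟩ := hindz _ _ e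
    by_contra hb
    apply hD
    have n1 : η₁ = 0 := by simpa [hb, hC0] using d1
    have n2 : η₂ = 0 := by
      have hε0 : ε ≠ 0 := fun e0 => eps_nonsq hF hK P hP h2 hδ hδ0 hε (e0 ▸ IsSquare.zero)
      simpa [hb, hC0, hε0] using d2
    rw [n1, n2]; ring
  -- the pair
  obtain ⟨U, hU⟩ : ∃ U, U = ε * s * η₂ - r * η₁ - ε * C * (η₁ ^ 2 - ε * η₂ ^ 2) := ⟨_, rfl⟩
  rw [← hU] at hns
  obtain ⟨A, hA⟩ : ∃ A, A = U / (s * η₁ - r * η₂) := ⟨_, rfl⟩
  obtain ⟨o', ho'⟩ : ∃ v, v = (-r) • z₁ + (-(ε * s)) • z₂ := ⟨_, rfl⟩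
  have o1 : polar ⇑Qr o' z₁ = ε * η₂ := by
    rw [ho', polar_add_left, polar_smul_left, polar_smul_left, h11, polar_comm _ z₂ z₁, ← hm, hη₂]
    simp only [smul_eq_mul]; ring
  have o2 : polar ⇑Qr o' z₂ = -η₁ := by
    rw [ho', polar_add_left, polar_smul_left, polar_smul_left, ← hk, ← hm, hη₁]
    simp only [smul_eq_mul]; ring
  have o3 : polar ⇑Qr o' f = 0 := by
    rw [ho', polar_add_left, polar_smul_left, polar_smul_left, f1, f2]; simp
  have o4 : polar ⇑Qr o' f' = 0 := by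
    rw [ho', polar_add_left, polar_smul_left, polar_smul_left, g1, g2]; simp
  obtain ⟨v, hv⟩ : ∃ v, v = o' + A • f := ⟨_, rfl⟩
  have hv1 : polar ⇑Qr y₁ v = 0 := by
    have e1 : polar ⇑Qr w o' = ε * s * η₂ - r * η₁ := by
      rw [hw, ho, polar_add_left, polar_add_left, polar_smul_left, polar_smul_left,
        polar_comm _ z₁ o', polar_comm _ z₂ o', o1, o2, polar_comm _ f o', o3]
      simp only [smul_eq_mul]; ring
    rw [hv, polar_add_right, polar_smul_right, hyf₁, hy₁, polar_add_left, polar_add_left,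
      polar_smul_left, polar_smul_left, polar_comm _ z₁ o', polar_comm _ z₂ o', o1, o2, e1, hQf, hA,
      hU]
    simp only [smul_eq_mul]
    clear hU hA hns hQo hxy hQf
    generalize hgD : s * η₁ - r * η₂ = D at hD ⊢
    field_simp
    ring
  have hv2 : polar ⇑Qr y₂ v = 0 := by
    rw [hv, hy₂, polar_add_right, polar_smul_right, polar_add_left, polar_add_left, polar_smul_left,
      polar_smul_left, polar_smul_left, polar_smul_left, polar_comm _ z₁ o', polar_comm _ z₂ o', o1,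
      o2, f1, f2]
    simp only [smul_eq_mul]; ring
  have hy1f' : polar ⇑Qr y₁ f' = 0 := by
    rw [hy₁, hw, ho]
    simp [polar_add_left, polar_smul_left, g1, g2, g3]
  have hy2f' : polar ⇑Qr y₂ f' = 0 := by
    rw [hy₂]; simp [polar_add_left, polar_smul_left, g1, g2]
  have hvf' : polar ⇑Qr v f' = 0 := by
    rw [hv, polar_add_left, polar_smul_left, o4, g3]; simp
  have hQv : Qr v = Qr f * (A ^ 2 - ε) := by
    have e1 : 2 * Qr o' = ε * (s * η₁ - r * η₂) := by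
      rw [← Orth.polar_self_eq]
      conv_lhs => arg 3; rw [ho']
      rw [polar_add_right, polar_smul_right, polar_smul_right, o1, o2]
      simp only [smul_eq_mul]; ring
    rw [hv, QuadraticMap.map_add (⇑Qr), QuadraticMap.map_smul, polar_smul_right, o3, hQf]
    simp only [smul_eq_mul]
    field_simp
    linear_combination e1
  have hAns : ¬IsSquare (A ^ 2 - ε) := by
    rintro ⟨t, ht⟩
    refine hns ⟨t * (s * η₁ - r * η₂), ?_⟩
    rw [hA] at ht
    field_simp at ht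
    linear_combination ht
  have hv0 : Qr v ≠ 0 := by
    rw [hQv]; exact mul_ne_zero hQf0 fun e => hAns (e ▸ IsSquare.zero)
  obtain ⟨t, ht⟩ := isSquare_mul_of_nonsq h2K hAns hfns
  obtain ⟨w₁, w₂, w₃⟩ := exists_pair_of_orth h2K hvf' hv0 (t := t * Qr f / Qr f') (by
    rw [hQv]
    field_simp at ht ⊢
    linear_combination (-(Qr f)) * ht)
  have hroot := root_of_good hF hK P hP h2 hΩ hH hn hq hδ hδ0 hT hw0 hwQ rfl himg hind w₁ w₂ w₃
    (by simp [polar_add_right, polar_smul_right, hv1, hy1f'])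
    (by simp [polar_add_right, polar_smul_right, hv2, hy2f'])
    (by simp [polar_sub_right, polar_smul_right, hv1, hy1f'])
    (by simp [polar_sub_right, polar_smul_right, hv2, hy2f'])
  refine eq_suGL_of_root hF hK P hP h2 hΩ hH (by omega) (fun e => ?_) w₁ hroot
  rw [e, polar_zero_left] at w₃
  exact zero_ne_one w₃

/-- Eichler elements at an isotropic point of a hyperbolic rational line suffice. -/
theorem eq_of_line {p : Vs} {x y : Ks} (hx : Qr x = 0) (hy : Qr y = 0)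
    (hxy : polar ⇑Qr x y = 1) {α β : F} (hp : p = α • ρ x + β • ρ y) (hpp : h p p = 0)
    (hαβ : α * β ^ q ≠ 0) (hβ : β ^ q ≠ β)
    (han : ∀ v, polar ⇑Qr x v = 0 → polar ⇑Qr y v = 0 → Qr v = 0 → v = 0)
    (hE : ∀ e, polar ⇑Qr x e = 0 → polar ⇑Qr y e = 0 →
      ∃ ha, E hF p (ρ e) hpp ha ∈ H) : H = suGL n F q := by
  classical
  have : Fintype K := Fintype.ofFinite K
  have h2K := two_ne_K hF hK P hP h2
  have hcard : Fintype.card (Fin n) = 4 := by rw [Fintype.card_fin, hn]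
  have hδq : δ ^ q = -δ := eq_neg_of_add_eq_zero_right hδ
  have hxx := herm_ratVec_zero hF hK P hP h2 hx
  have hyx : polar ⇑Qr y x = 1 := by rw [polar_comm, hxy]
  have hskew : α * β ^ q + α ^ q * β = 0 := by
    have e := hpp
    rw [hp] at e
    simp only [herm_add_left hF, herm_add_right hF, herm_smul_left hF, herm_smul_right hF, hxx,
      herm_ratVec_zero hF hK P hP h2 hy, herm_ratVec_one hF hK P hP h2 hxy,
      herm_ratVec_one hF hK P hP h2 hyx] at e
    linear_combination e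
  obtain ⟨C, hC⟩ : ∃ C : K, (C : F) = α * β ^ q / δ := ⟨⟨_, (fixed_iff hK _).mp (by
    rw [div_pow, mul_pow, pow_q_pow_q hF, hδq, eq_neg_of_add_eq_zero_right hskew,
      neg_div_neg_eq])⟩, rfl⟩
  have hC0 : C ≠ 0 := fun e => div_ne_zero hαβ hδ0 (by rw [← hC, e]; rfl)
  have hαC : α * β ^ q = δ * (C : F) := by rw [hC, mul_div_cancel₀ _ hδ0]
  obtain ⟨b₁, b₂, hb⟩ := exists_coord hF hK h2 hδ hδ0 β
  have hbq : β ^ q = (b₁ : F) - δ * (b₂ : F) := by
    rw [hb, q_add hF, mul_pow, (fixed_iff hK _).mpr b₁.2, (fixed_iff hK _).mpr b₂.2, hδq]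
    ring
  have hb2 : b₂ ≠ 0 := fun e => hβ (by rw [hbq, hb, e]; simp)
  have hεns := eps_nonsq hF hK P hP h2 hδ hδ0 hε
  obtain ⟨N, hN⟩ : ∃ N, N = b₁ ^ 2 - ε * b₂ ^ 2 := ⟨_, rfl⟩
  have hNF : β ^ q * β = (N : F) := by
    rw [hN, hbq, hb]; push_cast; rw [hε]; ring
  have hN0 : N ≠ 0 := fun e => hεns ⟨b₁ / b₂, by
    rw [hN] at e; field_simp; linear_combination -e⟩
  obtain ⟨X, hX0, hX⟩ := exists_nonsq_quad h2K hεns hb2 hN
  -- the plane
  obtain ⟨a₁, ha₁0, ha₁⟩ := Quad.exists_perp_ne (Q := Qr) ![x, y] (by omega)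
  have a11 : polar ⇑Qr x a₁ = 0 := ha₁ 0
  have a12 : polar ⇑Qr y a₁ = 0 := ha₁ 1
  obtain ⟨a₂, ha₂0, ha₂⟩ := Quad.exists_perp_ne (Q := Qr) ![x, y, a₁] (by omega)
  have a21 : polar ⇑Qr x a₂ = 0 := ha₂ 0
  have a22 : polar ⇑Qr y a₂ = 0 := ha₂ 1
  have a23 : polar ⇑Qr a₁ a₂ = 0 := ha₂ 2
  obtain ⟨hk₁, hk₂, -⟩ := plane_nonsq h2K han a11 a12 a21 a22 ha₁0 ha₂0 a23
  obtain ⟨k, hk⟩ : ∃ k, k = -2 / (X * C) := ⟨_, rfl⟩
  have hk0 : k ≠ 0 := by rw [hk]; exact div_ne_zero (neg_ne_zero.mpr h2K) (mul_ne_zero hX0 hC0)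
  obtain ⟨r₁, r₂, hr⟩ := exists_value h2K hk₁ hk₂ k
  obtain ⟨e, he⟩ : ∃ e, e = r₁ • a₁ + r₂ • a₂ := ⟨_, rfl⟩
  have ex : polar ⇑Qr x e = 0 := by
    rw [he, polar_add_right, polar_smul_right, polar_smul_right, a11, a21]; simp
  have ey : polar ⇑Qr y e = 0 := by
    rw [he, polar_add_right, polar_smul_right, polar_smul_right, a12, a22]; simp
  have hQe : Qr e = k := by
    rw [he, QuadraticMap.map_add (⇑Qr), QuadraticMap.map_smul, QuadraticMap.map_smul,
      polar_smul_left, polar_smul_right, a23, ← hr]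
    simp only [smul_eq_mul]; ring
  obtain ⟨f, hf0, hf⟩ := Quad.exists_perp_ne (Q := Qr) ![x, y, e] (by omega)
  have fx : polar ⇑Qr x f = 0 := hf 0
  have fy : polar ⇑Qr y f = 0 := hf 1
  have fe : polar ⇑Qr e f = 0 := hf 2
  obtain ⟨-, hQf, hfns⟩ := plane_nonsq h2K han ex ey fx fy
    (fun h' => hk0 (by rw [← hQe, h', QuadraticMap.map_zero])) hf0 fe
  rw [hQe] at hfns
  -- the image
  obtain ⟨ha, hEH⟩ := hE e ex ey
  obtain ⟨y₁, hy₁⟩ : ∃ v, v = x + b₁ • e + (-(k * N)) • y := ⟨_, rfl⟩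
  obtain ⟨y₂, hy₂⟩ : ∃ v, v = (-(k * C)) • x + (-b₂) • e := ⟨_, rfl⟩
  have himg : ↟(E hF p (ρ e) hpp ha) *ᵥ ρ x = ρ y₁ + δ • ρ y₂ := by
    have hxp : h (ρ x) p = β ^ q := by
      rw [hp, herm_add_right hF, herm_smul_right hF, herm_smul_right hF, hxx,
        herm_ratVec_one hF hK P hP h2 hxy]
      ring
    rw [E_mulVec hF h2, hxp, half, herm_ratVec_self hF hK P hP h2, hQe,
      herm_ratVec_perp hF hK P hP h2 ex, neg_div, mul_div_cancel_left₀ _ h2, sub_zero, hp,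
      smul_add, smul_smul, smul_smul, hy₁, hy₂]
    simp only [ratVec_add, ratVec_smul, MulMemClass.coe_mul, NegMemClass.coe_neg]
    rw [show -(k : F) * β ^ q * α = -((k : F) * (δ * (C : F))) by rw [← hαC]; ring,
      show -(k : F) * β ^ q * β = -((k : F) * (N : F)) by rw [← hNF]; ring, hbq]
    module
  have hy1x : polar ⇑Qr y₁ x = -(k * N) := by
    rw [hy₁]; simp [polar_add_left, polar_smul_left, Orth.polar_self_zero hx, hyx,
      polar_comm (⇑Qr) e x, ex]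
  have hy2x : polar ⇑Qr y₂ x = 0 := by
    rw [hy₂]; simp [polar_add_left, polar_smul_left, Orth.polar_self_zero hx,
      polar_comm (⇑Qr) e x, ex]
  have hind : ∀ a b : K, a • y₁ + b • y₂ = 0 → a = 0 ∧ b = 0 := by
    intro a b e0
    have e1 := congrArg (fun v => polar ⇑Qr v x) e0
    simp only [polar_add_left, polar_smul_left, polar_zero_left, hy1x, hy2x, smul_eq_mul] at e1
    have ha : a = 0 := by simpa [hk0, hN0] using e1
    refine ⟨ha, ?_⟩
    rw [ha, zero_smul, zero_add, hy₂] at e0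
    have e3 := congrArg (fun v => polar ⇑Qr v e) e0
    simp only [polar_smul_left, polar_add_left, polar_zero_left, ex, Orth.polar_self_eq, hQe,
      smul_eq_mul] at e3
    simpa [hb2, hk0, h2K] using e3
  -- the pair
  obtain ⟨B, hB⟩ : ∃ B, B = (2 * k * b₁ * C - 2 * b₂) / (k * N) := ⟨_, rfl⟩
  obtain ⟨v, hv⟩ : ∃ v, v = C • e + B • x + (-(2 * b₂)) • y := ⟨_, rfl⟩
  have hv1 : polar ⇑Qr y₁ v = 0 := by
    rw [hv, hy₁]
    simp only [polar_add_left, polar_add_right, polar_smul_left, polar_smul_right,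
      Orth.polar_self_zero hx, Orth.polar_self_zero hy, hxy, hyx, ex, ey, polar_comm (⇑Qr) e x,
      polar_comm (⇑Qr) e y, Orth.polar_self_eq, hQe, smul_eq_mul, hx, hy, hB]
    field_simp
    ring
  have hv2 : polar ⇑Qr y₂ v = 0 := by
    rw [hv, hy₂]
    simp only [polar_add_left, polar_add_right, polar_smul_left, polar_smul_right,
      hxy, hyx, ex, ey, polar_comm (⇑Qr) e x,
      polar_comm (⇑Qr) e y, Orth.polar_self_eq, hQe, smul_eq_mul, hx]
    ring
  have hvf : polar ⇑Qr v f = 0 := by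
    rw [hv]; simp [polar_add_left, polar_smul_left, fx, fy, fe]
  have hy1f : polar ⇑Qr y₁ f = 0 := by
    rw [hy₁]; simp [polar_add_left, polar_smul_left, fx, fy, fe]
  have hy2f : polar ⇑Qr y₂ f = 0 := by
    rw [hy₂]; simp [polar_add_left, polar_smul_left, fx, fe]
  have hQv : Qr v / k = C ^ 2 * (((b₂ * X + b₁) ^ 2 - ε * b₂ ^ 2) / N) := by
    rw [hv, QuadraticMap.map_add (⇑Qr), QuadraticMap.map_add (⇑Qr), QuadraticMap.map_smul,
      QuadraticMap.map_smul, QuadraticMap.map_smul]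
    simp only [polar_add_left, polar_smul_left, polar_smul_right, polar_comm (⇑Qr) e x,
      polar_comm (⇑Qr) e y, ex, ey, hxy, hQe, hx, hy, smul_eq_mul, hB, hk]
    field_simp
    rw [hN]
    ring
  have hvns : ¬IsSquare (Qr v / k) := by
    rintro ⟨t, ht⟩
    refine hX ⟨t / C, ?_⟩
    rw [hQv] at ht
    rw [div_mul_div_comm, eq_div_iff (mul_ne_zero hC0 hC0)]
    linear_combination ht
  have hv0 : Qr v ≠ 0 := fun h' => hvns (by rw [h', zero_div]; exact IsSquare.zero)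
  obtain ⟨t, ht⟩ := isSquare_mul_of_nonsq h2K hvns hfns
  obtain ⟨w₁, w₂, w₃⟩ := exists_pair_of_orth h2K hvf hv0 (t := t * k / Qr f) (by
    field_simp at ht ⊢
    linear_combination -ht)
  have hx0 : x ≠ 0 := fun h' => by rw [h', polar_zero_left] at hxy; exact zero_ne_one hxy
  have hroot := root_of_good hF hK P hP h2 hΩ hH hn hq hδ hδ0 hEH hx0 hx rfl himg hind w₁ w₂ w₃
    (by simp [polar_add_right, polar_smul_right, hv1, hy1f])
    (by simp [polar_add_right, polar_smul_right, hv2, hy2f])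
    (by simp [polar_sub_right, polar_smul_right, hv1, hy1f])
    (by simp [polar_sub_right, polar_smul_right, hv2, hy2f])
  refine eq_suGL_of_root hF hK P hP h2 hΩ hH (by omega) (fun h' => ?_) w₁ hroot
  rw [h', polar_zero_left] at w₃
  exact zero_ne_one w₃

end Cfsg.Agent.Lib.GeoTypesSU4.Orth
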