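import Mathlib
import Cfsg.Agent.Lib.GeoTypesSU4.OrthCases

/-!
# The orthogonal subfield groups are maximal in `SU_4(q)`, `q` odd, `q ≥ 5`
-/

set_option autoImplicit false
set_option linter.unusedSectionVars false
set_option maxHeartbeats 1000000

namespace Cfsg.Agent.Lib.GeoTypesSU4.Orth

open Matrix QuadraticMap
open Cfsg.Agent.Lib Cfsg.Agent.Lib.Forms Cfsg.Agent.Lib.UnitaryMax
open Cfsg.Agent.Lib.FormMax (gl_ext)
open Cfsg.Agent.Lib.SubfieldMax
open Cfsg.Agent.Lib.SubfieldMax.UnitaryOrth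
open Cfsg.Agent.Lib.GeoTypesSL4

variable {F : Type*} [Field F] [Fintype F] {n q : ℕ}

local notation "Vs" => (Fin n → F)
local notation "h" => Cfsg.hermForm n F q
local notation "GLs" => GL (Fin n) F
local notation:1024 "↟" g:1024 => (Units.val g : Matrix (Fin n) (Fin n) F)

/-- The semilinear map fixing the rational vectors. -/
def conjP (q : ℕ) (P : GL (Fin n) F) (v : Fin n → F) : Fin n → F :=
  (P : Matrix (Fin n) (Fin n) F) *ᵥ fun i => (((P⁻¹ : GL (Fin n) F) : Matrix (Fin n) (Fin n) F) *ᵥ v) i ^ q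

variable (hF : Fintype.card F = q ^ 2) {K : Subfield F} (hK : Nat.card K = q) (P : GL (Fin n) F)
  (hP : ∀ u v : Fin n → K, Cfsg.hermForm n F q (ratVec K P u) (ratVec K P v) ∈ K)

local notation "Ks" => (Fin n → K)
local notation "ρ" => ratVec K P
local notation "Ω" => Cfsg.Geo.subfieldSubgroup K P ⊓ suGL n F q
local notation "Qr" => ratQuad hF hK P hP

include hF hK

theorem conjP_ratVec (u : Ks) : conjP q P (ρ u) = ρ u := by
  rw [conjP, ratVec, inv_mulVec_mulVec]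
  congr 1
  funext i
  exact (fixed_iff hK _).mpr (u i).2

theorem conjP_add (v w : Vs) : conjP q P (v + w) = conjP q P v + conjP q P w := by
  rw [conjP, conjP, conjP, ← mulVec_add]
  congr 1
  funext i
  simp only [mulVec_add, Pi.add_apply, q_add hF]

omit hF hK in
theorem conjP_smul (l : F) (v : Vs) : conjP q P (l • v) = l ^ q • conjP q P v := by
  rw [conjP, conjP, ← mulVec_smul]
  congr 1
  funext i
  simp only [mulVec_smul, Pi.smul_apply, smul_eq_mul, mul_pow]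

include hP

variable (h2 : (2 : F) ≠ 0) {δ : F} (hδ : δ + δ ^ q = 0) (hδ0 : δ ≠ 0) {ε : K}
  (hε : (ε : F) = δ ^ 2)
include h2 hδ hδ0 hε

/-- An element keeping every singular rational point on a totally singular line is in the subfield
group. -/
theorem mem_of_G {g : GLs} (hgK : g ∈ suGL n F q) (hq : 5 ≤ q) {e : Ks} (he0 : e ≠ 0)
    (he : Qr e = 0)
    (hG : ∀ u z₁ z₂ : Ks, Qr u = 0 → ↟g *ᵥ ρ u = ρ z₁ + δ • ρ z₂ →
      polar ⇑Qr z₂ z₂ = 0 ∧ polar ⇑Qr z₁ z₂ = 0) :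
    g ∈ Cfsg.Geo.subfieldSubgroup K P := by
  have hQ := ratQuad_nondegenerate hF hK P hP h2
  have h2K := two_ne_K hF hK P hP h2
  have hδq : δ ^ q = -δ := eq_neg_of_add_eq_zero_right hδ
  obtain ⟨G, hGd⟩ : ∃ G : Ks → Ks → F, ∀ u v, G u v = h (↟g *ᵥ ρ u) (conjP q P (↟g *ᵥ ρ v)) :=
    ⟨_, fun _ _ => rfl⟩
  have hconj : ∀ a b : Ks, conjP q P (ρ a + δ • ρ b) = ρ a - δ • ρ b := fun a b => by
    rw [conjP_add hF hK, conjP_smul, conjP_ratVec hF hK, conjP_ratVec hF hK, hδq]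
    module
  have hsym : ∀ u v, G u v = G v u := fun u v => by
    obtain ⟨a, b, hu⟩ := exists_decomp hF hK P hP h2 hδ hδ0 (↟g *ᵥ ρ u)
    obtain ⟨c, d, hv⟩ := exists_decomp hF hK P hP h2 hδ hδ0 (↟g *ᵥ ρ v)
    rw [hGd, hGd, hu, hv, hconj, hconj]
    simp only [herm_add_left hF, h_sub_right hF, herm_smul_left hF, herm_smul_right hF, hδq,
      herm_ratVec hF hK P hP h2, polar_comm (⇑Qr) c, polar_comm (⇑Qr) d]
    ring
  have hadd : ∀ u u' v, G (u + u') v = G u v + G u' v := fun u u' v => by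
    rw [hGd, hGd, hGd, ratVec_add, mulVec_add, herm_add_left hF]
  have hsmul : ∀ (t : K) (u v : Ks), G (t • u) v = (t : F) * G u v := fun t u v => by
    rw [hGd, hGd, ratVec_smul, mulVec_smul, herm_smul_left hF]
  have hadd' : ∀ u v v', G u (v + v') = G u v + G u v' := fun u v v' => by
    rw [hsym, hadd, hsym v, hsym v']
  have hsmul' : ∀ (t : K) (u v : Ks), G u (t • v) = (t : F) * G u v := fun t u v => by
    rw [hsym, hsmul, hsym v]
  have hzero : ∀ u, Qr u = 0 → G u u = 0 := fun u hu => by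
    obtain ⟨a, b, hab⟩ := exists_decomp hF hK P hP h2 hδ hδ0 (↟g *ᵥ ρ u)
    obtain ⟨k0, m0⟩ := hG u a b hu hab
    have haa : polar ⇑Qr a a = ε * polar ⇑Qr b b := gram hF hK P hP h2 hδ hδ0 hε hab
      (by rw [apply_K hgK]; exact herm_ratVec_zero hF hK P hP h2 hu)
    rw [hGd, hab, hconj]
    simp only [herm_add_left hF, h_sub_right hF, herm_smul_left hF, herm_smul_right hF, hδq,
      herm_ratVec hF hK P hP h2, polar_comm (⇑Qr) b a, haa, k0, m0, mul_zero]
    simp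
  obtain ⟨f, hf, hef⟩ := Orth.exists_partner hQ he0 he
  obtain ⟨κ, hκ⟩ : ∃ κ, κ = G e f := ⟨_, rfl⟩
  obtain ⟨r, hr0, hr1⟩ := exists_sq_ne_one hF hK hq
  have hrF : (r : F) * r - 1 ≠ 0 := fun e' => hr1 (Subtype.ext (by
    push_cast; linear_combination e'))
  have hperp : ∀ a, polar ⇑Qr e a = 0 → polar ⇑Qr f a = 0 →
      G a a = 2 * ((Qr a : K) : F) * κ := by
    intro a hea hfa
    have key : ∀ t : K, 2 * (t : F) * G e a + (t : F) ^ 2 * (G a a - 2 * ((Qr a : K) : F) * κ) -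
        2 * (t : F) ^ 3 * (((Qr a : K) : F) * G a f) = 0 := by
      intro t
      have hs : Qr (e + t • a + (-(t * t * Qr a)) • f) = 0 := by
        rw [QuadraticMap.map_add (⇑Qr), QuadraticMap.map_add (⇑Qr), QuadraticMap.map_smul,
          QuadraticMap.map_smul, polar_smul_right, polar_smul_right, polar_add_left,
          polar_smul_left, he, hf, hea, hef, polar_comm _ a f, hfa]
        simp only [smul_eq_mul]; ring
      have h0 := hzero _ hs
      simp only [hadd, hadd', hsmul, hsmul', hsym a e, hsym f e, hsym f a, hzero e he, hzero f hf,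
        ← hκ, NegMemClass.coe_neg, MulMemClass.coe_mul] at h0
      linear_combination h0
    have k1 := key 1
    have k2 := key (-1)
    have k3 := key r
    simp only [NegMemClass.coe_neg, OneMemClass.coe_one] at k1 k2
    have hC : (2 : F) * (G a a - 2 * ((Qr a : K) : F) * κ) = 0 := by linear_combination k1 + k2
    exact sub_eq_zero.mp ((mul_eq_zero.mp hC).resolve_left h2)
  have hdiag : ∀ x, G x x = 2 * ((Qr x : K) : F) * κ := by
    intro x
    obtain ⟨a, ha⟩ : ∃ a, a = Quad.proj Qr e f x := ⟨_, rfl⟩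
    have a1 : polar ⇑Qr e a = 0 := ha ▸ Quad.proj_left he hef x
    have a2 : polar ⇑Qr f a = 0 := ha ▸ Quad.proj_right hf hef x
    obtain ⟨c, hc⟩ : ∃ c, c = polar ⇑Qr f x := ⟨_, rfl⟩
    obtain ⟨d, hd⟩ : ∃ d, d = polar ⇑Qr e x := ⟨_, rfl⟩
    have ex : x = a + c • e + d • f := by rw [ha, Quad.proj, hc, hd]; abel
    have key : ∀ a, polar ⇑Qr e a = 0 → polar ⇑Qr f a = 0 →
        G a e = 0 ∧ G a f = 0 := by
      intro a hea hfa
      have hA : ∀ t : K, t ≠ 0 → G e a = (t : F) ^ 2 * (((Qr a : K) : F) * G a f) := by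
        intro t ht
        have hs : Qr (e + t • a + (-(t * t * Qr a)) • f) = 0 := by
          rw [QuadraticMap.map_add (⇑Qr), QuadraticMap.map_add (⇑Qr), QuadraticMap.map_smul,
            QuadraticMap.map_smul, polar_smul_right, polar_smul_right, polar_add_left,
            polar_smul_left, he, hf, hea, hef, polar_comm _ a f, hfa]
          simp only [smul_eq_mul]; ring
        have h0 := hzero _ hs
        simp only [hadd, hadd', hsmul, hsmul', hsym a e, hsym f e, hsym f a, hzero e he, hzero f hf,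
          ← hκ, hperp a hea hfa, NegMemClass.coe_neg, MulMemClass.coe_mul] at h0
        have htF : (t : F) ≠ 0 := fun e' => ht (Subtype.ext e')
        refine mul_left_cancel₀ (mul_ne_zero h2 htF) ?_
        linear_combination h0
      have hA' : ∀ t : K, t ≠ 0 → G f a = (t : F) ^ 2 * (((Qr a : K) : F) * G a e) := by
        intro t ht
        have hs : Qr (f + t • a + (-(t * t * Qr a)) • e) = 0 := by
          rw [QuadraticMap.map_add (⇑Qr), QuadraticMap.map_add (⇑Qr), QuadraticMap.map_smul,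
            QuadraticMap.map_smul, polar_smul_right, polar_smul_right, polar_add_left,
            polar_smul_left, he, hf, hfa, polar_comm _ f e, hef, polar_comm _ a e, hea]
          simp only [smul_eq_mul]; ring
        have h0 := hzero _ hs
        simp only [hadd, hadd', hsmul, hsmul', hsym a f, hsym f e, hsym e a, hzero e he, hzero f hf,
          ← hκ, hperp a hea hfa, NegMemClass.coe_neg, MulMemClass.coe_mul] at h0
        have htF : (t : F) ≠ 0 := fun e' => ht (Subtype.ext e')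
        refine mul_left_cancel₀ (mul_ne_zero h2 htF) ?_
        linear_combination h0
      constructor
      · rw [hsym]
        have e1 := hA 1 one_ne_zero
        have e3 := hA r hr0
        simp only [OneMemClass.coe_one] at e1
        refine mul_left_cancel₀ hrF ?_
        linear_combination (r : F) ^ 2 * e1 - e3
      · rw [hsym]
        have e1 := hA' 1 one_ne_zero
        have e3 := hA' r hr0
        simp only [OneMemClass.coe_one] at e1
        refine mul_left_cancel₀ hrF ?_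
        linear_combination (r : F) ^ 2 * e1 - e3
    obtain ⟨ae, af⟩ := key a a1 a2
    have hQx : Qr x = Qr a + c * d := by
      rw [ex, QuadraticMap.map_add (⇑Qr), QuadraticMap.map_add (⇑Qr), QuadraticMap.map_smul,
        QuadraticMap.map_smul, polar_smul_right, polar_smul_right, polar_add_left, polar_smul_left,
        he, hf, hef, polar_comm _ a e, a1, polar_comm _ a f, a2]
      simp only [smul_eq_mul]; ring
    rw [hQx, ex]
    simp only [hadd, hadd', hsmul, hsmul', hsym e a, hsym f a, hsym f e, ae, af, hzero e he,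
      hzero f hf, ← hκ, hperp a a1 a2, AddMemClass.coe_add, MulMemClass.coe_mul]
    ring
  have hbil : ∀ u v, G u v = ((polar ⇑Qr u v : K) : F) * κ := by
    intro u v
    have e1 := hdiag (u + v)
    rw [hadd, hadd', hadd', hdiag u, hdiag v, hsym v u, QuadraticMap.map_add (⇑Qr)] at e1
    push_cast at e1
    refine mul_left_cancel₀ h2 ?_
    linear_combination e1
  -- the semilinear map acts by a scalar on the image
  have hμ : ∀ v, conjP q P (↟g *ᵥ ρ v) = κ ^ q • (↟g *ᵥ ρ v) := by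
    intro v
    rw [← sub_eq_zero]
    obtain ⟨y, hy⟩ : ∃ y, y = conjP q P (↟g *ᵥ ρ v) - κ ^ q • (↟g *ᵥ ρ v) := ⟨_, rfl⟩
    rw [← hy]
    have e0 : ↟g⁻¹ *ᵥ y = 0 := eq_zero_of_herm_ratVec hF hK P hP h2 fun u => by
      have e1 := apply_K hgK (ρ u) (↟g⁻¹ *ᵥ y)
      rw [mulVec_inv_mulVec] at e1
      rw [← e1, hy, h_sub_right hF, herm_smul_right hF, pow_q_pow_q hF, ← hGd, hbil, apply_K hgK,
        herm_ratVec hF hK P hP h2]
      ring
    have := congrArg (fun x => ↟g *ᵥ x) e0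
    simpa only [mulVec_inv_mulVec, mulVec_zero] using this
  obtain ⟨μ, hμd⟩ : ∃ μ, μ = κ ^ q := ⟨_, rfl⟩
  have hN : μ ^ q * μ = 1 := by
    have e1 := congrArg (conjP q P) (hμ e)
    obtain ⟨a, b, hab⟩ := exists_decomp hF hK P hP h2 hδ hδ0 (↟g *ᵥ ρ e)
    have hinv : conjP q P (conjP q P (↟g *ᵥ ρ e)) = ↟g *ᵥ ρ e := by
      rw [hab, hconj, sub_eq_add_neg, ← neg_smul, conjP_add hF hK, conjP_smul, conjP_ratVec hF hK,
        conjP_ratVec hF hK, q_neg hF, hδq, neg_neg]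
    rw [hinv, conjP_smul, hμ e, smul_smul, ← hμd] at e1
    have hne : ↟g *ᵥ ρ e ≠ 0 := fun e' => he0 (ratVec_eq_zero.mp (show ρ e = 0 by
      rw [← inv_mulVec_mulVec g (ρ e), e', mulVec_zero]))
    by_contra hne1
    exact hne (by
      have : (μ ^ q * μ - 1) • (↟g *ᵥ ρ e) = 0 := by rw [sub_smul, one_smul, ← e1, sub_self]
      exact (smul_eq_zero.mp this).resolve_left (sub_ne_zero.mpr hne1))
  obtain ⟨l, hl0, hl⟩ : ∃ l : F, l ≠ 0 ∧ l ^ q * μ = l := by
    by_cases h1 : 1 + μ = 0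
    · refine ⟨δ, hδ0, ?_⟩
      rw [hδq, eq_neg_of_add_eq_zero_right h1]; ring
    · refine ⟨1 + μ, h1, ?_⟩
      rw [q_add hF, one_pow]
      linear_combination hN
  refine mem_subfield_of_maps (inv_ne_zero hl0) fun v => ?_
  obtain ⟨a, b, hab⟩ := exists_decomp hF hK P hP h2 hδ hδ0 (l • (↟g *ᵥ ρ v))
  refine ⟨a, ?_⟩
  have e1 : conjP q P (l • (↟g *ᵥ ρ v)) = l • (↟g *ᵥ ρ v) := by
    rw [conjP_smul, hμ, smul_smul, ← hμd, hl]
  rw [hab, hconj] at e1
  have e3 : ((2 : F) * δ) • ρ b = 0 := by linear_combination (norm := module) -e1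
  rw [(smul_eq_zero.mp e3).resolve_left (mul_ne_zero h2 hδ0), smul_zero, add_zero] at hab
  rw [← hab, smul_smul, inv_mul_cancel₀ hl0, one_smul]

/-- Rational vectors orthogonal to four vectors spanning the space vanish. -/
theorem eq_zero_of_perp4 (hn : n = 4) {a b c d : Ks}
    (hab : polar ⇑Qr a a * polar ⇑Qr b b - polar ⇑Qr a b * polar ⇑Qr a b ≠ 0)
    (hcd : polar ⇑Qr c c * polar ⇑Qr d d - polar ⇑Qr c d * polar ⇑Qr c d ≠ 0)
    (hac : polar ⇑Qr a c = 0) (had : polar ⇑Qr a d = 0) (hbc : polar ⇑Qr b c = 0)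
    (hbd : polar ⇑Qr b d = 0) :
    (∀ x, polar ⇑Qr a x = 0 → polar ⇑Qr b x = 0 → polar ⇑Qr c x = 0 → polar ⇑Qr d x = 0 →
      x = 0) ∧
    ∀ r : Vs, h r (ρ a) = 0 → h r (ρ b) = 0 → h r (ρ c) = 0 → h r (ρ d) = 0 → r = 0 := by
  have hli : LinearIndependent K ![a, b, c, d] := by
    rw [Fintype.linearIndependent_iff]
    intro t ht
    simp [Fin.sum_univ_four] at ht
    have k1 := congrArg (fun x => polar ⇑Qr a x) ht
    have k2 := congrArg (fun x => polar ⇑Qr b x) ht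
    have k3 := congrArg (fun x => polar ⇑Qr c x) ht
    have k4 := congrArg (fun x => polar ⇑Qr d x) ht
    simp only [polar_add_right, polar_smul_right, polar_zero_right, smul_eq_mul,
      polar_comm (⇑Qr) b a, hac, had, mul_zero, add_zero] at k1 k2
    simp only [polar_add_right, polar_smul_right, polar_zero_right, smul_eq_mul,
      polar_comm (⇑Qr) c a, polar_comm (⇑Qr) c b, polar_comm (⇑Qr) d a, polar_comm (⇑Qr) d b,
      polar_comm (⇑Qr) d c, hac, had, hbc, hbd, mul_zero, zero_add, add_zero] at k3 k4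
    simp only [hbc, hbd, mul_zero, add_zero] at k2
    have t0 : t 0 = 0 := by
      refine mul_left_cancel₀ hab ?_
      linear_combination polar ⇑Qr b b * k1 - polar ⇑Qr a b * k2
    have t1 : t 1 = 0 := by
      refine mul_left_cancel₀ hab ?_
      linear_combination polar ⇑Qr a a * k2 - polar ⇑Qr a b * k1
    have t2 : t 2 = 0 := by
      refine mul_left_cancel₀ hcd ?_
      linear_combination polar ⇑Qr d d * k3 - polar ⇑Qr c d * k4
    have t3 : t 3 = 0 := by
      refine mul_left_cancel₀ hcd ?_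
      linear_combination polar ⇑Qr c c * k4 - polar ⇑Qr c d * k3
    intro i
    fin_cases i
    exacts [t0, t1, t2, t3]
  have htop := hli.span_eq_top_of_card_eq_finrank'
    (by rw [Module.finrank_fin_fun, Fintype.card_fin, hn])
  constructor
  · intro x ha hb hc hd
    refine FormMax.OrthSL.eq_zero_of_forall (ratQuad_nondegenerate hF hK P hP h2) fun v => ?_
    have hv : v ∈ Submodule.span K (Set.range ![a, b, c, d]) := htop ▸ Submodule.mem_top
    refine Submodule.span_induction (p := fun v _ => polar ⇑Qr x v = 0) ?_ ?_ ?_ ?_ hv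
    · rintro _ ⟨i, rfl⟩
      rw [polar_comm]
      fin_cases i
      exacts [ha, hb, hc, hd]
    · exact polar_zero_right _ _
    · intro u v _ _ hu hv
      rw [polar_add_right, hu, hv, add_zero]
    · intro t u _ hu
      rw [polar_smul_right, hu, smul_zero]
  · intro r ha hb hc hd
    refine eq_zero_of_herm_ratVec hF hK P hP h2 fun v => ?_
    have hv : v ∈ Submodule.span K (Set.range ![a, b, c, d]) := htop ▸ Submodule.mem_top
    refine Submodule.span_induction (p := fun v _ => h (ρ v) r = 0) ?_ ?_ ?_ ?_ hv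
    · rintro _ ⟨i, rfl⟩
      fin_cases i
      exacts [h_symm hF ha, h_symm hF hb, h_symm hF hc, h_symm hF hd]
    · rw [ratVec_zero, h_zero_left hF]
    · intro u v _ _ hu hv
      rw [ratVec_add, herm_add_left hF, hu, hv, add_zero]
    · intro t u _ hu
      rw [ratVec_smul, herm_smul_left hF, hu, mul_zero]

/-- A singular vector in the perp of a non-degenerate pair has a partner there. -/
theorem exists_pair_in_perp {a b x : Ks}
    (hab : polar ⇑Qr a a * polar ⇑Qr b b - polar ⇑Qr a b * polar ⇑Qr a b ≠ 0) (hx0 : x ≠ 0)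
    (hx : Qr x = 0) (hax : polar ⇑Qr a x = 0) (hbx : polar ⇑Qr b x = 0) :
    ∃ y, Qr y = 0 ∧ polar ⇑Qr x y = 1 ∧ polar ⇑Qr a y = 0 ∧ polar ⇑Qr b y = 0 := by
  have hli : LinearIndependent K ![a, b, x] := by
    rw [Fintype.linearIndependent_iff]
    intro t ht
    simp [Fin.sum_univ_three] at ht
    have k1 := congrArg (fun x => polar ⇑Qr a x) ht
    have k2 := congrArg (fun x => polar ⇑Qr b x) ht
    simp only [polar_add_right, polar_smul_right, polar_zero_right, smul_eq_mul,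
      polar_comm (⇑Qr) b a, hax, hbx, mul_zero, add_zero] at k1 k2
    have t0 : t 0 = 0 := by
      refine mul_left_cancel₀ hab ?_
      linear_combination polar ⇑Qr b b * k1 - polar ⇑Qr a b * k2
    have t1 : t 1 = 0 := by
      refine mul_left_cancel₀ hab ?_
      linear_combination polar ⇑Qr a a * k2 - polar ⇑Qr a b * k1
    rw [t0, t1, zero_smul, zero_smul, zero_add, zero_add] at ht
    intro i
    fin_cases i
    exacts [t0, t1, (smul_eq_zero.mp ht).resolve_right hx0]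
  obtain ⟨v, hv⟩ := exists_dual4 hF hK P hP h2 hli ![0, 0, 1]
  have v1 : polar ⇑Qr a v = 0 := hv 0
  have v2 : polar ⇑Qr b v = 0 := hv 1
  have v3 : polar ⇑Qr x v = 1 := hv 2
  refine ⟨v + (-(Qr v)) • x, ?_, ?_, ?_, ?_⟩
  · rw [QuadraticMap.map_add (⇑Qr), QuadraticMap.map_smul, polar_smul_right, hx, polar_comm _ v x,
      v3]
    simp
  · rw [polar_add_right, polar_smul_right, v3, Orth.polar_self_zero hx]; simp
  · rw [polar_add_right, polar_smul_right, v1, hax]; simp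
  · rw [polar_add_right, polar_smul_right, v2, hbx]; simp

variable {H : Subgroup (GL (Fin n) F)} (hΩ : Cfsg.Geo.subfieldSubgroup K P ⊓ suGL n F q ≤ H)
  (hH : H ≤ suGL n F q) (hn : n = 4) (hq : 5 ≤ q)
include hΩ hH hn hq

/-- An image with anisotropic rational perp suffices. -/
theorem eq_of_bad {g : GLs} (hg : g ∈ H) {u : Ks} (hu0 : u ≠ 0) (hu : Qr u = 0) {z : Vs}
    (hz : z = ↟g *ᵥ ρ u) {z₁ z₂ : Ks} (hdec : z = ρ z₁ + δ • ρ z₂)
    (hG : ¬(polar ⇑Qr z₂ z₂ = 0 ∧ polar ⇑Qr z₁ z₂ = 0))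
    (han : ∀ v, polar ⇑Qr z₁ v = 0 → polar ⇑Qr z₂ v = 0 → Qr v = 0 → v = 0) :
    H = suGL n F q := by
  classical
  have : Fintype K := Fintype.ofFinite K
  have hQ := ratQuad_nondegenerate hF hK P hP h2
  have h2K := two_ne_K hF hK P hP h2
  have hcard : Fintype.card (Fin n) = 4 := by rw [Fintype.card_fin, hn]
  have hδq : δ ^ q = -δ := eq_neg_of_add_eq_zero_right hδ
  have hzz : h z z = 0 := by
    rw [hz, apply_K (hH hg)]; exact herm_ratVec_zero hF hK P hP h2 hu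
  have h11 := gram hF hK P hP h2 hδ hδ0 hε hdec hzz
  have hdet : polar ⇑Qr z₁ z₁ * polar ⇑Qr z₂ z₂ - polar ⇑Qr z₁ z₂ * polar ⇑Qr z₁ z₂ ≠ 0 := by
    rw [h11]; exact gram_det hF hK P hP h2 hδ hδ0 hε hG
  have hperp : ∀ x : Ks, polar ⇑Qr z₁ x = 0 → polar ⇑Qr z₂ x = 0 → h z (ρ x) = 0 := by
    intro x h1 h3
    rw [hdec, herm_add_left hF, herm_smul_left hF, herm_ratVec hF hK P hP h2,
      herm_ratVec hF hK P hP h2, h1, h3]
    simp
  -- the plane
  obtain ⟨e₁, he₁0, he₁⟩ := Quad.exists_perp_ne (Q := Qr) ![z₁, z₂] (by omega)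
  have e11 : polar ⇑Qr z₁ e₁ = 0 := he₁ 0
  have e12 : polar ⇑Qr z₂ e₁ = 0 := he₁ 1
  obtain ⟨e₂, he₂0, he₂⟩ := Quad.exists_perp_ne (Q := Qr) ![z₁, z₂, e₁] (by omega)
  have e21 : polar ⇑Qr z₁ e₂ = 0 := he₂ 0
  have e22 : polar ⇑Qr z₂ e₂ = 0 := he₂ 1
  have e23 : polar ⇑Qr e₁ e₂ = 0 := he₂ 2
  obtain ⟨hk₁, hk₂, hρns⟩ := plane_nonsq h2K han e11 e12 e21 e22 he₁0 he₂0 e23
  obtain ⟨k₁, hk₁d⟩ : ∃ k, k = Qr e₁ := ⟨_, rfl⟩
  obtain ⟨k₂, hk₂d⟩ : ∃ k, k = Qr e₂ := ⟨_, rfl⟩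
  rw [← hk₁d] at hk₁ hρns
  rw [← hk₂d] at hk₂ hρns
  have p11 : polar ⇑Qr e₁ e₁ = 2 * k₁ := by rw [Orth.polar_self_eq, hk₁d]
  have p22 : polar ⇑Qr e₂ e₂ = 2 * k₂ := by rw [Orth.polar_self_eq, hk₂d]
  have p21 : polar ⇑Qr e₂ e₁ = 0 := by rw [polar_comm, e23]
  have hedet : polar ⇑Qr e₁ e₁ * polar ⇑Qr e₂ e₂ - polar ⇑Qr e₁ e₂ * polar ⇑Qr e₁ e₂ ≠ 0 := by
    rw [p11, p22, e23, mul_zero, sub_zero]
    exact mul_ne_zero (mul_ne_zero h2K hk₁) (mul_ne_zero h2K hk₂)
  obtain ⟨hzero, hzeroF⟩ := eq_zero_of_perp4 hF hK P hP h2 hδ hδ0 hε hn hdet hedet e11 e21 e12 e22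
  have hQb : ∀ t : K, k₁ + t * t * k₂ ≠ 0 := by
    intro t ht
    by_cases ht0 : t = 0
    · exact hk₁ (by simpa [ht0] using ht)
    · exact hρns ⟨t⁻¹, by field_simp; linear_combination -ht⟩
  have k1F : (k₁ : F) ≠ 0 := fun e => hk₁ (Subtype.ext e)
  -- the rotations
  have hR : ∀ t : K, ∃ R ∈ Ω, ↟R *ᵥ z = z ∧ ∀ a : Vs, ↟R *ᵥ a = a +
      ((((k₁ + t * t * k₂)⁻¹ - k₁⁻¹ : K) : F) * h a (ρ e₁) +
        ((t / (k₁ + t * t * k₂) : K) : F) * h a (ρ e₂)) • ρ e₁ +
      (-((t / (k₁ + t * t * k₂) : K) : F) * h a (ρ e₁) +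
        -((t * t / (k₁ + t * t * k₂) : K) : F) * h a (ρ e₂)) • ρ e₂ := by
    intro t
    have hb : Qr (e₁ + t • e₂) = k₁ + t * t * k₂ := by
      rw [QuadraticMap.map_add (⇑Qr), QuadraticMap.map_smul, polar_smul_right, e23, hk₁d, hk₂d]
      simp only [smul_eq_mul]; ring
    obtain ⟨A, hA, hiso, hAy⟩ := Quad.exists_reflPair h2K (Q := Qr) (a := e₁) (b := e₁ + t • e₂)
      (by rw [← hk₁d]; exact hk₁) (by rw [hb]; exact hQb t)
    obtain ⟨R, hRΩ, hRm⟩ := exists_lift hF hK P hP h2 hA hiso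
    refine ⟨R, hRΩ, ?_, fun a => ?_⟩
    · have hfix : ∀ y, polar ⇑Qr e₁ y = 0 → polar ⇑Qr e₂ y = 0 → ↟R *ᵥ ρ y = ρ y := by
        intro y y1 y2
        rw [hRm, hAy, polar_add_left, polar_smul_left, y1, y2, polar_sub_right, polar_smul_right, y1]
        simp
      rw [hdec, mulVec_add, mulVec_smul,
        hfix z₁ (by rw [polar_comm]; exact e11) (by rw [polar_comm]; exact e21),
        hfix z₂ (by rw [polar_comm]; exact e12) (by rw [polar_comm]; exact e22)]
    · have e : Matrix.mulVecLin ↟R = LinearMap.id +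
          (((((k₁ + t * t * k₂)⁻¹ - k₁⁻¹ : K) : F)) • hLin hF (ρ e₁) +
            ((t / (k₁ + t * t * k₂) : K) : F) • hLin hF (ρ e₂)).smulRight (ρ e₁) +
          ((-((t / (k₁ + t * t * k₂) : K) : F)) • hLin hF (ρ e₁) +
            (-((t * t / (k₁ + t * t * k₂) : K) : F)) • hLin hF (ρ e₂)).smulRight (ρ e₂) :=
        ext_ratVec (K := K) (P := P) fun y => by
          simp only [Matrix.mulVecLin_apply, LinearMap.add_apply, LinearMap.id_apply,
            LinearMap.smulRight_apply, LinearMap.smul_apply, hLin_apply, smul_eq_mul]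
          have hA' : ((A : Matrix (Fin n) (Fin n) K)) *ᵥ y = y +
              (((k₁ + t * t * k₂)⁻¹ - k₁⁻¹) * polar ⇑Qr y e₁ +
                t / (k₁ + t * t * k₂) * polar ⇑Qr y e₂) • e₁ +
              (-(t / (k₁ + t * t * k₂)) * polar ⇑Qr y e₁ +
                -(t * t / (k₁ + t * t * k₂)) * polar ⇑Qr y e₂) • e₂ := by
            rw [hAy, hb, polar_sub_right, polar_smul_right, polar_add_left, polar_smul_left,
              polar_add_right, polar_smul_right, p11, e23, ← hk₁d, polar_comm _ y e₁,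
              polar_comm _ y e₂]
            simp only [smul_eq_mul]
            have := hQb t
            match_scalars <;> field_simp <;> ring
          rw [hRm, hA', ratVec_add, ratVec_add, ratVec_smul, ratVec_smul,
            herm_ratVec hF hK P hP h2, herm_ratVec hF hK P hP h2]
          push_cast
          ring_nf
      have := LinearMap.congr_fun e a
      simpa [hLin_apply] using this
  -- decomposition of vectors orthogonal to `z`
  have hsplit : ∀ a : Vs, h a z = 0 → ∃ c : F, a = (h a (ρ e₁) / (2 * (k₁ : F))) • ρ e₁ +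
      (h a (ρ e₂) / (2 * (k₂ : F))) • ρ e₂ + c • z := by
    intro a haz
    have hz₂ : h z (ρ z₂) ≠ 0 := by
      intro e
      rw [hdec, herm_add_left hF, herm_smul_left hF, herm_ratVec hF hK P hP h2,
        herm_ratVec hF hK P hP h2] at e
      obtain ⟨e1, e2⟩ := coord_zero hF hK h2 hδ hδ0 e
      exact hG ⟨e2, e1⟩
    have k2F : (k₂ : F) ≠ 0 := fun e => hk₂ (Subtype.ext e)
    refine ⟨(h a (ρ z₂)) / h z (ρ z₂), ?_⟩
    obtain ⟨r, hr⟩ : ∃ r, r = a - (h a (ρ e₁) / (2 * (k₁ : F))) • ρ e₁ -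
      (h a (ρ e₂) / (2 * (k₂ : F))) • ρ e₂ - ((h a (ρ z₂)) / h z (ρ z₂)) • z := ⟨_, rfl⟩
    have p11F : h (ρ e₁) (ρ e₁) = 2 * (k₁ : F) := by
      rw [herm_ratVec_self hF hK P hP h2, hk₁d]
    have p22F : h (ρ e₂) (ρ e₂) = 2 * (k₂ : F) := by
      rw [herm_ratVec_self hF hK P hP h2, hk₂d]
    have q12 : h (ρ e₁) (ρ e₂) = 0 := herm_ratVec_perp hF hK P hP h2 e23
    have z1 := hperp e₁ e11 e12
    have z2 := hperp e₂ e21 e22
    have y1 : ∀ e : Ks, polar ⇑Qr z₁ e = 0 → polar ⇑Qr z₂ e = 0 → h (ρ e) (ρ z₂) = 0 :=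
      fun e _ h3 => herm_ratVec_perp hF hK P hP h2 (by rw [polar_comm]; exact h3)
    have r1 : h r (ρ e₁) = 0 := by
      rw [hr, h_sub_left hF, h_sub_left hF, h_sub_left hF, herm_smul_left hF, herm_smul_left hF,
        herm_smul_left hF, p11F, h_symm hF q12, z1]
      field_simp; ring
    have r2 : h r (ρ e₂) = 0 := by
      rw [hr, h_sub_left hF, h_sub_left hF, h_sub_left hF, herm_smul_left hF, herm_smul_left hF,
        herm_smul_left hF, p22F, q12, z2]
      field_simp; ring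
    have r3 : h r (ρ z₂) = 0 := by
      rw [hr, h_sub_left hF, h_sub_left hF, h_sub_left hF, herm_smul_left hF, herm_smul_left hF,
        herm_smul_left hF, y1 e₁ e11 e12, y1 e₂ e21 e22]
      field_simp; ring
    have r4 : h r (ρ z₁) = 0 := by
      have e0 : h r z = 0 := by
        rw [hr, h_sub_left hF, h_sub_left hF, h_sub_left hF, herm_smul_left hF, herm_smul_left hF,
          herm_smul_left hF, haz, h_symm hF z1, h_symm hF z2, hzz]
        ring
      rw [hdec, herm_add_right hF, herm_smul_right hF, r3, mul_zero, add_zero] at e0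
      exact e0
    have hr0 := hzeroF r r4 r3 r1 r2
    rw [hr, sub_sub, sub_sub, sub_eq_zero] at hr0
    linear_combination (norm := module) hr0
  -- conjugating Eichler elements by `g`
  have hgE : ∀ y, polar ⇑Qr u y = 0 →
      ∃ ha : h (↟g *ᵥ ρ y) z = 0, E hF z (↟g *ᵥ ρ y) hzz ha ∈ H := by
    intro y huy
    obtain ⟨hu', hy', hmem, -⟩ := E_ratVec_mem hF hK P hP h2 hu huy
    subst hz
    refine ⟨by rw [apply_K (hH hg)]; exact hy', ?_⟩
    rw [← conj_E hF h2 (hH hg) hu' hy']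
    exact H.mul_mem (H.mul_mem hg (hΩ hmem)) (H.inv_mem hg)
  have hRE : ∀ (R : GLs), R ∈ Ω → ∀ (p a : Vs) (hp : h p p = 0) (ha : h a p = 0),
      E hF p a hp ha ∈ H → ↟R *ᵥ p = p →
      ∃ ha' : h (↟R *ᵥ a) p = 0, E hF p (↟R *ᵥ a) hp ha' ∈ H := by
    intro R hRΩ p a hp ha hmem hRp
    have ha' : h (↟R *ᵥ a) p = 0 := by
      have e := apply_K hRΩ.2 a p
      rw [hRp, ha] at e
      exact e
    refine ⟨ha', ?_⟩
    have e := conj_E hF h2 hRΩ.2 hp ha
    have e' : E hF p (↟R *ᵥ a) hp ha' = R * E hF p a hp ha * R⁻¹ := by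
      rw [e]; congr 1; exact hRp.symm
    rw [e']
    exact H.mul_mem (H.mul_mem (hΩ hRΩ) hmem) (H.inv_mem (hΩ hRΩ))
  obtain ⟨R, hRΩ, hRz, hRa⟩ := hR 1
  obtain ⟨Qb, hQbd⟩ : ∃ x, x = k₁ + 1 * 1 * k₂ := ⟨_, rfl⟩
  rw [← hQbd] at hRa
  have hQb0 : Qb ≠ 0 := hQbd ▸ hQb 1
  have hQbF : (Qb : F) ≠ 0 := fun e => hQb0 (Subtype.ext e)
  have hQbq : (Qb : F) ^ q = Qb := (fixed_iff hK _).mpr Qb.2
  have hk1q : (k₁ : F) ^ q = k₁ := (fixed_iff hK _).mpr k₁.2
  simp only [push_cast, one_mul, one_div] at hRa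
  -- either a transvection or all images are real
  by_cases hall : ∀ y, polar ⇑Qr u y = 0 →
      h (↟g *ᵥ ρ y) (ρ e₂) * h (↟g *ᵥ ρ y) (ρ e₁) ^ q =
        h (↟g *ᵥ ρ y) (ρ e₁) * h (↟g *ᵥ ρ y) (ρ e₂) ^ q
  swap
  · push Not at hall
    obtain ⟨y, huy, hne⟩ := hall
    obtain ⟨haz, hX⟩ := hgE y huy
    obtain ⟨a, ha⟩ : ∃ a, a = ↟g *ᵥ ρ y := ⟨_, rfl⟩
    obtain ⟨haz', hX'⟩ := hRE R hRΩ z _ hzz haz hX hRz
    obtain ⟨c, hc⟩ : ∃ c, c = h (↟g *ᵥ ρ y) (↟R *ᵥ (↟g *ᵥ ρ y)) -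
        h (↟R *ᵥ (↟g *ᵥ ρ y)) (↟g *ᵥ ρ y) := ⟨_, rfl⟩
    have hT : T z c hzz ∈ H := by
      have e : E hF z _ hzz haz * E hF z _ hzz haz' *
          (E hF z _ hzz haz' * E hF z _ hzz haz)⁻¹ = T z c hzz := by
        rw [mul_inv_eq_iff_eq_mul]
        refine gl_ext fun x => ?_
        simp only [UnitaryOrth.gl_mulVec, E_mulVec hF h2, T_mulVec, hc, herm_add_left hF,
          herm_smul_left hF, hzz, haz, haz', h_symm hF haz, h_symm hF haz']
        module
      rw [← e]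
      exact H.mul_mem (H.mul_mem hX hX') (H.inv_mem (H.mul_mem hX' hX))
    have hcs : c + c ^ q = 0 := by
      rw [hc, q_sub hF, herm_conj hF, herm_conj hF]; ring
    have hc0 : c ≠ 0 := by
      rw [hc, ← ha, hRa]
      rw [← ha] at hne
      simp only [herm_add_left hF, herm_add_right hF, herm_smul_left hF, herm_smul_right hF,
        q_add hF, q_sub hF, mul_pow, q_neg hF, inv_pow, hQbq, hk1q, herm_conj hF]
      have e1 : h (ρ e₁) a = h a (ρ e₁) ^ q := (herm_conj hF a (ρ e₁)).symm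
      have e2 : h (ρ e₂) a = h a (ρ e₂) ^ q := (herm_conj hF a (ρ e₂)).symm
      rw [e1, e2]
      intro e
      apply hne
      have h4 : (2 : F) * (h a (ρ e₂) * h a (ρ e₁) ^ q - h a (ρ e₁) * h a (ρ e₂) ^ q) = 0 := by
        field_simp at e
        refine mul_left_cancel₀ k1F ?_
        linear_combination -e
      exact sub_eq_zero.mp ((mul_eq_zero.mp h4).resolve_left h2)
    exact eq_of_transvection hF hK P hP h2 hδ hδ0 hε hΩ hH hn hq hdec hzz hG han hcs hc0 hT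
  -- rational ratio of the coordinates
  have hratio : ∀ a : Vs, h a (ρ e₂) * h a (ρ e₁) ^ q = h a (ρ e₁) * h a (ρ e₂) ^ q →
      h a (ρ e₁) ≠ 0 → ∃ τ : K, h a (ρ e₂) = (τ : F) * h a (ρ e₁) := by
    intro a e hne
    refine ⟨⟨h a (ρ e₂) / h a (ρ e₁), (fixed_iff hK _).mp ?_⟩, ?_⟩
    · rw [div_pow, div_eq_div_iff (pow_ne_zero _ hne) hne]
      linear_combination -e
    · show _ = h a (ρ e₂) / h a (ρ e₁) * _
      rw [div_mul_cancel₀ _ hne]
  have hAzero : ∀ y, polar ⇑Qr u y = 0 → h (↟g *ᵥ ρ y) (ρ e₁) = 0 →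
      h (↟g *ᵥ ρ y) (ρ e₂) = 0 → ∃ c : K, y = c • u := by
    intro y huy a1 a2
    obtain ⟨haz, -⟩ := hgE y huy
    obtain ⟨c, hc⟩ := hsplit _ haz
    rw [a1, a2, zero_div, zero_div, zero_smul, zero_smul, zero_add, zero_add, hz, ← mulVec_smul] at hc
    have hρ : ρ y = c • ρ u := by
      rw [← inv_mulVec_mulVec g (ρ y), hc, inv_mulVec_mulVec]
    obtain ⟨t, ht⟩ := FormMax.OrthSL.exists_dual_one hQ hu0
    refine ⟨polar ⇑Qr y t, ratVec_injective (K := K) (P := P) ?_⟩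
    have e := congrArg (fun x => h x (ρ t)) hρ
    simp only [herm_smul_left hF, herm_ratVec hF hK P hP h2, ht] at e
    rw [ratVec_smul, hρ, e]
    simp
  -- the span of the coordinates has a singular vector
  obtain ⟨x, hx0, hx, hx1, hx2⟩ : ∃ x, x ≠ 0 ∧ Qr x = 0 ∧ polar ⇑Qr e₁ x = 0 ∧
      polar ⇑Qr e₂ x = 0 := by
    by_contra hno
    push Not at hno
    have hanW : ∀ v, polar ⇑Qr e₁ v = 0 → polar ⇑Qr e₂ v = 0 → Qr v = 0 → v = 0 := by
      intro v v1 v2 hv
      by_contra hv0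
      exact hno v hv0 hv v1 v2
    have hPi : ∀ o v, polar ⇑Qr e₁ o = 0 → polar ⇑Qr e₂ o = 0 → polar ⇑Qr z₁ v = 0 →
        polar ⇑Qr z₂ v = 0 → polar ⇑Qr o v = 0 := by
      intro o v o1 o2 v1 v2
      have e : v - (polar ⇑Qr e₁ v / (2 * k₁)) • e₁ - (polar ⇑Qr e₂ v / (2 * k₂)) • e₂ = 0 := by
        refine hzero _ ?_ ?_ ?_ ?_
        · simp [polar_sub_right, polar_smul_right, v1, e11, e21]
        · simp [polar_sub_right, polar_smul_right, v2, e12, e22]
        · simp only [polar_sub_right, polar_smul_right, p11, e23, smul_eq_mul]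
          field_simp; ring
        · simp only [polar_sub_right, polar_smul_right, p22, p21, smul_eq_mul]
          field_simp; ring
      rw [sub_sub, sub_eq_zero] at e
      rw [e, polar_add_right, polar_smul_right, polar_smul_right, polar_comm _ o e₁,
        polar_comm _ o e₂, o1, o2]
      simp
    obtain ⟨f, hf⟩ : ∃ f, f = (polar ⇑Qr e₁ u / (2 * k₁)) • e₁ +
      (polar ⇑Qr e₂ u / (2 * k₂)) • e₂ := ⟨_, rfl⟩
    obtain ⟨o, ho⟩ : ∃ o, o = u - f := ⟨_, rfl⟩
    have o1 : polar ⇑Qr e₁ o = 0 := by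
      rw [ho, hf]
      simp only [polar_sub_right, polar_add_right, polar_smul_right, p11, e23, smul_eq_mul]
      field_simp; ring
    have o2 : polar ⇑Qr e₂ o = 0 := by
      rw [ho, hf]
      simp only [polar_sub_right, polar_add_right, polar_smul_right, p22, p21, smul_eq_mul]
      field_simp; ring
    have f1 : polar ⇑Qr z₁ f = 0 := by
      rw [hf]; simp [polar_add_right, polar_smul_right, e11, e21]
    have f2 : polar ⇑Qr z₂ f = 0 := by
      rw [hf]; simp [polar_add_right, polar_smul_right, e12, e22]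
    have hof : polar ⇑Qr o f = 0 := hPi o f o1 o2 f1 f2
    have huo : u = o + f := by rw [ho]; abel
    have hQsum : Qr o + Qr f = 0 := by
      have := hu
      rw [huo, QuadraticMap.map_add (⇑Qr), hof, add_zero] at this
      exact this
    have hf0 : f ≠ 0 := fun e => by
      rw [e, add_zero] at huo
      exact hu0 (hanW u (huo ▸ o1) (huo ▸ o2) hu)
    have ho0 : o ≠ 0 := fun e => by
      rw [e, zero_add] at huo
      exact hu0 (han u (huo ▸ f1) (huo ▸ f2) hu)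
    obtain ⟨o', ho'0, ho'⟩ := Quad.exists_perp_ne (Q := Qr) ![e₁, e₂, o] (by omega)
    obtain ⟨f', hf'0, hf'⟩ := Quad.exists_perp_ne (Q := Qr) ![z₁, z₂, f] (by omega)
    have oo : polar ⇑Qr o o' = 0 := ho' 2
    have ff : polar ⇑Qr f f' = 0 := hf' 2
    obtain ⟨hQo, hQo', hons⟩ := plane_nonsq h2K hanW o1 o2 (ho' 0) (ho' 1) ho0 ho'0 oo
    obtain ⟨hQf, hQf', hfns⟩ := plane_nonsq h2K han f1 f2 (hf' 0) (hf' 1) hf0 hf'0 ff
    obtain ⟨t, ht⟩ := isSquare_mul_of_nonsq h2K hons hfns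
    have hQo_eq : Qr o = -(Qr f) := eq_neg_of_add_eq_zero_left hQsum
    rw [hQo_eq] at ht
    obtain ⟨s, hs⟩ : ∃ s, s = t * Qr f / Qr f' := ⟨_, rfl⟩
    have hoy : polar ⇑Qr o' f' = 0 := hPi o' f' (ho' 0) (ho' 1) (hf' 0) (hf' 1)
    have hof' : polar ⇑Qr o f' = 0 := hPi o f' o1 o2 (hf' 0) (hf' 1)
    have ho'f : polar ⇑Qr o' f = 0 := hPi o' f (ho' 0) (ho' 1) f1 f2
    obtain ⟨y, hy⟩ : ∃ y, y = o' + s • f' := ⟨_, rfl⟩
    have hyQ : Qr y = 0 := by
      rw [hy, QuadraticMap.map_add (⇑Qr), QuadraticMap.map_smul, polar_smul_right, hoy, hs]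
      simp only [smul_eq_mul]
      field_simp at ht ⊢
      linear_combination -ht
    have huy : polar ⇑Qr u y = 0 := by
      rw [huo, hy, polar_add_left, polar_add_right, polar_add_right, polar_smul_right,
        polar_smul_right, oo, hof', polar_comm _ f o', ho'f, ff]
      simp
    have hny : ∀ c : K, y ≠ c • u := by
      intro c e
      have e1 := congrArg (fun v => polar ⇑Qr v o) e
      simp only [hy, huo, polar_add_left, polar_smul_left, polar_comm (⇑Qr) o' o, oo,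
        polar_comm (⇑Qr) f' o, hof', polar_comm (⇑Qr) f o, hof, Orth.polar_self_eq, smul_eq_mul,
        mul_zero, add_zero] at e1
      have hc : c = 0 := by simpa [h2K, hQo] using e1.symm
      rw [hc, zero_smul, hy] at e
      have e3 := congrArg (fun v => polar ⇑Qr o' v) e
      simp only [polar_add_right, polar_smul_right, hoy, Orth.polar_self_eq, polar_zero_right,
        smul_zero, add_zero] at e3
      exact mul_ne_zero h2K hQo' e3
    obtain ⟨haz, -⟩ := hgE y huy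
    obtain ⟨c, hc⟩ := hsplit _ haz
    have haa : h (↟g *ᵥ ρ y) (↟g *ᵥ ρ y) = 0 := by
      rw [apply_K (hH hg)]; exact herm_ratVec_zero hF hK P hP h2 hyQ
    have hk2q : (k₂ : F) ^ q = k₂ := (fixed_iff hK _).mpr k₂.2
    have h2q : (2 : F) ^ q = 2 := by rw [← qPowHom_apply hF, map_ofNat]
    obtain ⟨a, ha⟩ : ∃ a, a = ↟g *ᵥ ρ y := ⟨_, rfl⟩
    rw [← ha] at haa hc haz
    have e9 := congrArg (fun X => h X a) hc
    simp only [haa, herm_add_left hF, herm_smul_left hF, h_symm hF haz, mul_zero, add_zero] at e9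
    replace haa := e9.symm
    rw [← herm_conj hF a (ρ e₁), ← herm_conj hF a (ρ e₂)] at haa
    have k2F : (k₂ : F) ≠ 0 := fun e => hk₂ (Subtype.ext e)
    by_cases hA1 : h a (ρ e₁) = 0
    · have hA2 : h a (ρ e₂) = 0 := by
        rw [hA1, zero_div, zero_mul, zero_add] at haa
        simpa [k2F, h2, q_ne_zero hF] using haa
      obtain ⟨c', hc'⟩ := hAzero y huy (ha ▸ hA1) (ha ▸ hA2)
      exact hny c' hc'
    · obtain ⟨τ, hτ⟩ := hratio a (ha ▸ hall y huy) hA1
      rw [hτ, mul_pow, (fixed_iff hK _).mpr τ.2] at haa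
      field_simp at haa
      have e5 : k₂ + τ * τ * k₁ = 0 := Subtype.ext (by
        push_cast
        refine mul_left_cancel₀ (mul_ne_zero hA1 (pow_ne_zero q hA1)) ?_
        rw [mul_zero]
        linear_combination haa)
      exact hρns ⟨τ, by field_simp; linear_combination -e5⟩
  obtain ⟨y, hy, hxy, hy1, hy2⟩ := exists_pair_in_perp hF hK P hP h2 hδ hδ0 hε hedet hx0 hx hx1 hx2
  -- the coordinates lie in the hyperbolic line
  have hexp : ∀ v, polar ⇑Qr e₁ v = 0 → polar ⇑Qr e₂ v = 0 →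
      v = polar ⇑Qr y v • x + polar ⇑Qr x v • y := by
    intro v v1 v2
    have hpdet : polar ⇑Qr x x * polar ⇑Qr y y - polar ⇑Qr x y * polar ⇑Qr x y ≠ 0 := by
      rw [Orth.polar_self_zero hx, hxy]; simp
    obtain ⟨hz4, -⟩ := eq_zero_of_perp4 hF hK P hP h2 hδ hδ0 hε hn hpdet hedet
      (by rw [polar_comm]; exact hx1) (by rw [polar_comm]; exact hx2)
      (by rw [polar_comm]; exact hy1) (by rw [polar_comm]; exact hy2)
    refine eq_of_sub_eq_zero (hz4 _ ?_ ?_ ?_ ?_)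
    · simp [polar_sub_right, polar_add_right, polar_smul_right, Orth.polar_self_zero hx, hxy]
    · simp [polar_sub_right, polar_add_right, polar_smul_right, Orth.polar_self_zero hy,
        polar_comm (⇑Qr) y x, hxy]
    · simp [polar_sub_right, polar_add_right, polar_smul_right, v1, hx1, hy1]
    · simp [polar_sub_right, polar_add_right, polar_smul_right, v2, hx2, hy2]
  have hz1x := hexp z₁ (by rw [polar_comm]; exact e11) (by rw [polar_comm]; exact e21)
  have hz2x := hexp z₂ (by rw [polar_comm]; exact e12) (by rw [polar_comm]; exact e22)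
  have hanxy : ∀ v, polar ⇑Qr x v = 0 → polar ⇑Qr y v = 0 → Qr v = 0 → v = 0 := by
    intro v v1 v2 hv
    refine han v ?_ ?_ hv
    · rw [hz1x, polar_add_left, polar_smul_left, polar_smul_left, v1, v2]; simp
    · rw [hz2x, polar_add_left, polar_smul_left, polar_smul_left, v1, v2]; simp
  -- a rational direction
  obtain ⟨t, ht⟩ := FormMax.OrthSL.exists_dual_one hQ hu0
  obtain ⟨y₀, hy₀0, hy₀⟩ := Quad.exists_perp_ne (Q := Qr) ![u, t] (by omega)
  have huy₀ : polar ⇑Qr u y₀ = 0 := hy₀ 0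
  have hA0 : ¬(h (↟g *ᵥ ρ y₀) (ρ e₁) = 0 ∧ h (↟g *ᵥ ρ y₀) (ρ e₂) = 0) := by
    rintro ⟨a1, a2⟩
    obtain ⟨c, hc⟩ := hAzero y₀ huy₀ a1 a2
    have e : polar ⇑Qr t y₀ = 0 := hy₀ 1
    rw [hc, polar_smul_right, polar_comm, ht, smul_eq_mul, mul_one] at e
    rw [e, zero_smul] at hc
    exact hy₀0 hc
  obtain ⟨haz, hX⟩ := hgE y₀ huy₀
  obtain ⟨a, ha⟩ : ∃ a, a = ↟g *ᵥ ρ y₀ := ⟨_, rfl⟩
  revert haz hX
  rw [← ha]
  intro haz hX
  have hal := hall y₀ huy₀
  have haa : h a a ^ q = h a a := herm_conj hF a a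
  obtain ⟨l, r₁, r₂, hl0, hr0, hA1, hA2⟩ : ∃ (l : F) (r₁ r₂ : K), l ≠ 0 ∧ ¬(r₁ = 0 ∧ r₂ = 0) ∧
      h a (ρ e₁) = l * (r₁ : F) ∧ h a (ρ e₂) = l * (r₂ : F) := by
    by_cases h1 : h a (ρ e₁) = 0
    · refine ⟨h a (ρ e₂), 0, 1, fun e => hA0 (ha ▸ ⟨h1, e⟩), fun e => one_ne_zero e.2, ?_, ?_⟩ <;>
        simp [h1]
    · obtain ⟨τ, hτ⟩ := hratio a (ha ▸ hal) h1
      exact ⟨h a (ρ e₁), 1, τ, h1, fun e => one_ne_zero e.1, by simp, by rw [hτ]; ring⟩
  obtain ⟨e, he⟩ : ∃ e, e = ((Qb⁻¹ - k₁⁻¹) * r₁ + Qb⁻¹ * r₂) • e₁ +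
      (-Qb⁻¹ * r₁ + -Qb⁻¹ * r₂) • e₂ := ⟨_, rfl⟩
  have hRdiff : ↟R *ᵥ a = a + l • ρ e := by
    rw [hRa, hA1, hA2, he]
    simp only [ratVec_add, ratVec_smul]
    push_cast
    module
  obtain ⟨p, hp⟩ : ∃ p, p = l ^ q • z := ⟨_, rfl⟩
  have hpp : h p p = 0 := by
    rw [hp, herm_smul_left hF, herm_smul_right hF, hzz, mul_zero, mul_zero]
  have he1 : polar ⇑Qr z₁ e = 0 := by
    rw [he]; simp [polar_add_right, polar_smul_right, e11, e21]
  have he2 : polar ⇑Qr z₂ e = 0 := by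
    rw [he]; simp [polar_add_right, polar_smul_right, e12, e22]
  have hρep : h (ρ e) p = 0 := by
    rw [hp, herm_smul_right hF, h_symm hF (hperp e he1 he2), mul_zero]
  let S : Ks → Prop := fun v => ∃ hv : h (ρ v) p = 0, E hF p (ρ v) hpp hv ∈ H
  have hSe : S e := by
    refine ⟨hρep, ?_⟩
    obtain ⟨haz', hX'⟩ := hRE R hRΩ z a hzz haz hX hRz
    have hd : h (l • ρ e) z = 0 := by
      rw [herm_smul_left hF, h_symm hF (hperp e he1 he2), mul_zero]
    have hconv : E hF p (ρ e) hpp hρep = E hF z (l • ρ e) hzz hd := by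
      subst hp
      rw [E_smul_left hF h2 (l ^ q) hzz hpp hρep (by rw [pow_q_pow_q hF]; exact hd)]
      congr 1
      rw [pow_q_pow_q hF]
    have hsum : E hF z a hzz haz * E hF z (l • ρ e) hzz hd =
        E hF z (↟R *ᵥ a) hzz haz' := by
      have hreal : h (l • ρ e) a = h a (l • ρ e) := by
        have e1 : h a (l • ρ e) ^ q = h a (l • ρ e) := by
          rw [herm_smul_right hF, he, ratVec_add, ratVec_smul, ratVec_smul, herm_add_right hF,
            herm_smul_right hF, herm_smul_right hF, hA1, hA2, (fixed_iff hK _).mpr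
            ((Qb⁻¹ - k₁⁻¹) * r₁ + Qb⁻¹ * r₂ : K).2, (fixed_iff hK _).mpr
            (-Qb⁻¹ * r₁ + -Qb⁻¹ * r₂ : K).2]
          rw [mul_pow, q_add hF, mul_pow, mul_pow, mul_pow, mul_pow, (fixed_iff hK _).mpr r₁.2,
            (fixed_iff hK _).mpr r₂.2, (fixed_iff hK _).mpr
            ((Qb⁻¹ - k₁⁻¹) * r₁ + Qb⁻¹ * r₂ : K).2, (fixed_iff hK _).mpr
            (-Qb⁻¹ * r₁ + -Qb⁻¹ * r₂ : K).2, pow_q_pow_q hF]
          ring
        rw [← herm_conj hF a (l • ρ e), e1]
      refine gl_ext fun x => ?_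
      rw [UnitaryOrth.gl_mulVec, E_mulVec hF h2, E_mulVec hF h2, E_mulVec hF h2, hRdiff]
      generalize l • ρ e = d at hd hreal ⊢
      simp only [half, herm_add_left hF, herm_add_right hF, herm_smul_left hF, hzz, haz, hd,
        h_symm hF haz, h_symm hF hd, hreal]
      match_scalars <;> field_simp <;> ring
    rw [hconv, show E hF z (l • ρ e) hzz hd = (E hF z a hzz haz)⁻¹ *
      E hF z (↟R *ᵥ a) hzz haz' by rw [← hsum, inv_mul_cancel_left]]
    exact H.mul_mem (H.inv_mem hX) hX'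
  have hSadd : ∀ v w, S v → S w → S (v + w) := by
    rintro v w ⟨hv, hvH⟩ ⟨hw, hwH⟩
    refine ⟨by rw [ratVec_add, herm_add_left hF, hv, hw, add_zero], ?_⟩
    convert H.mul_mem hvH hwH using 1
    refine gl_ext fun x => ?_
    have hwv : h (ρ w) (ρ v) = h (ρ v) (ρ w) := by
      rw [herm_ratVec hF hK P hP h2, herm_ratVec hF hK P hP h2, polar_comm]
    simp only [UnitaryOrth.gl_mulVec, E_mulVec hF h2, ratVec_add, half, herm_add_left hF,
      herm_add_right hF, herm_smul_left hF, hpp, hv, hw, h_symm hF hv, h_symm hF hw, hwv]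
    match_scalars <;> field_simp <;> ring
  have hS0 : S 0 := by
    refine ⟨by rw [ratVec_zero, h_zero_left hF], ?_⟩
    convert H.one_mem using 1
    refine gl_ext fun x => ?_
    rw [E_mulVec hF h2, half, ratVec_zero, h_zero_left hF, h_zero_right hF, Units.val_one,
      one_mulVec]
    simp
  have hSneg : ∀ v, S v → S (-v) := by
    rintro v ⟨hv, hvH⟩
    have hρn : ρ (-v) = -ρ v := by rw [← zero_sub, ratVec_sub, ratVec_zero, zero_sub]
    refine ⟨by rw [hρn, ← zero_sub, h_sub_left hF, h_zero_left hF, hv, sub_zero], ?_⟩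
    convert H.inv_mem hvH using 1
    rw [eq_inv_iff_mul_eq_one]
    refine gl_ext fun x => ?_
    simp only [UnitaryOrth.gl_mulVec, E_mulVec hF h2, hρn, half, ← zero_sub (ρ v), h_sub_left hF,
      h_sub_right hF, herm_add_left hF, herm_smul_left hF, h_zero_left hF, h_zero_right hF, hpp,
      hv, h_symm hF hv, Units.val_one, one_mulVec]
    match_scalars <;> field_simp <;> ring
  have hRρ : ∀ (t : K) (R : GLs), (∀ a : Vs, ↟R *ᵥ a = a +
      ((((k₁ + t * t * k₂)⁻¹ - k₁⁻¹ : K) : F) * h a (ρ e₁) +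
        ((t / (k₁ + t * t * k₂) : K) : F) * h a (ρ e₂)) • ρ e₁ +
      (-((t / (k₁ + t * t * k₂) : K) : F) * h a (ρ e₁) +
        -((t * t / (k₁ + t * t * k₂) : K) : F) * h a (ρ e₂)) • ρ e₂) → ∀ v : Ks,
      ↟R *ᵥ ρ v = ρ (v + (((k₁ + t * t * k₂)⁻¹ - k₁⁻¹) * polar ⇑Qr v e₁ +
        t / (k₁ + t * t * k₂) * polar ⇑Qr v e₂) • e₁ +
      (-(t / (k₁ + t * t * k₂)) * polar ⇑Qr v e₁ +
        -(t * t / (k₁ + t * t * k₂)) * polar ⇑Qr v e₂) • e₂) := by
    intro t R h' v
    rw [h', herm_ratVec hF hK P hP h2, herm_ratVec hF hK P hP h2, ratVec_add, ratVec_add,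
      ratVec_smul, ratVec_smul]
    push_cast
    ring_nf
  have hSrot : ∀ (t : K) v, S v →
      S (v + (((k₁ + t * t * k₂)⁻¹ - k₁⁻¹) * polar ⇑Qr v e₁ +
        t / (k₁ + t * t * k₂) * polar ⇑Qr v e₂) • e₁ +
      (-(t / (k₁ + t * t * k₂)) * polar ⇑Qr v e₁ +
        -(t * t / (k₁ + t * t * k₂)) * polar ⇑Qr v e₂) • e₂) := by
    rintro t v ⟨hv, hvH⟩
    obtain ⟨R', hR'Ω, hR'z, hR'a⟩ := hR t
    obtain ⟨hv', hv'H⟩ := hRE R' hR'Ω p (ρ v) hpp hv hvH (by rw [hp, mulVec_smul, hR'z])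
    have e' := hRρ t R' hR'a v
    show ∃ hv, _
    rw [← e']
    exact ⟨hv', hv'H⟩
  -- scalars
  have hdec2 : ∀ v, polar ⇑Qr z₁ v = 0 → polar ⇑Qr z₂ v = 0 →
      v = (polar ⇑Qr v e₁ / (2 * k₁)) • e₁ + (polar ⇑Qr v e₂ / (2 * k₂)) • e₂ := by
    intro v v1 v2
    refine eq_of_sub_eq_zero (hzero _ ?_ ?_ ?_ ?_)
    · simp [polar_sub_right, polar_add_right, polar_smul_right, v1, e11, e21]
    · simp [polar_sub_right, polar_add_right, polar_smul_right, v2, e12, e22]
    · simp only [polar_sub_right, polar_add_right, polar_smul_right, p11, e23,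
        polar_comm (⇑Qr) v e₁, smul_eq_mul]
      field_simp; ring
    · simp only [polar_sub_right, polar_add_right, polar_smul_right, p22, p21,
        polar_comm (⇑Qr) v e₂, smul_eq_mul]
      field_simp; ring
  let L : AddSubgroup K :=
    { carrier := {c | ∀ v, polar ⇑Qr z₁ v = 0 → polar ⇑Qr z₂ v = 0 → S v → S (c • v)}
      zero_mem' := fun v _ _ _ => by rw [zero_smul]; exact hS0
      add_mem' := fun hc hd v v1 v2 hv => by
        rw [add_smul]; exact hSadd _ _ (hc v v1 v2 hv) (hd v v1 v2 hv)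
      neg_mem' := fun hc v v1 v2 hv => by rw [neg_smul]; exact hSneg _ (hc v v1 v2 hv) }
  have h4L : ∀ t : K, 4 * k₁ / (k₁ + t * t * k₂) ∈ L := by
    intro t v v1 v2 hv
    have hs := hSadd _ _ (hSadd _ _ (hSrot t v hv) (hSrot (-t) v hv)) (hSadd _ _ hv hv)
    convert hs using 1
    rw [show (-t) * (-t) = t * t by ring]
    have := hQb t
    have hD2 : k₁ + t ^ 2 * k₂ ≠ 0 := by rwa [_root_.sq]
    conv_rhs => rw [show v = (polar ⇑Qr v e₁ / (2 * k₁)) • e₁ +
      (polar ⇑Qr v e₂ / (2 * k₂)) • e₂ from hdec2 v v1 v2]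
    conv_lhs => rw [show v = (polar ⇑Qr v e₁ / (2 * k₁)) • e₁ +
      (polar ⇑Qr v e₂ / (2 * k₂)) • e₂ from hdec2 v v1 v2]
    simp only [polar_add_left, polar_smul_left, p11, p22, p21, e23, smul_eq_mul]
    match_scalars <;> field_simp <;> ring
  have hLtop : ∀ c : K, c ∈ L := by
    intro c
    let img := (Finset.univ : Finset K).image fun t => 4 * k₁ / (k₁ + t * t * k₂)
    have hfib : (Finset.univ : Finset K).card ≤ 2 * img.card := by
      refine Finset.card_le_mul_card_image _ 2 fun b hb => ?_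
      obtain ⟨t₀, -, rfl⟩ := Finset.mem_image.mp hb
      refine (Finset.card_le_card (t := {t₀, -t₀}) fun t ht => ?_).trans Finset.card_le_two
      obtain ⟨-, e⟩ := Finset.mem_filter.mp ht
      rw [div_eq_div_iff (hQb t) (hQb t₀)] at e
      have e4 : t * t = t₀ * t₀ := by
        have h4 : (4 : K) * k₁ * k₂ ≠ 0 := mul_ne_zero (mul_ne_zero
          (by rw [show (4 : K) = 2 * 2 by norm_num]; exact mul_ne_zero h2K h2K) hk₁) hk₂
        refine mul_left_cancel₀ h4 ?_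
        linear_combination -e
      rcases mul_self_eq_mul_self_iff.mp e4 with h5 | h5 <;> simp [h5]
    have hsub : insert (0 : K) img ⊆ Finset.univ.filter (fun c => c ∈ L) := by
      intro c hc
      rw [Finset.mem_filter]
      refine ⟨Finset.mem_univ _, ?_⟩
      rcases Finset.mem_insert.mp hc with rfl | hc
      · exact L.zero_mem
      · obtain ⟨t, -, rfl⟩ := Finset.mem_image.mp hc
        exact h4L t
    have h0 : (0 : K) ∉ img := fun h' => by
      obtain ⟨t, -, ht⟩ := Finset.mem_image.mp h'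
      have h4 : (4 : K) ≠ 0 := by
        rw [show (4 : K) = 2 * 2 by norm_num]; exact mul_ne_zero h2K h2K
      exact div_ne_zero (mul_ne_zero h4 hk₁) (hQb t) ht
    have hle := Finset.card_le_card hsub
    rw [Finset.card_insert_of_notMem h0] at hle
    have hdvd := AddSubgroup.card_addSubgroup_dvd_card L
    have hcL : Nat.card L = (Finset.univ.filter (fun c => c ∈ L)).card := by
      rw [Nat.card_eq_fintype_card, Fintype.card_subtype]
    rw [hcL, Nat.card_eq_fintype_card] at hdvd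
    rw [Finset.card_univ] at hfib
    obtain ⟨d, hd⟩ := hdvd
    have hd1 : d = 1 := by
      rcases Nat.lt_trichotomy d 1 with hlt | heq | hgt
      · have : d = 0 := by omega
        rw [this, mul_zero] at hd
        exact absurd hd Fintype.card_ne_zero
      · exact heq
      · have : 2 * (Finset.univ.filter (fun c => c ∈ L)).card ≤ Fintype.card K := by
          rw [hd]; rw [mul_comm 2]; exact Nat.mul_le_mul le_rfl hgt
        omega
    rw [hd1, mul_one, ← Finset.card_univ] at hd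
    have := Finset.eq_univ_of_card _ hd.symm
    have hc : c ∈ Finset.univ.filter (fun c => c ∈ L) := Finset.eq_univ_iff_forall.mp this c
    exact (Finset.mem_filter.mp hc).2
  -- the whole plane
  obtain ⟨e', he'⟩ : ∃ e', e' = e + ((Qb⁻¹ - k₁⁻¹) * polar ⇑Qr e e₁ + 1 / Qb * polar ⇑Qr e e₂) • e₁ +
      (-(1 / Qb) * polar ⇑Qr e e₁ + -(1 / Qb) * polar ⇑Qr e e₂) • e₂ := ⟨_, rfl⟩
  have hSe' : S e' := by
    have := hSrot 1 e hSe
    rw [← hQbd] at this
    simpa [he'] using this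
  have he'1 : polar ⇑Qr z₁ e' = 0 := by
    rw [he']; simp [polar_add_right, polar_smul_right, he1, e11, e21]
  have he'2 : polar ⇑Qr z₂ e' = 0 := by
    rw [he']; simp [polar_add_right, polar_smul_right, he2, e12, e22]
  obtain ⟨E₁, hE₁⟩ : ∃ x, x = polar ⇑Qr e e₁ := ⟨_, rfl⟩
  obtain ⟨E₂, hE₂⟩ : ∃ x, x = polar ⇑Qr e e₂ := ⟨_, rfl⟩
  have hE₁v : E₁ = 2 * k₁ * ((Qb⁻¹ - k₁⁻¹) * r₁ + Qb⁻¹ * r₂) := by
    rw [hE₁, he]
    simp only [polar_add_left, polar_smul_left, p11, p21, smul_eq_mul]; ring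
  have hE₂v : E₂ = 2 * k₂ * (-Qb⁻¹ * r₁ + -Qb⁻¹ * r₂) := by
    rw [hE₂, he]
    simp only [polar_add_left, polar_smul_left, p22, e23, smul_eq_mul]; ring
  have hE12 : ¬(E₁ = 0 ∧ E₂ = 0) := by
    rintro ⟨a1, a2⟩
    apply hr0
    rw [hE₁v] at a1
    rw [hE₂v] at a2
    have b2 : r₁ + r₂ = 0 := by
      refine mul_left_cancel₀ (mul_ne_zero (mul_ne_zero h2K hk₂) (inv_ne_zero hQb0)) ?_
      linear_combination -a2
    have b1 : r₁ = 0 := by
      refine mul_left_cancel₀ (mul_ne_zero (mul_ne_zero h2K hk₁) (inv_ne_zero hk₁)) ?_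
      linear_combination -a1 + (2 * k₁ * Qb⁻¹) * b2
    exact ⟨b1, by rw [b1, zero_add] at b2; exact b2⟩
  have hE₁' : polar ⇑Qr e' e₁ = E₁ + 2 * k₁ * ((Qb⁻¹ - k₁⁻¹) * E₁ + 1 / Qb * E₂) := by
    rw [he', hE₁, hE₂]
    simp only [polar_add_left, polar_smul_left, p11, p21, smul_eq_mul]; ring
  have hE₂' : polar ⇑Qr e' e₂ = E₂ + 2 * k₂ * (-(1 / Qb) * E₁ + -(1 / Qb) * E₂) := by
    rw [he', hE₁, hE₂]
    simp only [polar_add_left, polar_smul_left, p22, e23, smul_eq_mul]; ring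
  have hWdet : E₁ * polar ⇑Qr e' e₂ - E₂ * polar ⇑Qr e' e₁ ≠ 0 := by
    rw [hE₁', hE₂']
    intro e0
    field_simp at e0
    rw [hQbd] at e0
    have e6 : E₁ ^ 2 * k₂ + E₂ ^ 2 * k₁ = 0 := by
      refine mul_left_cancel₀ h2K ?_
      linear_combination -e0
    by_cases h1 : E₁ = 0
    · exact hE12 ⟨h1, by simpa [h1, hk₁] using e6⟩
    · exact hρns ⟨E₂ / E₁, by field_simp; linear_combination -e6⟩
  -- conclude
  have hgood : ∀ v, polar ⇑Qr x v = 0 → polar ⇑Qr y v = 0 →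
      ∃ hv, E hF p (ρ v) hpp hv ∈ H := by
    intro v v1 v2
    have w1 : polar ⇑Qr z₁ v = 0 := by
      rw [hz1x, polar_add_left, polar_smul_left, polar_smul_left, v1, v2]; simp
    have w2 : polar ⇑Qr z₂ v = 0 := by
      rw [hz2x, polar_add_left, polar_smul_left, polar_smul_left, v1, v2]; simp
    obtain ⟨W, hW⟩ : ∃ W, W = E₁ * polar ⇑Qr e' e₂ - E₂ * polar ⇑Qr e' e₁ := ⟨_, rfl⟩
    rw [← hW] at hWdet
    have hv : v = ((polar ⇑Qr v e₁ * polar ⇑Qr e' e₂ - polar ⇑Qr v e₂ * polar ⇑Qr e' e₁) / W) • e +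
        ((polar ⇑Qr v e₂ * E₁ - polar ⇑Qr v e₁ * E₂) / W) • e' := by
      refine eq_of_sub_eq_zero (hzero _ ?_ ?_ ?_ ?_)
      · simp [polar_sub_right, polar_add_right, polar_smul_right, w1, he1, he'1]
      · simp [polar_sub_right, polar_add_right, polar_smul_right, w2, he2, he'2]
      · simp only [polar_sub_right, polar_add_right, polar_smul_right, smul_eq_mul,
          polar_comm (⇑Qr) e₁ e, polar_comm (⇑Qr) e₁ e', polar_comm (⇑Qr) e₁ v, ← hE₁]
        field_simp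
        rw [hW]; ring
      · simp only [polar_sub_right, polar_add_right, polar_smul_right, smul_eq_mul,
          polar_comm (⇑Qr) e₂ e, polar_comm (⇑Qr) e₂ e', polar_comm (⇑Qr) e₂ v, ← hE₂]
        field_simp
        rw [hW]; ring
    have hS : S v := by
      rw [hv]
      exact hSadd _ _ (hLtop _ e he1 he2 hSe) (hLtop _ e' he'1 he'2 hSe')
    exact hS
  -- orient the line
  obtain ⟨α, hαd⟩ : ∃ α, α = h p (ρ y) := ⟨_, rfl⟩
  obtain ⟨β, hβd⟩ : ∃ β, β = h p (ρ x) := ⟨_, rfl⟩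
  have hyx : polar ⇑Qr y x = 1 := by rw [polar_comm, hxy]
  have hpexp : p = α • ρ x + β • ρ y := by
    rw [hαd, hβd, hp, herm_smul_left hF, herm_smul_left hF]
    have e1 : h z (ρ y) = ((polar ⇑Qr y z₁ : K) : F) + δ * ((polar ⇑Qr y z₂ : K) : F) := by
      rw [hdec, herm_add_left hF, herm_smul_left hF, herm_ratVec hF hK P hP h2,
        herm_ratVec hF hK P hP h2, polar_comm _ z₁ y, polar_comm _ z₂ y]
    have e3 : h z (ρ x) = ((polar ⇑Qr x z₁ : K) : F) + δ * ((polar ⇑Qr x z₂ : K) : F) := by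
      rw [hdec, herm_add_left hF, herm_smul_left hF, herm_ratVec hF hK P hP h2,
        herm_ratVec hF hK P hP h2, polar_comm _ z₁ x, polar_comm _ z₂ x]
    rw [e1, e3]
    conv_lhs => rw [hdec, hz1x, hz2x]
    simp only [ratVec_add, ratVec_smul]
    module
  have hskew : α * β ^ q + α ^ q * β = 0 := by
    have e := hpp
    rw [hpexp] at e
    simp only [herm_add_left hF, herm_add_right hF, herm_smul_left hF, herm_smul_right hF,
      herm_ratVec_zero hF hK P hP h2 hx, herm_ratVec_zero hF hK P hP h2 hy,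
      herm_ratVec_one hF hK P hP h2 hxy, herm_ratVec_one hF hK P hP h2 hyx] at e
    linear_combination e
  have hz0 : z ≠ 0 := fun e0 => hu0 (ratVec_eq_zero.mp (show ρ u = 0 by
    rw [← inv_mulVec_mulVec g (ρ u), ← hz, e0, mulVec_zero]))
  have hne : ∀ (s : F) (w : Ks), Qr w = 0 → p ≠ s • ρ w := by
    intro s w hw e0
    apply hG
    have hzw : z = (s / l ^ q) • ρ w := by
      rw [div_eq_inv_mul, mul_smul, ← e0, hp, smul_smul, inv_mul_cancel₀ (pow_ne_zero q hl0),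
        one_smul]
    obtain ⟨a1, b1, hs⟩ := exists_coord hF hK h2 hδ hδ0 (s / l ^ q)
    have hzz' : ρ z₁ + δ • ρ z₂ = ρ (a1 • w) + δ • ρ (b1 • w) := by
      rw [← hdec, hzw, hs, ratVec_smul, ratVec_smul]; module
    have heq : ∀ v, polar ⇑Qr z₁ v = a1 * polar ⇑Qr w v ∧
        polar ⇑Qr z₂ v = b1 * polar ⇑Qr w v := by
      intro v
      have e2 := congrArg (fun X => h X (ρ v)) hzz'
      simp only [herm_add_left hF, herm_smul_left hF, herm_ratVec hF hK P hP h2, polar_smul_left,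
        smul_eq_mul] at e2
      obtain ⟨c1, c2⟩ := coord_zero hF hK h2 hδ hδ0
        (a := polar ⇑Qr z₁ v - a1 * polar ⇑Qr w v) (b := polar ⇑Qr z₂ v - b1 * polar ⇑Qr w v)
        (by push_cast; push_cast at e2; linear_combination e2)
      exact ⟨sub_eq_zero.mp c1, sub_eq_zero.mp c2⟩
    constructor
    · rw [(heq z₂).2, polar_comm, (heq w).2, Orth.polar_self_zero hw]; ring
    · rw [(heq z₂).1, polar_comm, (heq w).2, Orth.polar_self_zero hw]; ring
  have hα0 : α ≠ 0 := fun e0 => hne β y hy (by rw [hpexp, e0, zero_smul, zero_add])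
  have hβ0 : β ≠ 0 := fun e0 => hne α x hx (by rw [hpexp, e0, zero_smul, add_zero])
  by_cases hβK : β ^ q = β
  · refine eq_of_line hF hK P hP h2 hδ hδ0 hε hΩ hH hn hq hy hx hyx
      (α := β) (β := α) (by rw [hpexp, add_comm]) hpp (mul_ne_zero hβ0 (pow_ne_zero q hα0)) ?_
      (fun v v1 v2 => hanxy v v2 v1) (fun v v1 v2 => hgood v v2 v1)
    intro e0
    rw [hβK, e0] at hskew
    have : (2 : F) * (α * β) = 0 := by linear_combination hskew
    exact mul_ne_zero h2 (mul_ne_zero hα0 hβ0) this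
  · exact eq_of_line hF hK P hP h2 hδ hδ0 hε hΩ hH hn hq hx hy hxy hpexp hpp
      (mul_ne_zero hα0 (pow_ne_zero q hβ0)) hβK hanxy hgood

omit hΩ hH in
/-- The orthogonal subfield group is maximal in `SU_4(q)`. -/
theorem isMaximalIn_orth4 : Cfsg.Geo.IsMaximalIn (suGL n F q) Ω := by
  have hQ := ratQuad_nondegenerate hF hK P hP h2
  have h2K := two_ne_K hF hK P hP h2
  obtain ⟨u, hu0, hu⟩ := Orth.exists_singular h2K hQ (by simp; omega)
  refine ⟨lt_of_le_of_ne inf_le_right fun heq => ?_, fun M hΩM hMS => ?_⟩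
  · obtain ⟨v, hv, huv⟩ := Orth.exists_partner hQ hu0 hu
    have huu := herm_ratVec_zero hF hK P hP h2 hu
    obtain ⟨l, hl0, hl⟩ := exists_scale_of_mem (K := K) (P := P)
      (heq.ge (T_mem hF (ρ u) huu hδ)).1
    obtain ⟨a, ha⟩ := hl u
    obtain ⟨b, hb⟩ := hl v
    have hvv := herm_ratVec_zero hF hK P hP h2 hv
    have hvu : h (ρ v) (ρ u) = 1 := herm_ratVec_one hF hK P hP h2 (by rw [polar_comm]; exact huv)
    have huv' : h (ρ u) (ρ v) = 1 := herm_ratVec_one hF hK P hP h2 huv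
    have h1 := congrArg (fun y => h y (ρ v)) ha
    have h3 := congrArg (fun y => h y (ρ v)) hb
    simp only [T_mulVec, herm_add_left hF, herm_smul_left hF, huu, huv', hvu, hvv, mul_zero,
      mul_one, zero_mul, add_zero, zero_add] at h1 h3
    have hlK : l ∈ K := by
      rw [eq_inv_of_mul_eq_one_left h1.symm]; exact K.inv_mem (hP a v)
    have hδK : δ ∈ K := by rw [h3]; exact K.mul_mem hlK (hP b v)
    have := (fixed_iff hK δ).mpr hδK
    rw [this, ← two_mul] at hδ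
    exact hδ0 ((mul_eq_zero.mp hδ).resolve_left h2)
  by_cases hle : M ≤ Cfsg.Geo.subfieldSubgroup K P
  · exact Or.inl (le_antisymm (le_inf hle hMS) hΩM)
  right
  obtain ⟨g, hgM, hg⟩ := SetLike.not_le_iff_exists.mp hle
  obtain ⟨u₀, z₁, z₂, hu₀, hdec, hG⟩ : ∃ u₀ z₁ z₂, Qr u₀ = 0 ∧ ↟g *ᵥ ρ u₀ = ρ z₁ + δ • ρ z₂ ∧
      ¬(polar ⇑Qr z₂ z₂ = 0 ∧ polar ⇑Qr z₁ z₂ = 0) := by
    by_contra hno
    push Not at hno
    exact hg (mem_of_G hF hK P hP h2 hδ hδ0 hε (hMS hgM) hq hu0 hu fun w a b hw hab =>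
      ⟨(hno w a b hw hab).1, (hno w a b hw hab).2⟩)
  have hu₀0 : u₀ ≠ 0 := by
    rintro rfl
    rw [ratVec_zero, mulVec_zero] at hdec
    apply hG
    have e := fun v => congrArg (fun X => h X (ρ v)) hdec
    have e1 := e z₂
    simp only [h_zero_left hF, herm_add_left hF, herm_smul_left hF,
      herm_ratVec hF hK P hP h2] at e1
    obtain ⟨c1, c2⟩ := coord_zero hF hK h2 hδ hδ0 e1.symm
    exact ⟨c2, c1⟩
  by_cases han : ∀ v, polar ⇑Qr z₁ v = 0 → polar ⇑Qr z₂ v = 0 → Qr v = 0 → v = 0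
  · exact eq_of_bad hF hK P hP h2 hδ hδ0 hε hΩM hMS hn hq hgM hu₀0 hu₀ rfl hdec hG han
  push Not at han
  obtain ⟨w, w1, w2, hw, hw0⟩ := han
  have hzz : h (↟g *ᵥ ρ u₀) (↟g *ᵥ ρ u₀) = 0 := by
    rw [apply_K (hMS hgM)]; exact herm_ratVec_zero hF hK P hP h2 hu₀
  have h11 := gram hF hK P hP h2 hδ hδ0 hε hdec hzz
  have hdet := gram_det hF hK P hP h2 hδ hδ0 hε hG
  rw [← h11] at hdet
  obtain ⟨w', hw', hww', w'1, w'2⟩ :=
    exists_pair_in_perp hF hK P hP h2 hδ hδ0 hε hdet hw0 hw w1 w2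
  exact eq_suGL_of_root hF hK P hP h2 hΩM hMS (by omega) hw0 hw
    (root_of_good hF hK P hP h2 hΩM hMS hn hq hδ hδ0 hgM hu₀0 hu₀ rfl hdec
      (gram_indep hF hK P hP h2 hδ hδ0 hε hdec hzz hG) hw hw' hww' w1 w2 w'1 w'2)

end Cfsg.Agent.Lib.GeoTypesSU4.Orth

namespace Cfsg.Agent.Lib.GeoTypesSU4

open Cfsg.Agent.Lib Cfsg.Agent.Lib.UnitaryMax

/-- Clause (8): the orthogonal subfield groups of `SU_4(q)`. -/
theorem isMaximalIn_orth_four {F : Type*} [Field F] [Fintype F] (q : ℕ)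
    (hF : Fintype.card F = q ^ 2) (hodd : Odd q) (hq : 5 ≤ q) (F₀ : Subfield F)
    (P : Matrix.GeneralLinearGroup (Fin 4) F) (hcard : Fintype.card F = Nat.card F₀ ^ 2)
    (hP : Cfsg.Geo.IsFormRationalStructure (Cfsg.hermForm 4 F q) F₀ 1 P) :
    Cfsg.Geo.IsMaximalIn (Cfsg.GU 4 F q ⊓ Cfsg.Geo.specialLinear (Fin 4) F)
      (Cfsg.Geo.subfieldSubgroup F₀ P ⊓ (Cfsg.GU 4 F q ⊓ Cfsg.Geo.specialLinear (Fin 4) F)) := by
  have hK : Nat.card F₀ = q :=
    (Nat.pow_left_injective (by norm_num : (2 : ℕ) ≠ 0) (hF.symm.trans hcard)).symm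
  have h2 : (2 : F) ≠ 0 := Ring.two_ne_zero fun h => by
    have h' := FiniteField.even_card_of_char_two h
    obtain ⟨k, hk⟩ := hodd.pow (n := 2)
    rw [← hF] at hk
    omega
  obtain ⟨δ, hδ, hδ0⟩ := exists_skew_ne hF
  have hδε : δ ^ 2 ∈ F₀ := (SubfieldMax.UnitaryOrth.fixed_iff hK _).mp (by
    rw [← pow_mul, mul_comm, pow_mul, eq_neg_of_add_eq_zero_right hδ, neg_sq])
  exact Orth.isMaximalIn_orth4 hF hK P
    (fun u v => by
      have := hP _ _ (fun i => (u i).2) (fun i => (v i).2)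
      rwa [one_mul] at this)
    h2 hδ hδ0 (ε := ⟨δ ^ 2, hδε⟩) rfl rfl hq

end Cfsg.Agent.Lib.GeoTypesSU4
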