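import Cfsg.Agent.Lib.UnitaryMax.Pair

/-!
The stabiliser of a pair of complementary totally singular planes is maximal in `SU₄(q)`, `q ≥ 4`.
-/

set_option autoImplicit false
set_option linter.unusedSectionVars false

namespace Cfsg.Agent.Lib.GeoTypesSU4

open Matrix Cfsg.Agent.Lib.Forms Cfsg.Agent.Lib.FormMax Cfsg.Agent.Lib.UnitaryMax

variable {F : Type*} [Field F] [Fintype F] {n q : ℕ}

local notation "Vs" => (Fin n → F)
local notation "h" => Cfsg.hermForm n F q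

/-- A basis adapted to a pair of totally singular planes. -/
structure Adapted (q : ℕ) (X Y : Submodule F (Fin n → F)) (a₁ a₂ b₁ b₂ : Fin n → F) : Prop where
  a1X : a₁ ∈ X
  a2X : a₂ ∈ X
  b1Y : b₁ ∈ Y
  b2Y : b₂ ∈ Y
  o11 : Cfsg.hermForm n F q a₁ b₁ = 1
  o22 : Cfsg.hermForm n F q a₂ b₂ = 1
  o12 : Cfsg.hermForm n F q a₁ b₂ = 0
  o21 : Cfsg.hermForm n F q a₂ b₁ = 0

variable (hF : Fintype.card F = q ^ 2) {H : Subgroup (GL (Fin n) F)}
include hF

theorem h_one {u v : Vs} (e : h u v = 1) : h v u = 1 := by rw [← herm_conj hF u v, e, one_pow]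

theorem Adapted.swap {X Y : Submodule F Vs} {a₁ a₂ b₁ b₂ : Vs} (hA : Adapted q X Y a₁ a₂ b₁ b₂) :
    Adapted q X Y a₂ a₁ b₂ b₁ := ⟨hA.a2X, hA.a1X, hA.b2Y, hA.b1Y, hA.o22, hA.o11, hA.o21, hA.o12⟩

theorem Adapted.flip {X Y : Submodule F Vs} {a₁ a₂ b₁ b₂ : Vs} (hA : Adapted q X Y a₁ a₂ b₁ b₂) :
    Adapted q Y X b₁ b₂ a₁ a₂ :=
  ⟨hA.b1Y, hA.b2Y, hA.a1X, hA.a2X, h_one hF hA.o11, h_one hF hA.o22, h_symm hF hA.o21, h_symm hF hA.o12⟩

/-- An element fixing the line of `u` which moves a pair makes `u` a root vector. -/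
theorem root_of_move (hH : H ≤ suGL n F q) {u v : Vs} (huu : h u u = 0) (hvv : h v v = 0)
    (huv : h u v = 0) (hP : PairIn q H u v) {G : GL (Fin n) F} (hG : G ∈ H)
    (hu : (G : Matrix (Fin n) (Fin n) F) *ᵥ u = u)
    (hμ : h v ((G : Matrix (Fin n) (Fin n) F) *ᵥ v) ≠ 0) : u ∈ root q H := by
  refine ⟨huu, fun d hd => ?_⟩
  have hP' := hP.map hF hH hG
  rw [hu] at hP'
  obtain ⟨v', hv'⟩ : ∃ v', v' = (G : Matrix (Fin n) (Fin n) F) *ᵥ v := ⟨_, rfl⟩
  rw [← hv'] at hP' hμ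
  have huv' : h u v' = 0 := by rw [← hu, hv', apply_K (hH hG), huv]
  have hv'v' : h v' v' = 0 := by rw [hv', apply_K (hH hG), hvv]
  set m := h v v' with hm
  obtain ⟨τ, hτ⟩ := exists_trace_one hF
  have hm0 : m ^ q ≠ 0 := pow_ne_zero _ hμ
  obtain ⟨c, hc⟩ : ∃ c, c = τ * d / m ^ q := ⟨_, rfl⟩
  have hd' : d = c * m ^ q - c ^ q * m := by
    rw [hc, div_mul_cancel₀ _ hm0, div_pow, pow_q_pow_q hF, div_mul_cancel₀ _ hμ, mul_pow,
      eq_neg_of_add_eq_zero_right hd]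
    linear_combination (-d) * hτ
  obtain ⟨g₁, hg₁, hg₁x⟩ := hP c
  obtain ⟨g₂, hg₂, hg₂x⟩ := hP' 1
  have hv'v : h v' v = m ^ q := (herm_conj hF v v').symm
  have key : g₁ * g₂ = T u (-d) huu * (g₂ * g₁) := by
    refine gl_ext fun x => ?_
    simp only [Units.val_mul, ← mulVec_mulVec, T_mulVec, hg₁x, hg₂x, herm_add_left hF, h_sub_left hF,
      herm_smul_left hF, huu, huv, h_symm hF huv, huv', h_symm hF huv', hvv, hv'v', ← hm, hv'v, one_pow]
    rw [hd']
    match_scalars <;> ring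
  have h1 : T u (-d) huu ∈ H := by
    have h3 := H.mul_mem (H.mul_mem hg₁ hg₂) (H.inv_mem (H.mul_mem hg₂ hg₁))
    rwa [key, mul_inv_cancel_right] at h3
  have e : T u (-d) huu * T u d huu = 1 := gl_ext fun x => by
    simp only [Units.val_mul, ← mulVec_mulVec, T_mulVec, herm_add_left hF, herm_smul_left hF, huu,
      Units.val_one, one_mulVec]
    module
  have h3 := H.inv_mem h1
  rwa [inv_eq_of_mul_eq_one_right e] at h3

/-- An element scaling one of two centres separates paired transvections. -/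
theorem root_of_scale (hH : H ≤ suGL n F q) {a b : Vs} (haa : h a a = 0) (hbb : h b b = 0)
    (hab : h a b = 0) {f g : F → F} (hA : ∀ c, T a (f c) haa * T b (g c) hbb ∈ H)
    (hg : ∀ d, d + d ^ q = 0 → ∃ c, g c = d) {G : GL (Fin n) F} (hG : G ∈ H)
    (ha : (G : Matrix (Fin n) (Fin n) F) *ᵥ a = a) {μ : F}
    (hb : (G : Matrix (Fin n) (Fin n) F) *ᵥ b = μ • b) (hμ : μ * μ ^ q ≠ 1) : b ∈ root q H := by
  refine ⟨hbb, fun d hd => ?_⟩
  set N := μ * μ ^ q - 1 with hN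
  have hN0 : N ≠ 0 := sub_ne_zero.mpr hμ
  have hNq : N ^ q = N := by
    rw [hN, q_sub hF, one_pow, mul_pow, pow_q_pow_q hF, mul_comm]
  obtain ⟨c, hc⟩ := hg (d / N) (by rw [div_pow, hNq, ← add_div, hd, zero_div])
  have e : G * (T a (f c) haa * T b (g c) hbb) = T b d hbb * (T a (f c) haa * T b (g c) hbb) * G := by
    refine gl_ext fun x => ?_
    have hGa : h ((G : Matrix (Fin n) (Fin n) F) *ᵥ x) a = h x a := by
      conv_lhs => rw [← ha, apply_K (hH hG)]
    have hGb : h ((G : Matrix (Fin n) (Fin n) F) *ᵥ x) b * μ ^ q = h x b := by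
      have := apply_K (hH hG) x b
      rwa [hb, herm_smul_right hF, mul_comm] at this
    simp only [Units.val_mul, ← mulVec_mulVec, T_mulVec, herm_add_left hF, herm_smul_left hF, mulVec_add,
      mulVec_smul, ha, hb, hab, h_symm hF hab, haa, hbb, hGa, ← hGb, hc]
    have hd' : d = d / N * N := (div_mul_cancel₀ _ hN0).symm
    generalize d / N = z at hd' ⊢
    rw [hd', hN]
    match_scalars <;> ring
  have h1 := H.mul_mem (H.mul_mem (H.mul_mem hG (hA c)) (H.inv_mem hG)) (H.inv_mem (hA c))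
  rwa [e, mul_inv_cancel_right, mul_inv_cancel_right] at h1

section

variable {X Y : Submodule F (Fin n → F)}
  (hX : ∀ u ∈ X, ∀ v ∈ X, Cfsg.hermForm n F q u v = 0)
  (hY : ∀ u ∈ Y, ∀ v ∈ Y, Cfsg.hermForm n F q u v = 0) (hsup : X ⊔ Y = ⊤) (hinf : X ⊓ Y = ⊥)
  (hdX : Module.finrank F X = 2) (hdY : Module.finrank F Y = 2)

include hX hY hsup hinf hdX in
theorem exists_adapted {a b : Vs} (ha : a ∈ X) (hb : b ∈ Y) (hab : h a b = 1) :
    ∃ a' b', Adapted q X Y a a' b b' := by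
  let φ : X →ₗ[F] F := (hermSesq hF n b).comp X.subtype
  have h1 := φ.finrank_range_add_finrank_ker
  have h3 : Module.finrank F φ.range ≤ 1 := by simpa using Submodule.finrank_le φ.range
  have hk : φ.ker ≠ ⊥ := fun e => by rw [e, finrank_bot] at h1; omega
  obtain ⟨z, hz, hz0⟩ := Submodule.exists_mem_ne_zero_of_ne_bot hk
  have hzb : h (z : Vs) b = 0 := by simpa [φ] using hz
  obtain ⟨p, hp, hpS, hpz⟩ := sep_dual hF hY hX (by rwa [sup_comm]) (by rwa [inf_comm])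
    (S := Submodule.span F {a}) ((Submodule.span_singleton_le_iff_mem _ _).mpr ha) z.2 (by
      intro h'
      obtain ⟨c, hc⟩ := Submodule.mem_span_singleton.mp h'
      rw [← hc, herm_smul_left hF, hab, mul_one] at hzb
      exact hz0 (Subtype.ext (by rw [← hc, hzb, zero_smul]; rfl)))
  exact ⟨z, p, ha, z.2, hb, hp, hab, hpz, hpS a (Submodule.mem_span_singleton_self a), hzb⟩

include hX hY hsup hinf in
theorem exists_adapted' {a b : Vs} (ha : a ∈ X) (hb : b ∈ Y) (ha0 : a ≠ 0) (hb0 : b ≠ 0)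
    (hab : h a b = 0) : ∃ a' b', Adapted q X Y a a' b' b := by
  obtain ⟨p, hp, -, hbp⟩ := sep_dual hF hX hY hsup hinf (S := (⊥ : Submodule F Vs)) bot_le hb
    (fun h' => hb0 ((Submodule.mem_bot F).mp h'))
  have hpb := h_one hF hbp
  obtain ⟨w, hw, hwS, hwa⟩ := sep_dual hF hY hX (by rwa [sup_comm]) (by rwa [inf_comm])
    (S := Submodule.span F {p}) ((Submodule.span_singleton_le_iff_mem _ _).mpr hp) ha (by
      intro h'
      obtain ⟨c, hc⟩ := Submodule.mem_span_singleton.mp h'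
      rw [← hc, herm_smul_left hF, hpb, mul_one] at hab
      exact ha0 (by rw [← hc, hab, zero_smul]))
  exact ⟨p, w, ha, hp, hw, hb, hwa, hpb, hab, hwS p (Submodule.mem_span_singleton_self p)⟩

include hdX in
theorem expand {a₁ a₂ b₁ b₂ : Vs} (hA : Adapted q X Y a₁ a₂ b₁ b₂) {x : Vs} (hx : x ∈ X) :
    x = h x b₁ • a₁ + h x b₂ • a₂ := by
  have hli : LinearIndependent F ![a₁, a₂] := by
    rw [LinearIndependent.pair_iff]
    intro s t hst
    have e1 := congrArg (h · b₁) hst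
    have e2 := congrArg (h · b₂) hst
    simp [herm_add_left hF, herm_smul_left hF, hA.o11, hA.o22, hA.o12, hA.o21, h_zero_left hF] at e1 e2
    exact ⟨e1, e2⟩
  have hle : Submodule.span F (Set.range ![a₁, a₂]) ≤ X := by
    rw [Submodule.span_le]; rintro _ ⟨i, rfl⟩; fin_cases i
    · exact hA.a1X
    · exact hA.a2X
  have he := Submodule.eq_of_le_of_finrank_eq hle (by rw [finrank_span_eq_card hli, hdX, Fintype.card_fin])
  rw [← he, Matrix.range_cons, Matrix.range_cons, Matrix.range_empty, Set.union_empty, Set.singleton_union,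
    Submodule.mem_span_pair] at hx
  obtain ⟨s, t, rfl⟩ := hx
  simp [herm_add_left hF, herm_smul_left hF, hA.o11, hA.o22, hA.o12, hA.o21]

include hX hY in
/-- The torus element of an adapted basis. -/
theorem exists_torus {a₁ a₂ b₁ b₂ : Vs} (hA : Adapted q X Y a₁ a₂ b₁ b₂) {r : F} (hr : r ≠ 0)
    (hrq : r ^ q = r) :
    ∃ G ∈ suGL n F q, (∀ x ∈ X, (G : Matrix (Fin n) (Fin n) F) *ᵥ x ∈ X) ∧
      (∀ y ∈ Y, (G : Matrix (Fin n) (Fin n) F) *ᵥ y ∈ Y) ∧
      (G : Matrix (Fin n) (Fin n) F) *ᵥ a₁ = a₁ ∧ (G : Matrix (Fin n) (Fin n) F) *ᵥ b₁ = b₁ ∧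
      (G : Matrix (Fin n) (Fin n) F) *ᵥ a₂ = r • a₂ ∧ (G : Matrix (Fin n) (Fin n) F) *ᵥ b₂ = r⁻¹ • b₂ := by
  have hba := h_one hF hA.o22
  have haa := hX a₂ hA.a2X a₂ hA.a2X
  have hbb := hY b₂ hA.b2Y b₂ hA.b2Y
  set A : Matrix (Fin n) (Fin n) F := (1 + vecMulVec ((r - 1) • a₂) (conjVec q b₂)) *
    (1 + vecMulVec ((r⁻¹ - 1) • b₂) (conjVec q a₂)) with hAdef
  have hdot : ∀ w x : Vs, conjVec q w ⬝ᵥ x = h x w := fun w x => by
    simp only [dotProduct, conjVec, Cfsg.hermForm]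
    exact Finset.sum_congr rfl fun i _ => mul_comm _ _
  have hAx : ∀ x, A *ᵥ x = x + ((r⁻¹ - 1) * h x a₂) • b₂ + ((r - 1) * h x b₂) • a₂ := by
    intro x
    rw [hAdef, ← mulVec_mulVec, add_mulVec, one_mulVec, vecMulVec_mulVec, add_mulVec, one_mulVec,
      vecMulVec_mulVec, hdot, hdot, op_smul_eq_smul, op_smul_eq_smul, herm_add_left hF,
      herm_smul_left hF, herm_smul_left hF, hbb, smul_smul, smul_smul]
    module
  have hdet : A.det = 1 := by
    rw [hAdef, det_mul, vecMulVec_eq Unit, det_one_add_replicateCol_mul_replicateRow,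
      vecMulVec_eq Unit, det_one_add_replicateCol_mul_replicateRow, hdot, hdot, herm_smul_left hF,
      herm_smul_left hF, hA.o22, hba]
    field_simp
    ring
  have hpres : ∀ u v, h (A *ᵥ u) (A *ᵥ v) = h u v := by
    intro u v
    simp only [hAx, herm_add_left hF, herm_add_right hF, herm_smul_left hF, herm_smul_right hF, haa, hbb,
      hA.o22, hba, ← herm_conj hF v a₂, ← herm_conj hF v b₂, mul_pow, q_sub hF, one_pow, inv_pow, hrq]
    field_simp
    ring
  refine ⟨glMk A hdet, glMk_mem _ _ hpres, fun x hx => ?_, fun y hy => ?_, ?_, ?_, ?_, ?_⟩ <;>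
    rw [glMk_val, hAx]
  · rw [hX x hx a₂ hA.a2X, mul_zero, zero_smul, add_zero]; exact X.add_mem hx (X.smul_mem _ hA.a2X)
  · rw [hY y hy b₂ hA.b2Y, mul_zero, zero_smul, add_zero]; exact Y.add_mem hy (Y.smul_mem _ hA.b2Y)
  · rw [hA.o12, hX a₁ hA.a1X a₂ hA.a2X]; simp
  · rw [hY b₁ hA.b1Y b₂ hA.b2Y, h_symm hF hA.o21]; simp
  · rw [haa, hA.o22]; module
  · rw [hbb, hba]; module

include hX hY hsup hinf hdX hdY in
/-- From a mixed pair to a root vector inside one of the planes. -/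
theorem exists_root_pure (hH : H ≤ suGL n F q) {r : F} (hr : r ≠ 0) (hrq : r ^ q = r) (hr2 : r * r ≠ 1)
    (stab : ∀ g : GL (Fin n) F, g ∈ suGL n F q → (∀ x ∈ X, (g : Matrix (Fin n) (Fin n) F) *ᵥ x ∈ X) →
      (∀ x ∈ Y, (g : Matrix (Fin n) (Fin n) F) *ᵥ x ∈ Y) → g ∈ H)
    (hold : ∀ a ∈ X, ∀ b ∈ Y, h a b = 0 → PairIn q H a b)
    {u₀ u₁ v₀ v₁ : Vs} (hu₀ : u₀ ∈ X) (hu₁ : u₁ ∈ Y) (hu₀n : u₀ ≠ 0) (hu₁n : u₁ ≠ 0) (hv₀ : v₀ ∈ X)
    (hv₁ : v₁ ∈ Y) (huu : h (u₀ + u₁) (u₀ + u₁) = 0) (hvv : h (v₀ + v₁) (v₀ + v₁) = 0)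
    (huv : h (u₀ + u₁) (v₀ + v₁) = 0) (hP : PairIn q H (u₀ + u₁) (v₀ + v₁))
    (hind : ∀ c : F, v₀ + v₁ ≠ c • (u₀ + u₁)) :
    (∃ b ∈ Y, b ≠ 0 ∧ b ∈ root q H) ∨ (∃ b ∈ X, b ≠ 0 ∧ b ∈ root q H) := by
  have hr1 : r ≠ 1 := fun e => hr2 (by rw [e, mul_one])
  have hri : r⁻¹ * r⁻¹ ^ q ≠ 1 := by
    rw [inv_pow, hrq, ← mul_inv]; exact fun e => hr2 (inv_eq_one.mp e)
  have hrr : r * r ^ q ≠ 1 := by rwa [hrq]
  have hdiff : r⁻¹ - r ≠ 0 := fun e => hr2 (by
    rw [← mul_inv_cancel₀ hr, sub_eq_zero.mp e])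
  have torus : ∀ {a₁ a₂ b₁ b₂ : Vs}, Adapted q X Y a₁ a₂ b₁ b₂ → ∃ G ∈ H,
      (G : Matrix (Fin n) (Fin n) F) *ᵥ a₁ = a₁ ∧ (G : Matrix (Fin n) (Fin n) F) *ᵥ b₁ = b₁ ∧
      (G : Matrix (Fin n) (Fin n) F) *ᵥ a₂ = r • a₂ ∧ (G : Matrix (Fin n) (Fin n) F) *ᵥ b₂ = r⁻¹ • b₂ := by
    intro a₁ a₂ b₁ b₂ hA
    obtain ⟨G, hG, h0, h1, e⟩ := exists_torus hF hX hY hA hr hrq
    exact ⟨G, stab G hG h0 h1, e⟩
  -- paired transvections on an orthogonal pair
  have plane : ∀ {a b : Vs} (ha : a ∈ X) (hb : b ∈ Y), a ≠ 0 → b ≠ 0 → h a b = 0 → ∀ f g : F → F,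
      (∀ c, T a (f c) (hX a ha a ha) * T b (g c) (hY b hb b hb) ∈ H) →
      (∀ d, d + d ^ q = 0 → ∃ c, f c = d) ∨ (∀ d, d + d ^ q = 0 → ∃ c, g c = d) →
      (∃ b ∈ Y, b ≠ 0 ∧ b ∈ root q H) ∨ (∃ b ∈ X, b ≠ 0 ∧ b ∈ root q H) := by
    intro a b ha hb ha0 hb0 hab f g hA hfg
    obtain ⟨a', b', hAd⟩ := exists_adapted' hF hX hY hsup hinf ha hb ha0 hb0 hab
    rcases hfg with hf | hg
    · obtain ⟨G, hG, -, hGb, hGa, -⟩ := torus (hAd.swap hF)
      refine Or.inr ⟨a, ha, ha0, root_of_scale hF hH (hY b hb b hb) (hX a ha a ha) (h_symm hF hab)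
        (f := g) (g := f) (fun c => ?_) hf hG hGb hGa hrr⟩
      have e : T b (g c) (hY b hb b hb) * T a (f c) (hX a ha a ha) =
          T a (f c) (hX a ha a ha) * T b (g c) (hY b hb b hb) := gl_ext fun x => by
        simp only [Units.val_mul, ← mulVec_mulVec, T_mulVec, herm_add_left hF, herm_smul_left hF, hab,
          h_symm hF hab]
        module
      rw [e]; exact hA c
    · obtain ⟨G, hG, hGa, -, -, hGb⟩ := torus hAd
      exact Or.inl ⟨b, hb, hb0, root_of_scale hF hH _ _ hab hA hg hG hGa hGb hri⟩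
  -- a mixed root vector gives a pure one
  have pure : ∀ {a b : Vs}, a ∈ X → b ∈ Y → a ≠ 0 → b ≠ 0 → a + b ∈ root q H →
      (∃ b ∈ Y, b ≠ 0 ∧ b ∈ root q H) ∨ (∃ b ∈ X, b ≠ 0 ∧ b ∈ root q H) := by
    intro a b ha hb ha0 hb0 hr'
    have haa := hX a ha a ha
    have hbb := hY b hb b hb
    by_cases hab : h a b = 0
    · refine plane ha hb ha0 hb0 hab (fun d => d - d ^ q) (fun d => d - d ^ q) (fun c => ?_) (Or.inl ?_)
      · obtain ⟨d, hd⟩ : ∃ d, d = c - c ^ q := ⟨_, rfl⟩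
        have hdq : d ^ q = -d := by rw [hd, q_sub hF, pow_q_pow_q hF]; ring
        rw [← hd]
        obtain ⟨e, he, hex⟩ := hold a ha b hb hab (-d)
        have e' : e * T (a + b) d hr'.1 = T a d haa * T b d hbb := gl_ext fun x => by
          simp only [Units.val_mul, ← mulVec_mulVec, T_mulVec, hex, herm_add_left hF, herm_add_right hF,
            herm_smul_left hF, hab, h_symm hF hab, haa, hbb, q_neg hF, hdq]
          match_scalars <;> ring
        rw [← e']
        exact H.mul_mem he (hr'.2 d (by rw [hdq, add_neg_cancel]))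
      · intro d hd
        obtain ⟨τ, hτ⟩ := exists_trace_one hF
        exact ⟨τ * d, by
          rw [mul_pow, eq_neg_of_add_eq_zero_right hd]; linear_combination d * hτ⟩
    · set t := h a b with ht
      obtain ⟨a', z, hA⟩ := exists_adapted hF hX hY hsup hinf hdX ha (Y.smul_mem ((t ^ q)⁻¹) hb)
        (by rw [herm_smul_right hF, inv_pow, pow_q_pow_q hF, ← ht, inv_mul_cancel₀ hab])
      have hzz := hY z hA.b2Y z hA.b2Y
      have hba : h b a = t ^ q := (herm_conj hF a b).symm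
      have hshift : ∀ c : F, (a + b) + c • z ∈ root q H := by
        intro c
        obtain ⟨e, he, hex⟩ := hold a ha z hA.b2Y hA.o12 ((-(c / t ^ q)) ^ q)
        have h1 := root_map hH he hr'
        rw [hex] at h1
        convert h1 using 1
        simp only [herm_add_left hF, hA.o12, hY b hb z hA.b2Y, haa, hba, pow_q_pow_q hF]
        match_scalars <;> field_simp <;> ring
      have hz0 : z ≠ 0 := fun e => by
        have := hA.o22
        rw [e, h_zero_right hF] at this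
        exact zero_ne_one this
      refine Or.inl ⟨z, hA.b2Y, hz0, hzz, fun d hd => ?_⟩
      have hw : r * r - r ≠ 0 := by
        rw [show r * r - r = r * (r - 1) by ring]; exact mul_ne_zero hr (sub_ne_zero.mpr hr1)
      obtain ⟨k, hk⟩ : ∃ k, k = d / (r * r - r) := ⟨_, rfl⟩
      have hkq : k ^ q = -k := by
        rw [hk, div_pow, q_sub hF, mul_pow, hrq, eq_neg_of_add_eq_zero_right hd, neg_div]
      have hd' : d = k * (r * r - r) := by rw [hk, div_mul_cancel₀ _ hw]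
      have hzr : h (a + b) z = 0 := by rw [herm_add_left hF, hA.o12, hY b hb z hA.b2Y, add_zero]
      have e' : T (a + b + (0 : F) • z) (k * (r - 1)) (hshift 0).1 * T (a + b + (1 : F) • z) (-(k * r)) (hshift 1).1 *
          T (a + b + r • z) k (hshift r).1 = T z d hzz := gl_ext fun x => by
        have hzr' := h_symm hF hzr
        have hss := hr'.1
        simp only [herm_add_left hF, herm_add_right hF, hA.o12, hY b hb z hA.b2Y] at hzr hzr' hss
        simp only [Units.val_mul, ← mulVec_mulVec, T_mulVec, herm_add_left hF, herm_add_right hF,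
          herm_smul_left hF, herm_smul_right hF, haa, hbb, hba, ← ht, hA.o12, h_symm hF hA.o12,
          hY b hb z hA.b2Y, hY z hA.b2Y b hb, hzz, q_zero hF, one_pow, hrq]
        have htq : t ^ q = -t := by
          simp only [haa, hbb, hba, ← ht] at hss
          linear_combination hss
        rw [htq, hd']
        match_scalars <;> ring
      rw [← e']
      refine H.mul_mem (H.mul_mem ((hshift 0).2 _ ?_) ((hshift 1).2 _ ?_)) ((hshift r).2 _ ?_)
      · rw [mul_pow, q_sub hF, hrq, one_pow, hkq]; ring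
      · rw [q_neg hF, mul_pow, hrq, hkq]; ring
      · rw [hkq, add_neg_cancel]
  have hmix : h u₀ u₁ + h u₁ u₀ = 0 := by
    simpa [herm_add_left hF, herm_add_right hF, hX u₀ hu₀ u₀ hu₀, hY u₁ hu₁ u₁ hu₁, add_comm] using huu
  by_cases ht : h u₀ u₁ = 0
  · -- orthogonal components
    obtain ⟨a₂, b₁, hA⟩ := exists_adapted' hF hX hY hsup hinf hu₀ hu₁ hu₀n hu₁n ht
    have ev₀ := expand hF hdX hA hv₀
    have ev₁ := expand hF hdY (hA.flip hF) hv₁
    set γ := h v₀ u₁ with hγ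
    set ε := h v₁ u₀ with hε
    have hεγ : ε = -γ := by
      have h1 := h_symm hF huv
      simp only [herm_add_left hF, herm_add_right hF, hX v₀ hv₀ u₀ hu₀, hY v₁ hv₁ u₁ hu₁, ← hγ, ← hε,
        zero_add, add_zero] at h1
      linear_combination h1
    have q1 := h_symm hF ht
    have q2 := hX u₀ hu₀ u₀ hu₀
    have q3 := hY u₁ hu₁ u₁ hu₁
    by_cases hγ0 : γ = 0
    · set α := h v₀ b₁ with hα
      set β := h v₁ a₂ with hβ
      rw [hγ0, zero_smul, add_zero] at ev₀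
      rw [hεγ, hγ0, neg_zero, zero_smul, zero_add] at ev₁
      refine plane hu₀ hu₁ hu₀n hu₁n ht (fun c => c * α ^ q - c ^ q * α) (fun c => c * β ^ q - c ^ q * β)
        (fun c => ?_) ?_
      · obtain ⟨e₁, he₁, he₁x⟩ := hold u₀ hu₀ u₁ hu₁ ht (-(c * β ^ q - c ^ q * α))
        obtain ⟨e₂, he₂, he₂x⟩ := hP c
        have e' : e₁ * e₂ = T u₀ (c * α ^ q - c ^ q * α) q2 * T u₁ (c * β ^ q - c ^ q * β) q3 :=
          gl_ext fun x => by
            simp only [Units.val_mul, ← mulVec_mulVec, T_mulVec, he₁x, he₂x, ev₀, ev₁, herm_add_left hF,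
              herm_add_right hF, h_sub_left hF, herm_smul_left hF, herm_smul_right hF, ht, q1, q2, q3,
              q_neg hF, q_sub hF, mul_pow, pow_q_pow_q hF]
            match_scalars <;> ring
        rw [← e']
        exact H.mul_mem he₁ he₂
      · have sol : ∀ z : F, z ≠ 0 → ∀ d, d + d ^ q = 0 → ∃ c, c * z ^ q - c ^ q * z = d := by
          intro z hz d hd
          obtain ⟨τ, hτ⟩ := exists_trace_one hF
          refine ⟨τ * d / z ^ q, ?_⟩
          rw [div_mul_cancel₀ _ (pow_ne_zero _ hz), div_pow, pow_q_pow_q hF, div_mul_cancel₀ _ hz,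
            mul_pow, eq_neg_of_add_eq_zero_right hd]
          linear_combination d * hτ
        by_cases hα0 : α = 0
        · refine Or.inr (sol β fun hβ0 => hind 0 ?_)
          rw [ev₀, ev₁, hα0, hβ0]; simp
        · exact Or.inl (sol α hα0)
    · obtain ⟨c, hc⟩ := exists_moved hF
      obtain ⟨e, he, hex⟩ := hold u₀ hu₀ u₁ hu₁ ht c
      refine pure hu₀ hu₁ hu₀n hu₁n (root_of_move hF hH huu hvv huv hP he ?_ ?_)
      · rw [hex]; simp [herm_add_left hF, ht, q1, q2, q3]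
      · rw [hex]
        simp only [h_sub_right hF, herm_add_right hF, herm_smul_right hF, herm_add_left hF,
          hX v₀ hv₀ u₀ hu₀, hY v₁ hv₁ u₁ hu₁, hX v₀ hv₀ v₀ hv₀, hY v₁ hv₁ v₁ hv₁, ← hγ, ← hε,
          zero_add, add_zero, mul_pow, pow_q_pow_q hF]
        have h0 : h v₀ v₁ + h v₁ v₀ = 0 := by
          simpa [herm_add_left hF, herm_add_right hF, hX v₀ hv₀ v₀ hv₀, hY v₁ hv₁ v₁ hv₁, add_comm] using hvv
        rw [hεγ, q_neg hF]
        intro e0
        refine mul_ne_zero (mul_ne_zero hγ0 (pow_ne_zero q hγ0)) (sub_ne_zero.mpr hc.symm) ?_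
        linear_combination e0 - h0
  · -- hyperbolic components
    set t := h u₀ u₁ with htdef
    have htq : h u₁ u₀ = -t := by linear_combination hmix
    have htc : t ^ q = -t := by rw [← htq, ← herm_conj hF u₀ u₁]
    obtain ⟨a₂, b₂, hA⟩ := exists_adapted hF hX hY hsup hinf hdX hu₀ (Y.smul_mem ((t ^ q)⁻¹) hu₁)
      (by rw [herm_smul_right hF, inv_pow, pow_q_pow_q hF, ← htdef, inv_mul_cancel₀ ht])
    have ev₀ := expand hF hdX hA hv₀
    have ev₁ := expand hF hdY (hA.flip hF) hv₁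
    rw [herm_smul_right hF, inv_pow, pow_q_pow_q hF] at ev₀
    set γ := h v₀ b₂ with hγ
    set δ' := h v₁ a₂ with hδ'
    set α := t⁻¹ * h v₀ u₁ with hα
    have hv₁u : h v₁ u₀ = t ^ q * α := by
      have h1 := h_symm hF huv
      simp only [herm_add_left hF, herm_add_right hF, hX v₀ hv₀ u₀ hu₀, hY v₁ hv₁ u₁ hu₁, zero_add, add_zero] at h1
      rw [htc, hα]
      field_simp
      linear_combination h1
    have ev : v₀ + v₁ = α • (u₀ + u₁) + (γ • a₂ + δ' • b₂) := by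
      rw [ev₀, ev₁, hv₁u, smul_smul]
      match_scalars <;> field_simp
    have qa : h (u₀ + u₁) a₂ = 0 := by
      have h1 := hA.o21
      rw [herm_smul_right hF, inv_pow, pow_q_pow_q hF] at h1
      rw [herm_add_left hF, hX u₀ hu₀ a₂ hA.a2X, zero_add]
      exact h_symm hF ((mul_eq_zero.mp h1).resolve_left (inv_ne_zero ht))
    have qb : h (u₀ + u₁) b₂ = 0 := by rw [herm_add_left hF, hA.o12, hY u₁ hu₁ b₂ hA.b2Y, add_zero]
    have qa' := h_symm hF qa
    have qb' := h_symm hF qb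
    have paa := hX a₂ hA.a2X a₂ hA.a2X
    have pbb := hY b₂ hA.b2Y b₂ hA.b2Y
    have pba := h_one hF hA.o22
    have hskew : γ * δ' ^ q + δ' * γ ^ q = 0 := by
      have h1 := hvv
      rw [ev] at h1
      generalize u₀ + u₁ = U at h1 huu qa qb qa' qb'
      simp only [herm_add_left hF, herm_add_right hF, herm_smul_left hF, herm_smul_right hF, huu, qa, qb,
        qa', qb', paa, pbb, hA.o22, pba] at h1
      linear_combination h1
    have hGu : ∀ {G : GL (Fin n) F}, (G : Matrix (Fin n) (Fin n) F) *ᵥ u₀ = u₀ →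
        (G : Matrix (Fin n) (Fin n) F) *ᵥ ((t ^ q)⁻¹ • u₁) = (t ^ q)⁻¹ • u₁ →
        (G : Matrix (Fin n) (Fin n) F) *ᵥ (u₀ + u₁) = u₀ + u₁ := by
      intro G e1 e2
      rw [mulVec_smul] at e2
      rw [mulVec_add, e1, smul_right_injective _ (inv_ne_zero (pow_ne_zero q ht)) e2]
    obtain ⟨G, hG, hGa, hGb, hGa₂, hGb₂⟩ := torus hA
    have hGu' := hGu hGa hGb
    have hGv : (G : Matrix (Fin n) (Fin n) F) *ᵥ (v₀ + v₁) =
        α • (u₀ + u₁) + ((r * γ) • a₂ + (r⁻¹ * δ') • b₂) := by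
      rw [ev, mulVec_add, mulVec_smul, hGu', mulVec_add, mulVec_smul, mulVec_smul, hGa₂, hGb₂, smul_smul,
        smul_smul, mul_comm γ r, mul_comm δ' r⁻¹]
    have hμ : h (v₀ + v₁) ((G : Matrix (Fin n) (Fin n) F) *ᵥ (v₀ + v₁)) = γ * δ' ^ q * (r⁻¹ - r) := by
      rw [hGv, ev]
      generalize u₀ + u₁ = U at huu qa qb qa' qb' ⊢
      simp only [herm_add_left hF, herm_add_right hF, herm_smul_left hF, herm_smul_right hF, huu, qa, qb,
        qa', qb', paa, pbb, hA.o22, pba, mul_pow, inv_pow, hrq]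
      linear_combination r * hskew
    by_cases hγδ : γ * δ' ≠ 0
    · refine pure hu₀ hu₁ hu₀n hu₁n (root_of_move hF hH huu hvv huv hP hG hGu' ?_)
      rw [hμ]
      exact mul_ne_zero (mul_ne_zero (left_ne_zero_of_mul hγδ) (pow_ne_zero _ (right_ne_zero_of_mul hγδ))) hdiff
    push Not at hγδ
    have getw : ∀ (w : Vs) (k ρ : F), γ • a₂ + δ' • b₂ = k • w → k ≠ 0 → ρ ≠ 1 → ρ ^ q = ρ →
        (G : Matrix (Fin n) (Fin n) F) *ᵥ w = ρ • w → h w w = 0 → h (u₀ + u₁) w = 0 →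
        PairIn q H w (u₀ + u₁) := by
      intro w k ρ hw hk hρ hρq hGw hww huw
      refine PairIn.symm hF fun c => ?_
      have hm : ((ρ - 1) * k) ^ q ≠ 0 := pow_ne_zero _ (mul_ne_zero (sub_ne_zero.mpr hρ) hk)
      obtain ⟨x, hx⟩ : ∃ x, x * ((ρ - 1) * k) ^ q = c := ⟨c / _, div_mul_cancel₀ _ hm⟩
      have hP' := hP.map hF hH hG
      rw [hGu'] at hP'
      obtain ⟨g₁, hg₁, hg₁x⟩ := hP x
      obtain ⟨g₂, hg₂, hg₂x⟩ := hP' x
      refine ⟨g₂ * g₁⁻¹, H.mul_mem hg₂ (H.inv_mem hg₁), fun y => ?_⟩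
      rw [Units.val_mul, ← mulVec_mulVec]
      set z := ((g₁⁻¹ : GL (Fin n) F) : Matrix (Fin n) (Fin n) F) *ᵥ y with hz
      conv_rhs => rw [← mulVec_inv_mulVec g₁ y, ← hz, hg₁x]
      rw [hg₂x, ev, mulVec_add, mulVec_smul, hGu', hw, mulVec_smul, hGw, ← hx]
      have hwu := h_symm hF huw
      generalize u₀ + u₁ = U at huu huw hwu ⊢
      simp only [herm_add_left hF, herm_add_right hF, h_sub_left hF,
        herm_smul_left hF, herm_smul_right hF, huu, hww, huw, hwu, mul_pow, q_sub hF, hρq, one_pow,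
        pow_q_pow_q hF]
      match_scalars <;> ring
    obtain ⟨G', hG', hG'a₂, hG'b₂, hG'a, hG'b⟩ := torus (hA.swap hF)
    have hG'b' : (G' : Matrix (Fin n) (Fin n) F) *ᵥ u₁ = r⁻¹ • u₁ := by
      rw [mulVec_smul, smul_comm] at hG'b
      exact smul_right_injective _ (inv_ne_zero (pow_ne_zero q ht)) hG'b
    have hμ' : h (u₀ + u₁) ((G' : Matrix (Fin n) (Fin n) F) *ᵥ (u₀ + u₁)) ≠ 0 := by
      rw [mulVec_add, hG'a, hG'b']
      simp only [herm_add_left hF, herm_add_right hF, herm_smul_right hF, hX u₀ hu₀ u₀ hu₀,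
        hY u₁ hu₁ u₁ hu₁, ← htdef, htq, inv_pow, hrq]
      intro e0
      exact mul_ne_zero ht hdiff (by linear_combination e0)
    by_cases hδ0 : δ' = 0
    · have hγ0 : γ ≠ 0 := fun e => hind α (by rw [ev, e, hδ0]; simp)
      have hP2 := getw a₂ γ r (by rw [hδ0, zero_smul, add_zero]) hγ0 hr1 hrq hGa₂ paa qa
      exact Or.inr ⟨a₂, hA.a2X, fun e => by
        have := hA.o22; rw [e, h_zero_left hF] at this; exact zero_ne_one this,
        root_of_move hF hH paa huu qa' hP2 hG' hG'a₂ hμ'⟩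
    · have hγ0 : γ = 0 := (mul_eq_zero.mp hγδ).resolve_right hδ0
      have hP2 := getw b₂ δ' r⁻¹ (by rw [hγ0, zero_smul, zero_add]) hδ0 (fun e => hr1 (inv_eq_one.mp e))
        (by rw [inv_pow, hrq]) hGb₂ pbb qb
      exact Or.inl ⟨b₂, hA.b2Y, fun e => by
        have := hA.o22; rw [e, h_zero_right hF] at this; exact zero_ne_one this,
        root_of_move hF hH pbb huu qb' hP2 hG' hG'b₂ hμ'⟩

end

/-- The stabiliser of a pair of complementary totally singular subspaces is maximal. -/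
theorem isMaximalIn_pair_two {r : F} (hr : r ≠ 0) (hrq : r ^ q = r) (hr2 : r * r ≠ 1) (hn : n = 4) {k : ℕ} (hk : 2 * k = n) (D : Fin 2 → Submodule F Vs)
    (hD : Cfsg.Geo.IsMDecomposition k D)
    (hts : ∀ i, Cfsg.Geo.IsTotallySingularFor (Cfsg.hermForm n F q) (D i)) :
    Cfsg.Geo.IsMaximalIn (suGL n F q) (Cfsg.Geo.decompositionStabilizer D ⊓ suGL n F q) := by
  classical
  set X := D 0 with hXdef
  set Y := D 1 with hYdef
  have hX : ∀ u ∈ X, ∀ v ∈ X, h u v = 0 := fun u hu v hv => hts 0 u hu v hv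
  have hY : ∀ u ∈ Y, ∀ v ∈ Y, h u v = 0 := fun u hu v hv => hts 1 u hu v hv
  have hinf : X ⊓ Y = ⊥ := disjoint_iff.mp (hD.indep.pairwiseDisjoint (by simp : (0 : Fin 2) ≠ 1))
  have hsup : X ⊔ Y = ⊤ := by
    rw [eq_top_iff, ← hD.iSup_eq_top]
    refine iSup_le fun i => ?_
    fin_cases i
    · exact le_sup_left
    · exact le_sup_right
  have hinf' : Y ⊓ X = ⊥ := by rwa [inf_comm]
  have hsup' : Y ⊔ X = ⊤ := by rwa [sup_comm]
  have hdX : Module.finrank F X = k := hD.finrank_eq 0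
  have hdY : Module.finrank F Y = k := hD.finrank_eq 1
  obtain ⟨δ, hδ, hδ0⟩ := exists_skew_ne hF
  have hmap : ∀ (g : GL (Fin n) F) (i j : Fin 2),
      (∀ x ∈ D i, (g : Matrix (Fin n) (Fin n) F) *ᵥ x ∈ D j) →
      (D i).map (Matrix.toLin' (g : Matrix (Fin n) (Fin n) F)) = D j := by
    intro g i j h'
    have hinj : Function.Injective (Matrix.toLin' (g : Matrix (Fin n) (Fin n) F)) := by
      intro x y hxy
      have h3 := congrArg (((g⁻¹ : GL (Fin n) F) : Matrix (Fin n) (Fin n) F) *ᵥ ·) hxy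
      simpa [Matrix.toLin'_apply, inv_mulVec_mulVec] using h3
    refine Submodule.eq_of_le_of_finrank_eq ?_ ?_
    · rintro _ ⟨x, hx, rfl⟩
      rw [Matrix.toLin'_apply]; exact h' x hx
    · rw [← (Submodule.equivMapOfInjective _ hinj (D i)).finrank_eq, hD.finrank_eq, hD.finrank_eq]
  refine ⟨lt_of_le_of_ne inf_le_right fun e => ?_, fun H hMH hHK => ?_⟩
  · obtain ⟨x, hx, hx0⟩ := Submodule.exists_mem_ne_zero_of_ne_bot (show X ≠ ⊥ from fun e' => by
      rw [e', finrank_bot] at hdX; omega)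
    obtain ⟨p, hp, -, hxp⟩ := sep_dual hF hY hX hsup' hinf' (S := (⊥ : Submodule F Vs)) bot_le hx
      (fun h' => hx0 ((Submodule.mem_bot F).mp h'))
    obtain ⟨σ, hσ⟩ := (e.ge (T_mem hF x (hX x hx x hx) hδ)).1
    have h1 : p + δ • x ∈ D (σ 1) := by
      rw [← hσ 1]
      refine ⟨p, hp, ?_⟩
      rw [Matrix.toLin'_apply, T_mulVec, ← herm_conj hF x p, hxp, one_pow, mul_one]
    have h3 : ∀ i : Fin 2, i = 0 ∨ i = 1 := by decide
    rcases h3 (σ 1) with h' | h' <;> rw [h'] at h1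
    · have h4 : p ∈ X ⊓ Y := ⟨(Submodule.add_mem_iff_left X (X.smul_mem δ hx)).mp h1, hp⟩
      rw [hinf, Submodule.mem_bot] at h4
      rw [h4, h_zero_right hF] at hxp
      exact zero_ne_one hxp
    · have h4 : δ • x ∈ X ⊓ Y := ⟨X.smul_mem δ hx, (Submodule.add_mem_iff_right Y hp).mp h1⟩
      rw [hinf, Submodule.mem_bot] at h4
      exact smul_ne_zero hδ0 hx0 h4
  by_cases hle : H ≤ Cfsg.Geo.decompositionStabilizer D
  · exact Or.inl (le_antisymm (le_inf hle hHK) hMH)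
  right
  obtain ⟨g, hgH, hg⟩ := SetLike.not_le_iff_exists.mp hle
  have hold : ∀ a ∈ X, ∀ b ∈ Y, h a b = 0 → PairIn q H a b := by
    intro a ha b hb hab c
    have hv : h (c • a) (c • a) = 0 := hX _ (X.smul_mem c ha) _ (X.smul_mem c ha)
    have hbv : h b (c • a) = 0 := by rw [herm_smul_right hF, h_symm hF hab, mul_zero]
    set g₀ := glMk (eichlerMatrix q (c • a) b 0) (det_eichlerMatrix hF 0 hv hbv) with hg₀
    have hx : ∀ x : Vs, (g₀ : Matrix (Fin n) (Fin n) F) *ᵥ x =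
        x + (c * h x b) • a - (c ^ q * h x a) • b := fun x => by
      rw [hg₀, glMk_val, eichlerMatrix_mulVec, herm_smul_right hF]
      module
    refine ⟨g₀, hMH ⟨⟨1, fun i => hmap _ i _ fun x hxi => ?_⟩, glMk_mem _ _
      (eichlerMatrix_preserves hF hv hbv (by rw [q_zero hF, hY b hb b hb]; ring))⟩, hx⟩
    rw [hx, Equiv.Perm.one_apply]
    have h3 : ∀ i : Fin 2, i = 0 ∨ i = 1 := by decide
    rcases h3 i with rfl | rfl
    · rw [hX x hxi a ha, mul_zero, zero_smul, sub_zero]; exact X.add_mem hxi (X.smul_mem _ ha)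
    · rw [hY x hxi b hb, mul_zero, zero_smul, add_zero]; exact Y.sub_mem hxi (Y.smul_mem _ hb)
  have hold' : ∀ a ∈ Y, ∀ b ∈ X, h a b = 0 → PairIn q H a b := fun a ha b hb hab =>
    (hold b hb a ha (h_symm hF hab)).symm hF
  -- the image of some centre has two components
  obtain ⟨u₀, hu₀, u₁, hu₁, v₀, hv₀, v₁, hv₁, hu₀n, hu₁n, hP, huu, huv, hvv, hind⟩ :
      ∃ u₀ ∈ X, ∃ u₁ ∈ Y, ∃ v₀ ∈ X, ∃ v₁ ∈ Y, u₀ ≠ 0 ∧ u₁ ≠ 0 ∧ PairIn q H (u₀ + u₁) (v₀ + v₁) ∧
        h (u₀ + u₁) (u₀ + u₁) = 0 ∧ h (u₀ + u₁) (v₀ + v₁) = 0 ∧ h (v₀ + v₁) (v₀ + v₁) = 0 ∧ ∀ c : F, v₀ + v₁ ≠ c • (u₀ + u₁) := by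
    let gm := (g : Matrix (Fin n) (Fin n) F)
    have hinj : ∀ a b : Vs, gm *ᵥ a = gm *ᵥ b → a = b := fun a b h' => by
      have h3 := congrArg (((g⁻¹ : GL (Fin n) F) : Matrix (Fin n) (Fin n) F) *ᵥ ·) h'
      simpa [gm, inv_mulVec_mulVec] using h3
    have himg : ∃ a, (a ∈ X ∨ a ∈ Y) ∧ a ≠ 0 ∧ gm *ᵥ a ∉ X ∧ gm *ᵥ a ∉ Y := by
      by_contra hno
      push Not at hno
      have hone : ∀ i : Fin 2, ∃ j : Fin 2, ∀ x ∈ D i, gm *ᵥ x ∈ D j := by
        intro i
        have hcl : ∀ x ∈ D i, gm *ᵥ x ∈ X ∨ gm *ᵥ x ∈ Y := by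
          intro x hx
          rcases eq_or_ne x 0 with rfl | hx0
          · exact Or.inl (by rw [mulVec_zero]; exact X.zero_mem)
          by_cases h' : gm *ᵥ x ∈ X
          · exact Or.inl h'
          · have h3 : x ∈ X ∨ x ∈ Y := by
              fin_cases i
              · exact Or.inl hx
              · exact Or.inr hx
            exact Or.inr (hno x h3 hx0 h')
        by_cases hall : ∀ x ∈ D i, gm *ᵥ x ∈ X
        · exact ⟨0, hall⟩
        push Not at hall
        obtain ⟨y, hy, hyX⟩ := hall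
        refine ⟨1, fun x hx => ?_⟩
        rcases hcl x hx with h1 | h1
        · rcases hcl _ ((D i).add_mem hx hy) with h2 | h2
          · rw [mulVec_add] at h2
            exact absurd ((Submodule.add_mem_iff_right X h1).mp h2) hyX
          · rw [mulVec_add] at h2
            exact (Submodule.add_mem_iff_left Y ((hcl y hy).resolve_left hyX)).mp h2
        · exact h1
      choose σ hσ using hone
      refine hg ⟨Equiv.ofBijective σ ⟨fun i j hij => ?_, (Finite.injective_iff_surjective).mp (fun i j hij => ?_)⟩,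
        fun i => hmap g i _ (hσ i)⟩
      all_goals
        by_contra hne
        have h3 := hmap g i _ (hσ i)
        rw [hij, ← hmap g j _ (hσ j)] at h3
        have hinj' : Function.Injective (Matrix.toLin' gm) := fun a b h' => hinj a b (by
          simpa [Matrix.toLin'_apply] using h')
        have h4 := Submodule.map_injective_of_injective hinj' h3
        have h5 := hD.indep.pairwiseDisjoint hne
        rw [Function.onFun, h4, disjoint_self] at h5
        have h6 := hD.finrank_eq j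
        rw [h5, finrank_bot] at h6
        omega
    obtain ⟨a, haXY, ha0, haX, haY⟩ := himg
    obtain ⟨b, haa, hab, hbb, hpair, hbind⟩ :
        ∃ b, h a a = 0 ∧ h a b = 0 ∧ h b b = 0 ∧ PairIn q H a b ∧ ∀ c : F, b ≠ c • a := by
      have key : ∀ (P Q : Submodule F Vs), a ∈ P → (∀ u ∈ P, ∀ v ∈ P, h u v = 0) → P ⊓ Q = ⊥ →
          (∀ u ∈ Q, ∀ v ∈ Q, h u v = 0) → Module.finrank F Q = k → (∀ b ∈ Q, h a b = 0 → PairIn q H a b) →
          ∃ b, h a a = 0 ∧ h a b = 0 ∧ h b b = 0 ∧ PairIn q H a b ∧ ∀ c : F, b ≠ c • a := by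
        intro P Q haP hP hPQ hQts hQ hp
        let φ : Q →ₗ[F] F := (hermSesq hF n a).comp Q.subtype
        have h1 := φ.finrank_range_add_finrank_ker
        have h3 : Module.finrank F φ.range ≤ 1 := by simpa using Submodule.finrank_le φ.range
        have hker : φ.ker ≠ ⊥ := fun e => by rw [e, finrank_bot] at h1; omega
        obtain ⟨b, hb, hb0⟩ := Submodule.exists_mem_ne_zero_of_ne_bot hker
        have hab : h a b = 0 := h_symm hF (by simpa [φ] using hb)
        refine ⟨b, hP a haP a haP, hab, hQts b b.2 b b.2, hp b b.2 hab, fun c hc => hb0 (Subtype.ext ?_)⟩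
        have h4 : (b : Vs) ∈ P ⊓ Q := ⟨hc ▸ P.smul_mem c haP, b.2⟩
        rw [hPQ, Submodule.mem_bot] at h4
        exact h4
      rcases haXY with ha | ha
      · exact key X Y ha hX hinf hY hdY fun b hb hab => hold a ha b hb hab
      · exact key Y X ha hY hinf' hX hdX fun b hb hab => hold' a ha b hb hab
    have hP := hpair.map hF hHK hgH
    obtain ⟨u₀, hu₀, u₁, hu₁, hu⟩ := Submodule.mem_sup.mp (hsup.ge (Submodule.mem_top (x := gm *ᵥ a)))
    obtain ⟨v₀, hv₀, v₁, hv₁, hv⟩ := Submodule.mem_sup.mp (hsup.ge (Submodule.mem_top (x := gm *ᵥ b)))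
    refine ⟨u₀, hu₀, u₁, hu₁, v₀, hv₀, v₁, hv₁, fun e => ?_, fun e => ?_, by rw [hu, hv]; exact hP,
      by rw [hu, apply_K (hHK hgH), haa], by rw [hu, hv, apply_K (hHK hgH), hab],
      by rw [hv, apply_K (hHK hgH), hbb],
      fun c hc => hbind c (hinj _ _ ?_)⟩
    · exact haY (by rw [← hu, e, zero_add]; exact hu₁)
    · exact haX (by rw [← hu, e, add_zero]; exact hu₀)
    · rw [mulVec_smul, ← hu, ← hv, hc]
  -- a root vector in one of the subspaces
  have hroot : (∃ b ∈ Y, b ≠ 0 ∧ b ∈ root q H) ∨ (∃ b ∈ X, b ≠ 0 ∧ b ∈ root q H) := by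
    have hdX2 : Module.finrank F X = 2 := by omega
    have hdY2 : Module.finrank F Y = 2 := by omega
    exact exists_root_pure hF hX hY hsup hinf hdX2 hdY2 hHK hr hrq hr2
      (fun g hgK h0 h1 => hMH ⟨⟨1, fun i => hmap g i _ fun x hx => by
        rw [Equiv.Perm.one_apply]
        fin_cases i
        · exact h0 x hx
        · exact h1 x hx⟩, hgK⟩) hold hu₀ hu₁ hu₀n hu₁n hv₀ hv₁ huu hvv huv hP hind
  obtain ⟨s, hs, hsX, hsY⟩ := exists_swap hF hX hY hsup hinf
  have hsH : s ∈ H := hMH ⟨⟨Equiv.swap 0 1, fun i => hmap s i _ fun x hx => by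
    fin_cases i
    · simpa using hsX x hx
    · simpa using hsY x hx⟩, hs⟩
  obtain ⟨hXr, hYr⟩ : (∀ x ∈ X, x ∈ root q H) ∧ ∀ y ∈ Y, y ∈ root q H := by
    have hsne : ∀ b : Vs, b ≠ 0 → (s : Matrix (Fin n) (Fin n) F) *ᵥ b ≠ 0 := fun b hb h' => hb (by
      rw [← inv_mulVec_mulVec s b, h', mulVec_zero])
    rcases hroot with ⟨b, hb, hb0, hbr⟩ | ⟨b, hb, hb0, hbr⟩
    · have hy := fun y (hy : y ∈ Y) => root_all hF hX hY hsup hinf hHK hold hb hb0 hbr hy
      exact ⟨fun x hx => root_all hF hY hX hsup' hinf' hHK hold' (hsY b hb) (hsne b hb0)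
        (root_map hHK hsH hbr) hx, hy⟩
    · have hx := fun x (hx : x ∈ X) => root_all hF hY hX hsup' hinf' hHK hold' hb hb0 hbr hx
      exact ⟨hx, fun y hy => root_all hF hX hY hsup hinf hHK hold (hsX b hb) (hsne b hb0)
        (root_map hHK hsH hbr) hy⟩
  refine eq_suGL hF (by omega) (by omega) hHK fun v hv => ?_
  obtain ⟨a, ha, b, hb, rfl⟩ := Submodule.mem_sup.mp (hsup.ge (Submodule.mem_top (x := v)))
  by_cases hab : h a b = 0
  · rcases eq_or_ne a 0 with rfl | ha0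
    · rw [zero_add]; exact hYr b hb
    obtain ⟨p, hp, -, hap⟩ := sep_dual hF hY hX hsup' hinf' (S := (⊥ : Submodule F Vs)) bot_le ha
      (fun h' => ha0 ((Submodule.mem_bot F).mp h'))
    set b' := δ ^ q • p with hb'
    have hb'Y : b' ∈ Y := Y.smul_mem _ hp
    have hab' : h a b' = δ := by rw [hb', herm_smul_right hF, pow_q_pow_q hF, hap, mul_one]
    have hb'a : h b' a = δ ^ q := by rw [← herm_conj hF a b', hab']
    have h1 := root_add hF hHK (hXr a ha) (hYr b' hb'Y) (by rw [hab']; exact hδ0) (by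
      rw [herm_add_left hF, herm_add_right hF, herm_add_right hF, hX a ha a ha, hY b' hb'Y b' hb'Y, hab', hb'a]
      linear_combination hδ)
    have h3 := root_add hF hHK h1 (hYr (b - b') (Y.sub_mem hb hb'Y)) (by
      rw [herm_add_left hF, h_sub_right hF, hab, hab', hY b' hb'Y _ (Y.sub_mem hb hb'Y), zero_sub, add_zero]
      exact neg_ne_zero.mpr hδ0) (by rw [show a + b' + (b - b') = a + b by abel]; exact hv)
    rwa [show a + b' + (b - b') = a + b by abel] at h3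
  · exact root_add hF hHK (hXr a ha) (hYr b hb) hab hv

/-- A non-zero element of the fixed field whose square is not one. -/
theorem exists_real_sq_ne_one (hq : 4 ≤ q) : ∃ r : F, r ≠ 0 ∧ r ^ q = r ∧ r * r ≠ 1 := by
  classical
  obtain ⟨g, hg⟩ := IsCyclic.exists_generator (α := Fˣ)
  have ho : orderOf g = q ^ 2 - 1 := by
    rw [orderOf_eq_card_of_forall_mem_zpowers hg, Nat.card_eq_fintype_card, Fintype.card_units, hF]
  have hsq : q ^ 2 - 1 = (q + 1) * (q - 1) := by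
    have := Nat.sq_sub_sq q 1
    simpa using this
  refine ⟨((g ^ (q + 1) : Fˣ) : F), Units.ne_zero _, ?_, fun e => ?_⟩
  · rw [← Units.val_pow_eq_pow_val]
    congr 1
    rw [← pow_mul, show (q + 1) * q = (q + 1) * (q - 1) + (q + 1) by
      rw [← Nat.mul_succ, show (q - 1).succ = q by omega], pow_add, ← hsq, ← ho, pow_orderOf_eq_one, one_mul]
  · have h1 : g ^ ((q + 1) * 2) = 1 := by
      rw [pow_mul, pow_two]; exact Units.ext (by simpa using e)
    have h2 := orderOf_dvd_of_pow_eq_one h1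
    rw [ho, hsq] at h2
    have h3 := Nat.le_of_dvd (by omega) (Nat.dvd_of_mul_dvd_mul_left (by omega) h2)
    omega

omit hF in
/-- Clause 5: the stabiliser of two complementary totally singular planes is maximal in `SU₄(q)`. -/
theorem pair_four (hF : Fintype.card F = q ^ 2) (hq : 4 ≤ q) (D : Fin 2 → Submodule F (Fin 4 → F))
    (hD : Cfsg.Geo.IsMDecomposition 2 D)
    (hts : ∀ i, Cfsg.Geo.IsTotallySingularFor (Cfsg.hermForm 4 F q) (D i)) :
    Cfsg.Geo.IsMaximalIn (Cfsg.GU 4 F q ⊓ Cfsg.Geo.specialLinear (Fin 4) F)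
      (Cfsg.Geo.decompositionStabilizer D ⊓ (Cfsg.GU 4 F q ⊓ Cfsg.Geo.specialLinear (Fin 4) F)) := by
  obtain ⟨r, hr, hrq, hr2⟩ := exists_real_sq_ne_one hF hq
  exact isMaximalIn_pair_two hF hr hrq hr2 rfl (k := 2) rfl D hD hts

end Cfsg.Agent.Lib.GeoTypesSU4
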