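import Cfsg.Agent.Lib.GeoTypesSU4.SubfieldTools
import Cfsg.Agent.Lib.SUSubfield.Standard

/-!
A centre off the rational lines gives a new long root scalar, in dimension four.
-/

set_option autoImplicit false

namespace Cfsg.Agent.Lib.SUSubfield

open Matrix Cfsg.Agent.Lib Cfsg.Agent.Lib.SubfieldMax

variable {F : Type*} [Field F] [Finite F] {n : ℕ} {σ : F →+* F} {B : (Fin n → F) → (Fin n → F) → F}
  {K : Subfield F} {P : GL (Fin n) F} {M : Subgroup ((Fin n → F) ≃ₗ[F] (Fin n → F))}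

local notation "Vs" => (Fin n → F)
local notation "Ks" => (Fin n → K)
local notation "ρR" => ratVec K P

omit [Finite F] in
/-- An element of a field extension of odd prime degree which satisfies a quadratic equation is in the base. -/
theorem mem_of_quadratic [Finite F] {r : ℕ} (hr : r.Prime) (hro : Odd r) (hcard : Nat.card F = Nat.card K ^ r)
    {x : F} (a b : K) (h : x * x = a + b * x) : x ∈ K := by
  let S : Subalgebra K F :=
    { carrier := {y | ∃ u v : K, y = u + v * x}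
      mul_mem' := by
        rintro _ _ ⟨u, v, rfl⟩ ⟨u', v', rfl⟩
        exact ⟨u * u' + v * v' * a, u * v' + v * u' + v * v' * b, by
          push_cast; linear_combination ((v : F) * v') * h⟩
      one_mem' := ⟨1, 0, by simp⟩
      add_mem' := by
        rintro _ _ ⟨u, v, rfl⟩ ⟨u', v', rfl⟩
        exact ⟨u + u', v + v', by push_cast; ring⟩
      zero_mem' := ⟨0, 0, by simp⟩
      algebraMap_mem' := fun k => ⟨k, 0, by show (k : F) = k + ((0 : K) : F) * x; simp⟩ }
  haveI : Module.Finite K F := Module.Finite.of_finite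
  haveI : Finite K := Subtype.finite
  have hdim : Module.finrank K F = r := by
    have h := Module.natCard_eq_pow_finrank (K := K) (V := F)
    rw [hcard] at h
    exact (Nat.pow_right_injective Finite.one_lt_card h).symm
  have hx : x ∈ S := ⟨0, 1, by simp⟩
  rcases (Subalgebra.isSimpleOrder_of_finrank_prime K F (hdim ▸ hr)).eq_bot_or_eq_top S with e | e
  · obtain ⟨k, hk⟩ := Algebra.mem_bot.mp (e ▸ hx)
    exact hk ▸ k.2
  · exfalso
    have hsurj : Function.Surjective (fun p : K × K => (p.1 : F) + p.2 * x) := fun y => by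
      obtain ⟨u, v, hy⟩ := (e ▸ Algebra.mem_top : y ∈ S)
      exact ⟨(u, v), hy.symm⟩
    have h1 := Nat.card_le_card_of_surjective _ hsurj
    rw [Nat.card_prod, hcard, ← sq] at h1
    have h2 := (Nat.pow_le_pow_iff_right (Finite.one_lt_card (α := K))).mp h1
    have := hr.two_le
    obtain ⟨m, rfl⟩ := hro
    omega

namespace UData

variable (D : UData σ B K P)
include D

omit [Finite F] in
/-- Two centres differing along a rational isotropic vector give a root element with that centre. -/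
theorem eich_of_centres {t : Ks} (ht : D.rB t t = 0) {v : Vs} {lam : F} (hv : Centre σ B K M v)
    (hv' : Centre σ B K M (v + lam • ρR t)) (htv : B (ρR t) v = 0) {a : F} (ha : a ∈ K) (ha' : a + σ a = 0) :
    HasEich B M (ρR t) ((a * σ lam) • v) (a * lam * σ lam) := by
  obtain ⟨gA, hgA, eA⟩ := hv'.2 a ha ha'
  obtain ⟨gB, hgB, eB⟩ := hv.2 (-a) (K.neg_mem ha) (by rw [map_neg]; linear_combination -ha')
  refine ⟨gA * gB, M.mul_mem hgA hgB, fun x => ?_⟩
  have hvt : B v (ρR t) = 0 := by rw [← D.herm.symm, htv, map_zero]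
  have haσ : σ a = -a := by linear_combination ha'
  rw [LinearEquiv.mul_apply, eB, eA]
  simp only [D.herm.zero_right, D.herm.add_left, D.herm.add_right, D.herm.smul_left, D.herm.smul_right, hv.1,
    hvt, htv, D.B_rat_zero ht, map_mul, D.herm.invol, haσ, smul_zero, add_zero, sub_zero]
  match_scalars <;> ring

/-- A root element with rational centre whose vector has a product outside `K`. -/
theorem long_of_eich (hO : Over D M) (hn : 4 ≤ n) (hno : ∀ s : F, LongRoot D M s → s ∈ K) {t : Ks} (ht0 : t ≠ 0)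
    (ht : D.rB t t = 0) {y : Vs} {c : F} (hy : B y (ρR t) = 0) (hc : c + σ c + B y y = 0)
    (h : HasEich B M (ρR t) y c) {z : Ks} (hz : D.rB z t = 0) : B y (ρR z) ∈ K := by
  obtain ⟨o, ho, hne⟩ := D.nontrivK
  have key : ∀ k : K, B y (ρR z) * σ k - k * σ (B y (ρR z)) ∈ K := by
    intro k
    obtain ⟨d, hd⟩ := D.rherm.exists_fill (k • z)
    have hkz : D.rB (k • z) t = 0 := by rw [D.rherm.smul_left, hz, mul_zero]
    have h2 := D.hasEich_rat hO ht hkz (c := d) hd
    have hdF : (d : F) + σ d + B (ρR (k • z)) (ρR (k • z)) = 0 := congrArg Subtype.val hd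
    have h3 := hasEich_comm D.herm (D.B_rat_zero ht) hy (D.B_rat_zero hkz) hc hdF h h2
    refine hno _ (D.long_of_one hO hn (by rw [map_sub, map_mul, map_mul, D.herm.invol, D.herm.invol]; ring)
      ht0 ht ?_)
    refine hasEich_congr rfl ?_ h3
    rw [ratVec_smul, D.herm.smul_right, D.herm.smul_left, D.herm.symm]
    ring
  have e : B y (ρR z) * (σ o - o) = (B y (ρR z) * σ o - o * σ (B y (ρR z))) -
      o * (B y (ρR z) * σ ((1 : K) : F) - ((1 : K) : F) * σ (B y (ρR z))) := by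
    rw [show ((1 : K) : F) = 1 from rfl, map_one]; ring
  rw [← mul_div_cancel_right₀ (B y (ρR z)) (sub_ne_zero.mpr hne), e]
  exact K.div_mem (K.sub_mem (key ⟨o, ho⟩) (K.mul_mem ho (key 1))) (K.sub_mem (D.stab o ho) ho)

theorem exists_long_notMem (hO : Over D M) (hn : 4 ≤ n) {w : Vs} (hw : Centre σ B K M w)
    (hirr : ¬ IsRatLine K P w) {t : Ks} (ht : D.rB t t = 0) (ht0 : t ≠ 0) (htw : B (ρR t) w = 0) :
    ∃ s, s ∉ K ∧ LongRoot D M s := by
  by_contra hno
  push Not at hno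
  have hno' : ∀ s : F, LongRoot D M s → s ∈ K := fun s hs => by by_contra h; exact hno s h hs
  obtain ⟨a, ha0, ha⟩ := D.rherm.exists_skew
  have ha' : (a : F) + σ a = 0 := congrArg Subtype.val ha
  have haF : (a : F) ≠ 0 := fun e => ha0 (Subtype.ext e)
  have haσ : σ (a : F) = -(a : F) := by linear_combination ha'
  have hwt : B w (ρR t) = 0 := by rw [← D.herm.symm, htw, map_zero]
  -- the products of the values of `w`
  have hK : ∀ x z : Ks, D.rB x t = 0 → D.rB z t = 0 → B (ρR x) w * σ (B (ρR z) w) ∈ K := by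
    intro x z hx hz
    obtain ⟨d, hd⟩ := D.rherm.exists_fill x
    obtain ⟨e, he, ee⟩ := D.hasEich_rat hO ht hx (c := d) hd
    have ew : e w = w + (-σ (B (ρR x) w)) • ρR t := by
      rw [ee, hwt, D.herm.symm]; simp
    have hw' := D.centre_map hO he hw
    rw [ew] at hw'
    have h := D.eich_of_centres ht hw hw' htw a.2 ha'
    have h1 := D.long_of_eich hO hn hno' ht0 ht (by rw [D.herm.smul_left, hwt, mul_zero]) (by
      simp only [map_mul, map_neg, D.herm.invol, haσ, D.herm.smul_left, D.herm.smul_right, hw.1]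
      ring) h hz
    rw [D.herm.smul_left, map_neg, D.herm.invol, ← D.herm.symm (ρR z) w] at h1
    have h2 : B (ρR x) w * σ (B (ρR z) w) = (a : F) * -B (ρR x) w * σ (B (ρR z) w) / -(a : F) := by
      field_simp
    rw [h2]
    exact K.div_mem h1 (K.neg_mem a.2)
  obtain ⟨μ, hμ, hμN⟩ : ∃ μ : F, (∀ u, D.rB u t = 0 → ∃ k : K, B (ρR u) w = k * μ) ∧ μ * σ μ ∈ K := by
    by_cases hall : ∀ s, D.rB s t = 0 → B (ρR s) w = 0
    · exact ⟨0, fun s h2 => ⟨0, by rw [hall s h2, mul_zero]⟩, by simp⟩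
    push Not at hall
    obtain ⟨s₀, h2, hne⟩ := hall
    refine ⟨B (ρR s₀) w, fun s g2 => ⟨⟨_, K.div_mem (hK s s₀ g2 h2) (hK s₀ s₀ h2 h2)⟩, ?_⟩, hK s₀ s₀ h2 h2⟩
    have : σ (B (ρR s₀) w) ≠ 0 := (map_ne_zero σ).mpr hne
    show _ = B (ρR s) w * σ (B (ρR s₀) w) / (B (ρR s₀) w * σ (B (ρR s₀) w)) * B (ρR s₀) w
    field_simp
  obtain ⟨r₀, hr₀⟩ := D.exists_dual (u := ![t]) (linearIndependent_unique_iff.mpr (by simpa using ht0)) ![1]
  have hr₀' : D.rB r₀ t = 1 := hr₀ 0
  set pr : Ks → Ks := fun u => u - D.rB u t • r₀ with hpr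
  have hpr0 : ∀ u, D.rB (pr u) t = 0 := fun u => by
    rw [hpr, D.rherm.sub_left, D.rherm.smul_left, hr₀', mul_one, sub_self]
  have hdiv : ∀ u, D.rB u t = 0 → B (ρR u) w / μ ∈ K ∧ B (ρR u) w / μ * μ = B (ρR u) w := by
    intro u hu
    obtain ⟨k, hk⟩ := hμ u hu
    rw [hk]
    by_cases hμ0 : μ = 0
    · simp [hμ0, K.zero_mem]
    · rw [mul_div_assoc, div_self hμ0, mul_one]
      exact ⟨k.2, rfl⟩
  let φ : Ks →ₗ[K] K :=
    { toFun := fun u => ⟨_, (hdiv _ (hpr0 u)).1⟩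
      map_add' := fun u v => Subtype.ext (by
        show B (ρR (pr (u + v))) w / μ = _ + _
        rw [show pr (u + v) = pr u + pr v by simp [hpr, D.rherm.add_left, add_smul]; abel, ratVec_add,
          D.herm.add_left, add_div])
      map_smul' := fun c u => Subtype.ext (by
        show B (ρR (pr (c • u))) w / μ = (c : F) * _
        rw [show pr (c • u) = c • pr u by simp [hpr, D.rherm.smul_left, smul_sub, smul_smul], ratVec_smul,
          D.herm.smul_left, mul_div_assoc]) }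
  obtain ⟨b, hb⟩ := D.rgood.exists_vec φ
  have hLb : ∀ u, B (ρR (pr u)) w = B (ρR u) (ρR b) * μ := fun u => by
    have h1 := congrArg Subtype.val (hb u)
    rw [rSesq_apply] at h1
    change B (ρR u) (ρR b) = B (ρR (pr u)) w / μ at h1
    rw [h1, (hdiv _ (hpr0 u)).2]
  set ν := B (ρR r₀) w with hν
  have hL : ∀ u, B (ρR u) w = B (ρR u) (ρR b) * μ + B (ρR u) (ρR t) * ν := fun u => by
    rw [← hLb, hpr, ratVec_sub, ratVec_smul, D.herm.sub_left, D.herm.smul_left, coe_rB, hν]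
    ring
  have e : w = σ μ • ρR b + σ ν • ρR t := by
    refine sub_eq_zero.mp (D.eq_zero_of_rat fun u => ?_)
    rw [D.herm.sub_right, D.herm.add_right, D.herm.smul_right, D.herm.smul_right, D.herm.invol, D.herm.invol, hL]
    ring
  have hμ0 : μ ≠ 0 := fun e0 => hirr ⟨σ ν, t, by rw [e, e0, map_zero, zero_smul, zero_add]⟩
  have hbt : LinearIndependent K ![t, b] := indep_two ht0 fun h => by
    obtain ⟨k, rfl⟩ := Submodule.mem_span_singleton.mp h
    exact hirr ⟨σ μ * k + σ ν, t, by rw [e, ratVec_smul, smul_smul, add_smul]⟩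
  have htb : D.rB t b = 0 := by
    apply Subtype.ext
    have h1 := hLb t
    rw [show pr t = t by simp [hpr, ht], htw] at h1
    rw [coe_rB]
    exact (mul_eq_zero.mp h1.symm).resolve_right hμ0
  have hbb : D.rB b b = 0 := by
    apply Subtype.ext
    have h1 := hw.1
    rw [e] at h1
    simp only [D.herm.add_left, D.herm.add_right, D.herm.smul_left, D.herm.smul_right, D.herm.invol,
      D.B_rat_zero ht, D.B_rat_zero htb, D.B_rat_zero (D.rB_symm_zero htb), mul_zero, add_zero] at h1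
    rw [coe_rB]
    simpa [hμ0, mul_eq_zero] using h1
  -- the centre scaled to `b + κ t`
  set κ := σ ν / σ μ with hκ
  have hσμ : σ μ ≠ 0 := (map_ne_zero σ).mpr hμ0
  have ev : w = σ μ • (ρR b + κ • ρR t) := by rw [smul_add, smul_smul, hκ, mul_div_cancel₀ _ hσμ, ← e]
  have hb' := D.centre_rat hO hbb
  have hv' : Centre σ B K M (ρR b + κ • ρR t) := by
    refine ⟨?_, fun x hx hx' => ?_⟩
    · simp only [D.herm.add_left, D.herm.add_right, D.herm.smul_left, D.herm.smul_right, D.B_rat_zero hbb,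
        D.B_rat_zero ht, D.B_rat_zero htb, D.B_rat_zero (D.rB_symm_zero htb), mul_zero, add_zero]
    · have h1 := hw.2 (x / (μ * σ μ)) (K.div_mem hx hμN) (by
        rw [map_div₀, map_mul, D.herm.invol, mul_comm (σ μ) μ]; field_simp; linear_combination hx')
      rw [ev, hasEich_smul_centre D.herm, D.herm.invol] at h1
      refine hasEich_congr rfl ?_ h1
      field_simp
  have h := D.eich_of_centres ht hb' hv' (D.B_rat_zero htb) a.2 ha'
  obtain ⟨z, hz, hzb, hzt⟩ := D.exists_partner' hbt hbb htb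
  have h1 := D.long_of_eich hO hn hno' ht0 ht
    (by rw [D.herm.smul_left, D.B_rat_zero (D.rB_symm_zero htb), mul_zero]) (by
      simp only [map_mul, D.herm.invol, haσ, D.herm.smul_left, D.herm.smul_right, D.B_rat_zero hbb]
      ring) h hzt
  rw [D.herm.smul_left, ← D.herm.symm, D.B_rat_one hzb, map_one, mul_one] at h1
  have hκK : κ ∈ K := by
    have h2 := D.stab _ (K.div_mem h1 a.2)
    rwa [mul_div_cancel_left₀ _ haF, D.herm.invol] at h2
  exact hirr ⟨σ μ, b + (⟨κ, hκK⟩ : K) • t, by rw [ev, ratVec_add, ratVec_smul]⟩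

theorem exists_plane_four (hn : 4 ≤ n) {w : Vs}
    (hfull : ∀ t : Ks, D.rB t t = 0 → t ≠ 0 → B (ρR t) w ≠ 0) : ∃ π₁ π₂, Plane D w π₁ π₂ := by
  obtain ⟨x, y, hli, hx, hy, hxy⟩ := D.exists_iso_pair_four hn
  have hq := D.ratio_notMem hfull hli hx hy hxy
  rw [LinearIndependent.pair_iff] at hli
  have hx0 : x ≠ 0 := fun e => one_ne_zero (hli 1 0 (by simp [e])).1
  have hlx := hfull x hx hx0
  have hσx : σ (B (ρR x) w) ≠ 0 := (map_ne_zero σ).mpr hlx
  set q := B (ρR y) w / B (ρR x) w with hqdef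
  by_cases hN : q * σ q ∈ K
  swap
  · refine ⟨x, y, LinearIndependent.pair_iff.mpr hli, hx, hy, hxy, hlx, fun h => hN ?_⟩
    rwa [hqdef, map_div₀, div_mul_div_comm]
  by_contra hno
  have hk : ∀ k : K, (k : F) * q + σ k * σ q ∈ K := by
    intro k
    by_contra hk
    by_cases hk0 : k = 0
    · subst hk0; exact hk (by simp [K.zero_mem])
    refine hno ⟨x, x + k • y, ?_, hx, ?_, ?_, hlx, fun h => hk ?_⟩
    · rw [LinearIndependent.pair_iff]
      intro a b e
      obtain ⟨h1, h2⟩ := hli (a + b) (b * k) (by rw [← e]; module)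
      have hb : b = 0 := (mul_eq_zero.mp h2).resolve_right hk0
      exact ⟨by simpa [hb] using h1, hb⟩
    · simp [D.rherm.add_left, D.rherm.add_right, D.rherm.smul_left, D.rherm.smul_right, hx, hy, hxy,
        D.rB_symm_zero hxy]
    · simp [D.rherm.add_right, D.rherm.smul_right, hx, hxy]
    · have e : B (ρR (x + k • y)) w * σ (B (ρR (x + k • y)) w) / (B (ρR x) w * σ (B (ρR x) w))
          = (1 + (k : F) * q) * (1 + σ k * σ q) := by
        rw [ratVec_add, ratVec_smul, D.herm.add_left, D.herm.smul_left, hqdef, map_div₀, map_add, map_mul]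
        field_simp
      rw [e] at h
      rw [show (k : F) * q + σ k * σ q
        = (1 + (k : F) * q) * (1 + σ k * σ q) - 1 - (k : F) * σ k * (q * σ q) by ring]
      exact K.sub_mem (K.sub_mem h K.one_mem) (K.mul_mem (K.mul_mem k.2 (D.stab k k.2)) hN)
  obtain ⟨o, ho, hne⟩ := D.nontrivK
  apply hq
  have h1 : q + σ q ∈ K := by simpa using hk 1
  have h2 := hk ⟨o, ho⟩
  have e : q = ((o * q + σ o * σ q) - σ o * (q + σ q)) / (o - σ o) := by
    rw [eq_div_iff (sub_ne_zero.mpr hne.symm)]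
    ring
  rw [e]
  exact K.div_mem (K.sub_mem h2 (K.mul_mem (D.stab o ho) h1)) (K.sub_mem ho (D.stab o ho))

theorem exists_centre_caseA_four (hO : Over D M) (hn : 4 ≤ n) {r : ℕ} (hr : r.Prime) (hro : Odd r)
    (hcard : Nat.card F = Nat.card K ^ r) {w : Vs} (hw : Centre σ B K M w)
    (hfull : ∀ t : Ks, D.rB t t = 0 → t ≠ 0 → B (ρR t) w ≠ 0) :
    ∃ z, Centre σ B K M z ∧ ¬ IsRatLine K P z ∧
      ∃ t : Ks, D.rB t t = 0 ∧ t ≠ 0 ∧ B (ρR t) z = 0 := by
  obtain ⟨π₁, π₂, hp⟩ := D.exists_plane_four hn hfull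
  obtain ⟨g, hg, α₁, α₂, hα, hgs⟩ := D.exists_plane_move hO hw hp
  set κ := B (ρR π₂) w / B (ρR π₁) w with hκ
  have hκK : κ ∉ K := D.ratio_notMem hfull hp.indep hp.iso₁ hp.iso₂ hp.perp
  have e1 : g (ρR π₁) = (1 + α₁) • ρR π₁ + α₂ • ρR π₂ := by
    rw [hgs π₁ hp.iso₁ hp.perp, div_self hp.ne₁]; module
  have e2 : g (ρR π₂) = (κ * α₁) • ρR π₁ + (1 + κ * α₂) • ρR π₂ := by
    rw [hgs π₂ (D.rB_symm_zero hp.perp) hp.iso₂]; module
  have hπ₁ : π₁ ≠ 0 := fun e => hp.ne₁ (by rw [e, ratVec_zero, D.herm.zero_left])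
  by_contra hno
  obtain ⟨r₁, hr₁⟩ := D.exists_dual hp.indep ![1, 0]
  obtain ⟨r₂, hr₂⟩ := D.exists_dual hp.indep ![0, 1]
  have f11 : B (ρR π₁) (ρR r₁) = 1 := by
    rw [← D.herm.symm, D.B_rat_one (show D.rB r₁ π₁ = 1 from hr₁ 0), map_one]
  have f21 : B (ρR π₂) (ρR r₁) = 0 := by
    rw [← D.herm.symm, D.B_rat_zero (show D.rB r₁ π₂ = 0 from hr₁ 1), map_zero]
  have f12 : B (ρR π₁) (ρR r₂) = 0 := by
    rw [← D.herm.symm, D.B_rat_zero (show D.rB r₂ π₁ = 0 from hr₂ 0), map_zero]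
  have f22 : B (ρR π₂) (ρR r₂) = 1 := by
    rw [← D.herm.symm, D.B_rat_one (show D.rB r₂ π₂ = 1 from hr₂ 1), map_one]
  -- the images of rational isotropic vectors of the plane stay on rational lines
  have key : ∀ x y : K, ∃ l : F, ∃ a b : K,
      (x : F) * (1 + α₁) + (y : F) * (κ * α₁) = l * a ∧ (x : F) * α₂ + (y : F) * (1 + κ * α₂) = l * b := by
    intro x y
    have hs : D.rB (x • π₁ + y • π₂) (x • π₁ + y • π₂) = 0 := by
      simp [D.rherm.add_left, D.rherm.add_right, D.rherm.smul_left, D.rherm.smul_right, hp.iso₁, hp.iso₂,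
        hp.perp, D.rB_symm_zero hp.perp]
    have hgx : g (ρR (x • π₁ + y • π₂)) =
        ((x : F) * (1 + α₁) + (y : F) * (κ * α₁)) • ρR π₁ + ((x : F) * α₂ + (y : F) * (1 + κ * α₂)) • ρR π₂ := by
      rw [ratVec_add, ratVec_smul, ratVec_smul, map_add, map_smul, map_smul, e1, e2]; module
    obtain ⟨l, u, hlu⟩ : IsRatLine K P (g (ρR (x • π₁ + y • π₂))) := by
      by_contra hirr
      refine hno ⟨_, D.centre_map hO hg (D.centre_rat hO hs), hirr, π₁, hp.iso₁, hπ₁, ?_⟩
      rw [hgx, D.herm.add_right, D.herm.smul_right, D.herm.smul_right, D.B_rat_zero hp.iso₁,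
        D.B_rat_zero hp.perp]
      ring
    rw [hgx] at hlu
    refine ⟨l, D.rB u r₁, D.rB u r₂, ?_, ?_⟩
    · have h := congrArg (fun z => B z (ρR r₁)) hlu
      simp only [D.herm.add_left, D.herm.smul_left, f11, f21, mul_zero, mul_one, add_zero] at h
      rw [coe_rB]; exact h
    · have h := congrArg (fun z => B z (ρR r₂)) hlu
      simp only [D.herm.add_left, D.herm.smul_left, f12, f22, mul_zero, mul_one, zero_add] at h
      rw [coe_rB]; exact h
  obtain ⟨l₁, a₁, b₁, k11, k12⟩ := key 1 0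
  obtain ⟨l₂, a₂, b₂, k21, k22⟩ := key 0 1
  obtain ⟨l₃, a₃, b₃, k31, k32⟩ := key 1 1
  simp only [show ((1 : K) : F) = 1 from rfl, show ((0 : K) : F) = 0 from rfl, one_mul, zero_mul, add_zero,
    zero_add] at k11 k12 k21 k22 k31 k32
  -- the determinant of the plane map
  have hdet : (1 + α₁) * (1 + κ * α₂) - α₂ * (κ * α₁) ≠ 0 := by
    intro e0
    have h1 : g ((1 + κ * α₂) • ρR π₁ - α₂ • ρR π₂) = 0 := by
      rw [map_sub, map_smul, map_smul, e1, e2]
      match_scalars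
      · linear_combination e0
      · ring
    have h2 := g.map_eq_zero_iff.mp h1
    have h3 := congrArg (fun z => B z (ρR r₁)) h2
    have h4 := congrArg (fun z => B z (ρR r₂)) h2
    simp only [D.herm.sub_left, D.herm.smul_left, f11, f12, f21, f22, mul_zero, mul_one, sub_zero, zero_sub,
      D.herm.zero_left, neg_eq_zero] at h3 h4
    rw [h4, mul_zero, add_zero] at h3
    exact one_ne_zero h3
  rw [k11, k22, k12, k21] at hdet
  have hΔ : (a₁ : F) * b₂ - a₂ * b₁ ≠ 0 := fun e0 => hdet (by linear_combination (l₁ * l₂) * e0)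
  have hl₁ : l₁ ≠ 0 := fun e0 => hdet (by rw [e0]; ring)
  have hl₂ : l₂ ≠ 0 := fun e0 => hdet (by rw [e0]; ring)
  have m1 : l₁ * a₁ + l₂ * a₂ = l₃ * a₃ := by linear_combination k31 - k11 - k21
  have m2 : l₁ * b₁ + l₂ * b₂ = l₃ * b₃ := by linear_combination k32 - k12 - k22
  have n1 : l₁ * ((a₁ : F) * b₂ - a₂ * b₁) = l₃ * (a₃ * b₂ - a₂ * b₃) := by
    linear_combination (b₂ : F) * m1 - (a₂ : F) * m2
  have n2 : l₂ * ((a₁ : F) * b₂ - a₂ * b₁) = l₃ * (a₁ * b₃ - a₃ * b₁) := by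
    linear_combination (a₁ : F) * m2 - (b₁ : F) * m1
  have hl₃ : l₃ ≠ 0 := fun e0 => by
    rw [e0, zero_mul] at n1; exact mul_ne_zero hl₁ hΔ n1
  have hd1 : (a₃ : F) * b₂ - a₂ * b₃ ≠ 0 := fun e0 => by
    rw [e0, mul_zero] at n1; exact mul_ne_zero hl₁ hΔ n1
  obtain ⟨c, hc, rfl⟩ : ∃ c ∈ K, l₂ = c * l₁ := by
    refine ⟨(a₁ * b₃ - a₃ * b₁ : F) / (a₃ * b₂ - a₂ * b₃),
      K.div_mem (K.sub_mem (K.mul_mem a₁.2 b₃.2) (K.mul_mem a₃.2 b₁.2))
        (K.sub_mem (K.mul_mem a₃.2 b₂.2) (K.mul_mem a₂.2 b₃.2)), ?_⟩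
    refine mul_left_cancel₀ hd1 ?_
    rw [← mul_assoc, mul_div_cancel₀ _ hd1]
    refine mul_right_cancel₀ hΔ ?_
    linear_combination ((a₃ : F) * b₂ - a₂ * b₃) * n2 - ((a₁ : F) * b₃ - a₃ * b₁) * n1
  have hl₁K : l₁ ∈ K := by
    rcases eq_or_ne α₂ 0 with h2 | h2
    · rw [h2, mul_zero, add_zero] at k22
      have : l₁ = 1 / (c * b₂) := by
        rw [eq_div_iff (fun e0 => one_ne_zero (k22.trans (by linear_combination l₁ * e0)))]
        linear_combination -k22
      rw [this]; exact K.div_mem K.one_mem (K.mul_mem hc b₂.2)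
    · have hq : l₁ * l₁ * ((a₁ : F) * c * b₂ - b₁ * c * a₂) - l₁ * (a₁ + c * b₂) + 1 = 0 := by
        linear_combination (-(l₁ * c * b₂) + 1) * k11 + (l₁ * c * a₂) * k12 + α₂ * k21 - α₁ * k22
      refine mem_of_quadratic hr hro hcard (-1 / (⟨_, K.sub_mem (K.mul_mem (K.mul_mem a₁.2 hc) b₂.2)
        (K.mul_mem (K.mul_mem b₁.2 hc) a₂.2)⟩ : K)) (⟨_, K.add_mem a₁.2 (K.mul_mem hc b₂.2)⟩ /
        (⟨_, K.sub_mem (K.mul_mem (K.mul_mem a₁.2 hc) b₂.2) (K.mul_mem (K.mul_mem b₁.2 hc) a₂.2)⟩ : K)) ?_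
      push_cast
      have hd : (a₁ : F) * c * b₂ - b₁ * c * a₂ ≠ 0 := by
        rw [show (a₁ : F) * c * b₂ - b₁ * c * a₂ = c * (a₁ * b₂ - a₂ * b₁) by ring]
        exact mul_ne_zero (left_ne_zero_of_mul hl₂) hΔ
      generalize (a₁ : F) * c * b₂ - b₁ * c * a₂ = A at hq hd ⊢
      field_simp
      linear_combination hq
  refine hκK ?_
  have hA1 : α₁ ∈ K := by
    rw [show α₁ = l₁ * a₁ - 1 by linear_combination k11]; exact K.sub_mem (K.mul_mem hl₁K a₁.2) K.one_mem
  have hA2 : α₂ ∈ K := k12 ▸ K.mul_mem hl₁K b₁.2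
  rcases eq_or_ne α₂ 0 with h2 | h2
  · have h1 : α₁ ≠ 0 := fun e => hα ⟨e, h2⟩
    rw [← mul_div_cancel_right₀ κ h1, k21]
    exact K.div_mem (K.mul_mem (K.mul_mem hc hl₁K) a₂.2) hA1
  · rw [← mul_div_cancel_right₀ κ h2, show κ * α₂ = c * l₁ * b₂ - 1 by linear_combination k22]
    exact K.div_mem (K.sub_mem (K.mul_mem (K.mul_mem hc hl₁K) b₂.2) K.one_mem) hA2

/-- An element not preserving the rational lines brings every transvection. -/
theorem transvection_mem_of_not_stab_four (hO : Over D M) (hn : 4 ≤ n) (r : ℕ) (hr : r.Prime) (hro : Odd r)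
    (hcard : Nat.card F = Nat.card K ^ r) {g : Vs ≃ₗ[F] Vs} (hg : g ∈ M)
    (hgK : ¬ ∃ l : F, l ≠ 0 ∧ ∀ u : Ks, ∃ v : Ks, g (ρR u) = l • ρR v) {v : Vs} (hv : B v v = 0)
    {d : F} (hd : d + σ d = 0) : HasEich B M v 0 d := by
  obtain ⟨w, hw, hirr⟩ := D.exists_centre_not_line hO hn hg hgK
  obtain ⟨z, hz, hzirr, t, ht, ht0, htz⟩ : ∃ z, Centre σ B K M z ∧ ¬ IsRatLine K P z ∧
      ∃ t : Ks, D.rB t t = 0 ∧ t ≠ 0 ∧ B (ρR t) z = 0 := by
    by_cases hperp : ∃ t : Ks, D.rB t t = 0 ∧ t ≠ 0 ∧ B (ρR t) w = 0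
    · exact ⟨w, hw, hirr, hperp⟩
    · push Not at hperp
      exact D.exists_centre_caseA_four hO hn hr hro hcard hw hperp
  obtain ⟨s, hs, hlong⟩ := D.exists_long_notMem hO hn hz hzirr ht ht0 htz
  have hall := D.good_all_four hO hn r hr hcard hs (D.good_of_long hO hlong)
  exact D.transvection_mem hO hn hall (fun b hb0 hb d hd => D.long_all hO hn hall hb0 hb hd) hv hd

end UData

/-- The subfield subgroup of odd prime index is maximal in `SU_n`, `4 ≤ n`. -/
theorem isMaximalIn_subfield_four {F : Type*} [Field F] [Fintype F] {n q : ℕ} (hF : Fintype.card F = q ^ 2)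
    (hn : 4 ≤ n) (K : Subfield F) (r : ℕ) (hr : r.Prime) (hro : Odd r)
    (hcard : Nat.card F = Nat.card K ^ r) (P : GL (Fin n) F)
    (hP : ∀ u v : Fin n → K, Cfsg.hermForm n F q (ratVec K P u) (ratVec K P v) ∈ K) :
    Cfsg.Geo.IsMaximalIn (Cfsg.GU n F q ⊓ Cfsg.Geo.specialLinear (Fin n) F)
      (Cfsg.Geo.subfieldSubgroup K P ⊓ (Cfsg.GU n F q ⊓ Cfsg.Geo.specialLinear (Fin n) F)) :=
  isMaximalIn_subfield_of_core hF hn K r hr hro hcard P hP
    fun D _ hO _ hg hgK _ hv _ hd => D.transvection_mem_of_not_stab_four hO hn r hr hro hcard hg hgK hv hd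

end Cfsg.Agent.Lib.SUSubfield
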