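import Cfsg.Agent.Lib.SUSubfield.Main

/-!
Short and long root scalars of an overgroup of a rational `SU_4`: they form a ring.
-/

set_option autoImplicit false

namespace Cfsg.Agent.Lib.SUSubfield

open Matrix Cfsg.Agent.Lib Cfsg.Agent.Lib.SubfieldMax

variable {F : Type*} [Field F] [Finite F] {n : ℕ} {σ : F →+* F} {B : (Fin n → F) → (Fin n → F) → F}
  {K : Subfield F} {P : GL (Fin n) F} {M : Subgroup ((Fin n → F) ≃ₗ[F] (Fin n → F))}

local notation "Vs" => (Fin n → F)
local notation "Ks" => (Fin n → K)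
local notation "ρR" => ratVec K P

/-- Skew scalars of the transvections with rational centres lying in the subgroup. -/
def LongRoot (D : UData σ B K P) (M : Subgroup ((Fin n → F) ≃ₗ[F] (Fin n → F))) (s : F) : Prop :=
  s + σ s = 0 ∧ ∀ u : Fin n → K, u ≠ 0 → D.rB u u = 0 → HasEich B M (ratVec K P u) 0 s

omit [Finite F] in
/-- The commutator of two elements with the same centre is a transvection. -/
theorem hasEich_comm (hS : Classical.HermSpace σ B) {u y z : Vs} {c d : F} (hu : B u u = 0) (hy : B y u = 0)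
    (hz : B z u = 0) (hc : c + σ c + B y y = 0) (hd : d + σ d + B z z = 0) (h1 : HasEich B M u y c)
    (h2 : HasEich B M u z d) : HasEich B M u 0 (B y z - B z y) := by
  have h12 := hasEich_mul hS hu hy hz h1 h2
  have h21 := hasEich_mul hS hu hz hy h2 h1
  have hzy : B (z + y) u = 0 := by rw [hS.add_left, hy, hz, add_zero]
  have h3 := hasEich_inv hS hu hzy (by
    rw [map_sub, map_add, hS.symm, hS.add_left, hS.add_right, hS.add_right]
    linear_combination hc + hd) h21
  have h4 := hasEich_mul hS hu (by rw [hS.add_left, hy, hz, add_zero])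
    (by rw [hS.neg_left, hzy, neg_zero]) h12 h3
  refine hasEich_congr (by abel) ?_ h4
  rw [map_sub, map_add, hS.symm, hS.neg_left, hS.add_left, hS.add_right, hS.add_right]
  linear_combination hc + hd

namespace UData

variable (D : UData σ B K P)
include D

theorem long_add {s s' : F} (h : LongRoot D M s) (h' : LongRoot D M s') : LongRoot D M (s + s') := by
  refine ⟨by rw [map_add]; linear_combination h.1 + h'.1, fun u hu0 hu => ?_⟩
  refine hasEich_congr (add_zero 0) ?_ (hasEich_mul D.herm (D.B_rat_zero hu) (D.herm.zero_left _)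
    (D.herm.zero_left _) (h.2 u hu0 hu) (h'.2 u hu0 hu))
  rw [D.herm.zero_left, sub_zero]

theorem long_neg {s : F} (h : LongRoot D M s) : LongRoot D M (-s) := by
  refine ⟨by rw [map_neg]; linear_combination -h.1, fun u hu0 hu => ?_⟩
  refine hasEich_congr neg_zero ?_ (hasEich_inv D.herm (D.B_rat_zero hu) (D.herm.zero_left _)
    (by rw [D.herm.zero_left, add_zero]; exact h.1) (h.2 u hu0 hu))
  linear_combination h.1

theorem long_rat (hO : Over D M) {a : K} (ha : (a : F) + σ a = 0) : LongRoot D M a :=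
  ⟨ha, fun _ _ hu => (D.centre_rat hO hu).2 a a.2 ha⟩

theorem long_norm (hO : Over D M) {s : F} (h : LongRoot D M s) (k : K) :
    LongRoot D M (s * ((k : F) * σ k)) := by
  refine ⟨by rw [map_mul, map_mul, D.herm.invol]; linear_combination ((k : F) * σ k) * h.1, fun u hu0 hu => ?_⟩
  by_cases hk : k = 0
  · have h0 := (D.long_rat hO (a := 0) (by simp)).2 u hu0 hu
    simpa [hk] using h0
  have h1 := h.2 (k • u) (smul_ne_zero hk hu0)
    (by rw [D.rherm.smul_left, D.rherm.smul_right, hu, mul_zero, mul_zero])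
  rwa [ratVec_smul, hasEich_smul_centre D.herm] at h1

theorem long_of_one (hO : Over D M) (hn : 4 ≤ n) {s : F} (hs : s + σ s = 0) {u₀ : Ks} (hu₀0 : u₀ ≠ 0)
    (hu₀ : D.rB u₀ u₀ = 0) (h : HasEich B M (ρR u₀) 0 s) : LongRoot D M s := by
  refine ⟨hs, fun u hu0 hu => ?_⟩
  obtain ⟨g, hg, hd, hrat, hgv⟩ := D.exists_rational_map (k := 1) (v := ![u₀]) (w := ![u]) (by omega)
    (linearIndependent_unique_iff.mpr (by simpa using hu₀0))
    (linearIndependent_unique_iff.mpr (by simpa using hu0))
    (fun i j => by fin_cases i; fin_cases j; simp [hu₀, hu])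
  have h1 := hasEich_conj D.herm hO.iso (hO.rat g hg hd hrat) h
  rwa [map_zero, show g (ρR u₀) = ρR u from hgv 0] at h1

omit [Finite F] in
theorem exists_partner' {a b : Ks} (hli : LinearIndependent K ![a, b]) (hb : D.rB b b = 0)
    (hab : D.rB a b = 0) : ∃ r, D.rB r r = 0 ∧ D.rB r b = 1 ∧ D.rB r a = 0 :=
  D.exists_partner_perp hli hb (D.rB_symm_zero hab)

theorem exists_iso_pair_four (hn : 4 ≤ n) :
    ∃ a b : Ks, LinearIndependent K ![a, b] ∧ D.rB a a = 0 ∧ D.rB b b = 0 ∧ D.rB a b = 0 := by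
  obtain ⟨a, -, ha, ha0⟩ := D.exists_iso_perp_notMem (![] : Fin 0 → Ks) ⊥ (by omega) (by rw [finrank_bot]; omega)
  have ha0' : a ≠ 0 := ne_zero_of_notMem ha0
  by_contra hno
  push Not at hno
  obtain ⟨z, hz, hzS⟩ := D.exists_perp_notMem ![a] (Submodule.span K {a})
    (by rw [finrank_span_singleton ha0']; omega)
  refine hzS (D.iso_perp_mem ![a] (by omega) (Submodule.span K {a}) (fun x hxa hxx => ?_) hz)
  by_contra hxS
  exact hno a x (indep_two ha0' hxS) ha hxx (D.rB_symm_zero (hxa 0))

theorem long_of_pair (hO : Over D M) (hn : 4 ≤ n) {b t r : Ks} (hb0 : b ≠ 0) (hb : D.rB b b = 0)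
    (ht : D.rB t t = 0) (hr : D.rB r r = 0) (htb : D.rB t b = 0) (hrb : D.rB r b = 0) (hrt : D.rB r t = 1)
    {c d : F} (h1 : HasEich B M (ρR b) (c • ρR t) 0) (h2 : HasEich B M (ρR b) (d • ρR r) 0) :
    LongRoot D M (c * σ d - d * σ c) := by
  refine D.long_of_one hO hn (by rw [map_sub, map_mul, map_mul, D.herm.invol, D.herm.invol]; ring) hb0 hb ?_
  refine hasEich_congr rfl ?_ (hasEich_comm D.herm (D.B_rat_zero hb)
    (by rw [D.herm.smul_left, D.B_rat_zero htb, mul_zero]) (by rw [D.herm.smul_left, D.B_rat_zero hrb, mul_zero])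
    (by rw [map_zero, D.herm.smul_left, D.herm.smul_right, D.B_rat_zero ht]; ring)
    (by rw [map_zero, D.herm.smul_left, D.herm.smul_right, D.B_rat_zero hr]; ring) h1 h2)
  have htr : B (ρR t) (ρR r) = 1 := by rw [← D.herm.symm, D.B_rat_one hrt, map_one]
  simp only [D.herm.smul_left, D.herm.smul_right, htr, D.B_rat_one hrt, mul_one]

theorem long_of_goods (hO : Over D M) (hn : 4 ≤ n) {c d : F} (hc : Good D M c) (hd : Good D M d) :
    LongRoot D M (c * σ d - d * σ c) := by
  obtain ⟨b, t, hli, hb, ht, hbt⟩ := D.exists_iso_pair_four hn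
  obtain ⟨r, hr, hrt, hrb⟩ := D.exists_partner' hli ht hbt
  have hb0 : b ≠ 0 := fun e => by
    rw [LinearIndependent.pair_iff] at hli
    exact one_ne_zero (hli 1 0 (by simp [e])).1
  have hli' : LinearIndependent K ![b, r] := indep_two hb0 fun h => by
    obtain ⟨k, hk⟩ := Submodule.mem_span_singleton.mp h
    rw [← hk, D.rherm.smul_left, hbt, mul_zero] at hrt
    exact zero_ne_one hrt
  exact D.long_of_pair hO hn hb0 hb ht hr (D.rB_symm_zero hbt) hrb hrt (hc b t hli hb ht hbt)
    (hd b r hli' hb hr (D.rB_symm_zero hrb))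

/-- Conjugating a short root element by a long one. -/
theorem hasEich_shift (hO : Over D M) {r a b : Ks} (hb0 : b ≠ 0) (hr : D.rB r r = 0) (ha : D.rB a a = 0)
    (hb : D.rB b b = 0) (hra : D.rB r a = 0) (hba : D.rB b a = 0) (hrb : D.rB r b = 1) {c s : F}
    (hs : LongRoot D M s) (h : HasEich B M (ρR r) (c • ρR a) 0) :
    HasEich B M (ρR a) ((-σ c * s) • ρR b) (c * σ c * s) := by
  obtain ⟨g, hg, eg⟩ := hs.2 b hb0 hb
  have zaa : B (ρR a) (ρR a) = 0 := D.B_rat_zero ha
  have zra : B (ρR r) (ρR a) = 0 := D.B_rat_zero hra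
  have zba : B (ρR b) (ρR a) = 0 := D.B_rat_zero hba
  have zrr : B (ρR r) (ρR r) = 0 := D.B_rat_zero hr
  have zbr : B (ρR b) (ρR r) = 1 := by rw [← D.herm.symm, D.B_rat_one hrb, map_one]
  have er : g (ρR r) = ρR r + s • ρR b := by rw [eg, D.herm.zero_right, D.B_rat_one hrb]; simp
  have ea : g (ρR a) = ρR a := by
    rw [eg, D.herm.zero_right, D.B_rat_zero (D.rB_symm_zero hba)]; simp
  have h1 := hasEich_conj D.herm hO.iso hg h
  rw [map_smul, er, ea] at h1
  have h2 := hasEich_swap D.herm h1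
  have h3 := hasEich_inv D.herm zaa (by rw [D.herm.smul_left, zra, mul_zero])
    (by rw [map_zero, D.herm.smul_left, D.herm.smul_right, zrr]; ring) (hasEich_swap D.herm h)
  have h4 := hasEich_mul D.herm zaa (by rw [D.herm.neg_left, D.herm.smul_left, zra, mul_zero, neg_zero])
    (by rw [D.herm.smul_left, D.herm.add_left, D.herm.smul_left, zra, zba]; ring) h3 h2
  refine hasEich_congr (by module) ?_ h4
  simp only [map_zero, D.herm.neg_right, D.herm.smul_left, D.herm.smul_right, D.herm.add_left, zrr, zbr,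
    map_neg, D.herm.invol]
  ring

theorem good_smul (hO : Over D M) {c : F} (hc : Good D M c) (k : K) : Good D M (c * k) := by
  by_cases hk : k = 0
  · simpa [hk] using D.good_coe hO (0 : K)
  intro a b hli ha hb hab
  have hli' : LinearIndependent K ![a, k • b] := by
    rw [LinearIndependent.pair_iff] at hli ⊢
    intro s t e
    obtain ⟨h1, h2⟩ := hli s (t * k) (by rw [← e, smul_smul])
    exact ⟨h1, (mul_eq_zero.mp h2).resolve_right hk⟩
  have h := hc a (k • b) hli' ha (by rw [D.rherm.smul_left, D.rherm.smul_right, hb, mul_zero, mul_zero])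
    (by rw [D.rherm.smul_right, hab, mul_zero])
  rwa [ratVec_smul, smul_smul] at h

theorem good_of_long (hO : Over D M) {s : F} (hs : LongRoot D M s) : Good D M s := by
  intro a b hli ha hb hab
  obtain ⟨r, hr, hrb, hra⟩ := D.exists_partner' hli hb hab
  have hb0 : b ≠ 0 := fun e => by
    rw [e, D.rherm.zero_right] at hrb; exact zero_ne_one hrb
  have h0 := D.hasEich_rat_root hO hr ha hra (-1)
  have h1 := D.hasEich_shift hO hb0 hr ha hb hra (D.rB_symm_zero hab) hrb hs h0
  have ha0 : a ≠ 0 := fun e => by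
    rw [LinearIndependent.pair_iff] at hli
    exact one_ne_zero (hli 1 0 (by simp [e])).1
  have h2 := (D.long_neg hs).2 a ha0 ha
  have h3 := hasEich_mul D.herm (D.B_rat_zero ha)
    (by rw [D.herm.smul_left, D.B_rat_zero (D.rB_symm_zero hab), mul_zero]) (D.herm.zero_left _) h1 h2
  refine hasEich_congr ?_ ?_ h3
  · rw [add_zero, show ((-1 : K) : F) = -1 by push_cast; rfl, map_neg, map_one, neg_neg, one_mul]
  · rw [D.herm.zero_left, show ((-1 : K) : F) = -1 by push_cast; rfl, map_neg, map_one]; ring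

theorem long_trace (hO : Over D M) (hn : 4 ≤ n) {c s : F} (hc : Good D M c) (hs : LongRoot D M s) (k : K) :
    LongRoot D M ((c * σ k + k * σ c) * s) := by
  obtain ⟨a, b, hli, ha, hb, hab⟩ := D.exists_iso_pair_four hn
  obtain ⟨r, hr, hrb, hra⟩ := D.exists_partner' hli hb hab
  have ha0 : a ≠ 0 := fun e => by
    rw [LinearIndependent.pair_iff] at hli
    exact one_ne_zero (hli 1 0 (by simp [e])).1
  have hb0 : b ≠ 0 := fun e => by rw [e, D.rherm.zero_right] at hrb; exact zero_ne_one hrb
  have hr0 : r ≠ 0 := fun e => by rw [e, D.rherm.zero_left] at hrb; exact zero_ne_one hrb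
  have hli' : LinearIndependent K ![r, a] := indep_two hr0 fun h => by
    obtain ⟨l, hl⟩ := Submodule.mem_span_singleton.mp h
    have h1 : D.rB (l • r) b = 0 := by rw [hl]; exact hab
    rw [D.rherm.smul_left, hrb, mul_one] at h1
    rw [h1, zero_smul] at hl
    exact ha0 hl.symm
  have hba := D.rB_symm_zero hab
  have f : ∀ x : F, Good D M x → HasEich B M (ρR a) ((-σ x * s) • ρR b) (x * σ x * s) := fun x hx =>
    D.hasEich_shift hO hb0 hr ha hb hra hba hrb hs (hx r a hli' hr ha hra)
  have za : B (ρR a) (ρR a) = 0 := D.B_rat_zero ha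
  have zb : ∀ x : F, B (x • ρR b) (ρR a) = 0 := fun x => by rw [D.herm.smul_left, D.B_rat_zero hba, mul_zero]
  have zbb : B (ρR b) (ρR b) = 0 := D.B_rat_zero hb
  have hsσ : σ s = -s := by linear_combination hs.1
  have h1 := hasEich_mul D.herm za (zb _) (zb _) (f c hc) (f k (D.good_coe hO k))
  have h2 := hasEich_inv D.herm za (zb _) (by
    rw [map_mul, map_mul, D.herm.invol, D.herm.smul_left, D.herm.smul_right, zbb, hsσ]; ring)
    (f (c + k) (D.good_add hc (D.good_coe hO k)))
  have h3 := hasEich_mul D.herm za (by rw [D.herm.add_left, zb, zb, add_zero])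
    (by rw [D.herm.neg_left, zb, neg_zero]) h1 h2
  have hT : HasEich B M (ρR a) 0 (-((c * σ k + k * σ c) * s)) := by
    refine hasEich_congr ?_ ?_ h3
    · rw [map_add]; module
    · simp only [map_mul, map_add, map_sub, D.herm.invol, D.herm.neg_left, D.herm.smul_left, D.herm.smul_right,
        D.herm.add_right, zbb, hsσ]
      ring
  have hl := D.long_neg (D.long_of_one hO hn (by
    rw [map_neg, map_mul, map_add, map_mul, map_mul, D.herm.invol, D.herm.invol, hsσ]; ring) ha0 ha hT)
  rwa [neg_neg] at hl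

theorem good_mul_long (hO : Over D M) (hn : 4 ≤ n) {c s : F} (hc : Good D M c) (hs : LongRoot D M s) :
    Good D M (c * s) := by
  obtain ⟨o, ho, hne⟩ := D.nontrivK
  have h1 := D.good_of_long hO (D.long_trace hO hn hc hs ⟨o, ho⟩)
  have h2 := D.good_smul hO (D.good_of_long hO (D.long_trace hO hn hc hs 1)) ⟨o, ho⟩
  have h3 := D.good_smul hO (D.good_add h1 (D.good_neg h2))
    ⟨(σ o - o)⁻¹, K.inv_mem (K.sub_mem (D.stab o ho) ho)⟩
  convert h3 using 1
  have hne' : σ o - o ≠ 0 := sub_ne_zero.mpr hne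
  show c * s = _
  simp only [show ((1 : K) : F) = 1 from rfl, map_one]
  field_simp
  ring

theorem good_mul_four (hO : Over D M) (hn : 4 ≤ n) {c g : F} (hc : Good D M c) (hg : Good D M g) :
    Good D M (c * g) := by
  obtain ⟨o, ho, hne⟩ := D.nontrivK
  have h1 := D.good_mul_long hO hn hc (D.long_of_goods hO hn hg (D.good_coe hO (⟨o, ho⟩ : K)))
  have h2 := D.good_smul hO (D.good_mul_long hO hn hc (D.long_of_goods hO hn hg (D.good_coe hO (1 : K)))) ⟨o, ho⟩
  have h3 := D.good_smul hO (D.good_add h1 (D.good_neg h2))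
    ⟨(σ o - o)⁻¹, K.inv_mem (K.sub_mem (D.stab o ho) ho)⟩
  convert h3 using 1
  have hne' : σ o - o ≠ 0 := sub_ne_zero.mpr hne
  simp only [show ((1 : K) : F) = 1 from rfl, map_one]
  field_simp
  ring

theorem good_all_four (hO : Over D M) (hn : 4 ≤ n) (r : ℕ) (hr : r.Prime)
    (hcard : Nat.card F = Nat.card K ^ r) {c : F} (hc : c ∉ K) (hgood : Good D M c) (x : F) : Good D M x := by
  let S : Subalgebra K F :=
    { carrier := {x | Good D M x}
      mul_mem' := fun ha hb => D.good_mul_four hO hn ha hb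
      one_mem' := by simpa using D.good_coe hO 1
      add_mem' := fun ha hb => D.good_add ha hb
      zero_mem' := by simpa using D.good_coe hO 0
      algebraMap_mem' := fun a => D.good_coe hO a }
  haveI : Module.Finite K F := Module.Finite.of_finite
  have hdim : Module.finrank K F = r := by
    have h := Module.natCard_eq_pow_finrank (K := K) (V := F)
    rw [hcard] at h
    exact (Nat.pow_right_injective Finite.one_lt_card h).symm
  have h := Subalgebra.isSimpleOrder_of_finrank_prime K F (hdim ▸ hr)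
  rcases h.eq_bot_or_eq_top S with e | e
  · exfalso
    have hcS : c ∈ (⊥ : Subalgebra K F) := e ▸ (hgood : c ∈ S)
    obtain ⟨a, ha⟩ := Algebra.mem_bot.mp hcS
    exact hc (ha ▸ a.2)
  · exact (e ▸ Algebra.mem_top : x ∈ S)

theorem long_all (hO : Over D M) (hn : 4 ≤ n) (hgood : ∀ x, Good D M x) {b : Ks} (hb0 : b ≠ 0)
    (hb : D.rB b b = 0) {d : F} (hd : d + σ d = 0) : HasEich B M (ρR b) 0 d := by
  obtain ⟨τ, hτ⟩ := Forms.exists_add_conj_eq_one D.herm.nontriv D.herm.invol
  have h := D.long_of_goods hO hn (hgood (τ * d)) (hgood 1)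
  have e : τ * d * σ 1 - 1 * σ (τ * d) = d := by
    rw [map_one, map_mul]; linear_combination d * hτ - (σ τ) * hd
  rw [e] at h
  exact h.2 b hb0 hb

end UData

end Cfsg.Agent.Lib.SUSubfield
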